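import Cfsg.Agent.Lib.CN.Basic
import Mathlib.GroupTheory.SchurZassenhaus

/-!
# The primary components of a finite nilpotent subgroup
-/

set_option autoImplicit false
set_option linter.style.haveILetI false

namespace Cfsg.Agent.RankOneSplit

universe u

variable {G : Type u} [Group G] [Finite G]

/-- The decomposition of a nilpotent subgroup into its `p`-part and its `p'`-part. -/
theorem exists_parts {U : Subgroup G} (hU : Group.IsNilpotent U) (p : ℕ) [hp : Fact p.Prime] :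
    ∃ P C : Subgroup G, (∀ x, x ∈ P ↔ x ∈ U ∧ ∃ k, x ^ p ^ k = 1) ∧
      (∀ x, x ∈ C ↔ x ∈ U ∧ Nat.Coprime (orderOf x) p) ∧
      (∀ x ∈ P, ∀ y ∈ C, Commute x y) ∧ (∀ x ∈ U, ∃ y ∈ P, ∃ z ∈ C, x = y * z) := by
  classical
  haveI := hU
  obtain ⟨S⟩ : Nonempty (Sylow p U) := inferInstance
  haveI hSn : (S : Subgroup U).Normal :=
    ((Group.isNilpotent_of_finite_tfae (G := U)).out 0 3 rfl rfl : Group.IsNilpotent U ↔
      ∀ (q : ℕ) (_ : Fact q.Prime) (P : Sylow q U), (P : Subgroup U).Normal).mp hU p hp S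
  letI := Sylow.unique_of_normal S hSn
  have hScop : (Nat.card (S : Subgroup U)).Coprime (S : Subgroup U).index := by
    obtain ⟨n, hn⟩ := IsPGroup.iff_card.mp S.isPGroup'
    rw [hn]
    exact (hp.out.coprime_iff_not_dvd.2 S.not_dvd_index).pow_left n
  obtain ⟨K, hK⟩ := Subgroup.exists_right_complement'_of_coprime hScop
  have hKcard : Nat.card K = (S : Subgroup U).index := hK.symm.index_eq_card.symm
  have hKcop : ∀ x ∈ K, Nat.Coprime (orderOf x) p := fun x hx => by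
    refine Nat.Coprime.coprime_dvd_left ?_ (hp.out.coprime_iff_not_dvd.2 S.not_dvd_index).symm
    rw [← hKcard]
    exact Subgroup.orderOf_dvd_natCard K hx
  have hSmem : ∀ x : U, x ∈ (S : Subgroup U) ↔ ∃ k, x ^ p ^ k = 1 := fun x => by
    refine ⟨fun hx => ?_, fun ⟨k, hk⟩ => ?_⟩
    · obtain ⟨k, hk⟩ := S.isPGroup' ⟨x, hx⟩
      exact ⟨k, by simpa using congrArg Subtype.val hk⟩
    · obtain ⟨j, -, hj⟩ := (Nat.dvd_prime_pow hp.out).1 (orderOf_dvd_of_pow_eq_one hk)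
      have hz : IsPGroup p (Subgroup.zpowers x) := IsPGroup.of_card (by rw [Nat.card_zpowers, hj])
      obtain ⟨S', hS'⟩ := hz.exists_le_sylow
      rw [Subsingleton.elim S' S] at hS'
      exact hS' (Subgroup.mem_zpowers x)
  have hcomm : ∀ x ∈ (S : Subgroup U), ∀ y ∈ K, Commute (x : G) (y : G) := fun x hx y hy => by
    refine CN.commute_of_coprime hU x.2 y.2 ?_
    rw [Subgroup.orderOf_coe, Subgroup.orderOf_coe]
    obtain ⟨k, hk⟩ := (hSmem x).1 hx
    exact Nat.Coprime.coprime_dvd_left (orderOf_dvd_of_pow_eq_one hk) ((hKcop y hy).symm.pow_left k)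
  have hcover : ∀ x : U, ∃ y ∈ (S : Subgroup U), ∃ z ∈ K, x = y * z := fun x => by
    obtain ⟨⟨y, z⟩, h⟩ := hK.2 x
    exact ⟨y, y.2, z, z.2, h.symm⟩
  refine ⟨(S : Subgroup U).map U.subtype, K.map U.subtype, fun x => ?_, fun x => ?_, ?_, ?_⟩
  · constructor
    · rintro ⟨y, hy, rfl⟩
      obtain ⟨k, hk⟩ := (hSmem y).1 hy
      exact ⟨y.2, k, by simpa using congrArg Subtype.val hk⟩
    · rintro ⟨hx, k, hk⟩
      exact ⟨⟨x, hx⟩, (hSmem _).2 ⟨k, Subtype.ext (by simpa using hk)⟩, rfl⟩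
  · constructor
    · rintro ⟨y, hy, rfl⟩
      exact ⟨y.2, (Subgroup.orderOf_coe y).symm ▸ hKcop y hy⟩
    · rintro ⟨hx, hc⟩
      obtain ⟨y, hy, z, hz, he⟩ := hcover ⟨x, hx⟩
      refine ⟨⟨x, hx⟩, ?_, rfl⟩
      have hy1 : y = 1 := by
        rw [← orderOf_eq_one_iff, ← Subgroup.orderOf_coe]
        obtain ⟨k, hk⟩ := (hSmem y).1 hy
        obtain ⟨j, -, hj⟩ := (Nat.dvd_prime_pow hp.out).1 (orderOf_dvd_of_pow_eq_one hk)
        have hc2 : Nat.Coprime (orderOf (y : G)) (orderOf (z : G)) := by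
          rw [Subgroup.orderOf_coe, Subgroup.orderOf_coe, hj]
          exact ((hKcop z hz).symm).pow_left j
        have hd : orderOf (y : G) ∣ orderOf x := by
          have hx' : x = (y : G) * z := congrArg Subtype.val he
          rw [hx', (hcomm y hy z hz).orderOf_mul_eq_mul_orderOf_of_coprime hc2]
          exact dvd_mul_right _ _
        rw [Subgroup.orderOf_coe, hj] at hd ⊢
        exact Nat.eq_one_of_dvd_coprimes (hc.symm.pow_left j) dvd_rfl hd
      rw [hy1, one_mul] at he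
      exact he ▸ hz
  · rintro _ ⟨x, hx, rfl⟩ _ ⟨y, hy, rfl⟩
    exact hcomm x hx y hy
  · intro x hx
    obtain ⟨y, hy, z, hz, he⟩ := hcover ⟨x, hx⟩
    exact ⟨y, ⟨y, hy, rfl⟩, z, ⟨z, hz, rfl⟩, congrArg Subtype.val he⟩

/-- The `p`-part. -/
noncomputable def pPart {U : Subgroup G} (hU : Group.IsNilpotent U) (p : ℕ) [Fact p.Prime] :
    Subgroup G :=
  (exists_parts hU p).choose

/-- The `p'`-part. -/
noncomputable def pCompl {U : Subgroup G} (hU : Group.IsNilpotent U) (p : ℕ) [Fact p.Prime] :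
    Subgroup G :=
  (exists_parts hU p).choose_spec.choose

variable {U : Subgroup G} (hU : Group.IsNilpotent U) (p : ℕ) [hp : Fact p.Prime]

theorem mem_pPart {x : G} : x ∈ pPart hU p ↔ x ∈ U ∧ ∃ k, x ^ p ^ k = 1 :=
  (exists_parts hU p).choose_spec.choose_spec.1 x

theorem mem_pCompl {x : G} : x ∈ pCompl hU p ↔ x ∈ U ∧ Nat.Coprime (orderOf x) p :=
  (exists_parts hU p).choose_spec.choose_spec.2.1 x

theorem parts_commute {x y : G} (hx : x ∈ pPart hU p) (hy : y ∈ pCompl hU p) : Commute x y :=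
  (exists_parts hU p).choose_spec.choose_spec.2.2.1 x hx y hy

theorem parts_cover {x : G} (hx : x ∈ U) :
    ∃ y ∈ pPart hU p, ∃ z ∈ pCompl hU p, x = y * z :=
  (exists_parts hU p).choose_spec.choose_spec.2.2.2 x hx

theorem pPart_le : pPart hU p ≤ U := fun _ hx => ((mem_pPart hU p).1 hx).1

theorem pCompl_le : pCompl hU p ≤ U := fun _ hx => ((mem_pCompl hU p).1 hx).1

theorem pPart_isPGroup : IsPGroup p (pPart hU p) := fun x => by
  obtain ⟨-, k, hk⟩ := (mem_pPart hU p).1 x.2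
  exact ⟨k, Subtype.ext (by simpa using hk)⟩

theorem eq_one_of_mem_both {x : G} (hx : x ∈ pPart hU p) (hx' : x ∈ pCompl hU p) : x = 1 := by
  obtain ⟨-, k, hk⟩ := (mem_pPart hU p).1 hx
  obtain ⟨-, hc⟩ := (mem_pCompl hU p).1 hx'
  exact orderOf_eq_one_iff.1 (Nat.eq_one_of_dvd_coprimes (hc.pow_right k) dvd_rfl
    (orderOf_dvd_of_pow_eq_one hk))

theorem parts_unique {x x' y y' : G} (hx : x ∈ pPart hU p) (hx' : x' ∈ pPart hU p)
    (hy : y ∈ pCompl hU p) (hy' : y' ∈ pCompl hU p) (h : x * y = x' * y') : x = x' ∧ y = y' := by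
  have h1 : x'⁻¹ * x = y' * y⁻¹ := by
    calc x'⁻¹ * x = x'⁻¹ * (x * y) * y⁻¹ := by group
      _ = y' * y⁻¹ := by rw [h]; group
  have h2 := eq_one_of_mem_both hU p (mul_mem (inv_mem hx') hx) (h1 ▸ mul_mem hy' (inv_mem hy))
  rw [inv_mul_eq_one] at h2
  exact ⟨h2.symm, mul_left_cancel (h2.symm ▸ h)⟩

theorem pPart_conj {g : G} (hg : ∀ x ∈ U, g * x * g⁻¹ ∈ U) {x : G} (hx : x ∈ pPart hU p) :
    g * x * g⁻¹ ∈ pPart hU p := by
  obtain ⟨h1, k, hk⟩ := (mem_pPart hU p).1 hx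
  exact (mem_pPart hU p).2 ⟨hg x h1, k, by rw [conj_pow, hk, mul_one, mul_inv_cancel]⟩

theorem pCompl_conj {g : G} (hg : ∀ x ∈ U, g * x * g⁻¹ ∈ U) {x : G} (hx : x ∈ pCompl hU p) :
    g * x * g⁻¹ ∈ pCompl hU p := by
  obtain ⟨h1, hc⟩ := (mem_pCompl hU p).1 hx
  exact (mem_pCompl hU p).2 ⟨hg x h1, by rwa [show orderOf (g * x * g⁻¹) = orderOf x from
    (MulAut.conj g).orderOf_eq x]⟩

/-- A subgroup of `U` splits accordingly. -/
theorem parts_of_mem {V : Subgroup G} {x y z : G} (hy : y ∈ pPart hU p) (hz : z ∈ pCompl hU p)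
    (he : x = y * z) (hV : x ∈ V) : y ∈ V ∧ z ∈ V := by
  obtain ⟨-, k, hk⟩ := (mem_pPart hU p).1 hy
  obtain ⟨-, hc⟩ := (mem_pCompl hU p).1 hz
  have hzV : z ∈ V := by
    have h : x ^ p ^ k = z ^ p ^ k := by
      rw [he, (parts_commute hU p hy hz).mul_pow, hk, one_mul]
    have h' : z ^ p ^ k ∈ V := h ▸ pow_mem hV _
    have hin : z ∈ Subgroup.zpowers (z ^ p ^ k) :=
      mem_zpowers_pow_iff.2 (hc.pow_right k).symm
    exact (Subgroup.zpowers_le.2 h') hin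
  exact ⟨by rw [show y = x * z⁻¹ by rw [he]; group]; exact mul_mem hV (inv_mem hzV), hzV⟩

end Cfsg.Agent.RankOneSplit
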