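import Mathlib.GroupTheory.QuotientGroup.Basic
import Mathlib.GroupTheory.OrderOfElement
import Mathlib.Algebra.BigOperators.Group.Finset.Basic
import Mathlib.Data.Fintype.BigOperators

/-!
# A complement by averaging over a group of odd order
-/

set_option autoImplicit false
set_option linter.style.haveILetI false

namespace Cfsg.Agent.RankOneSplit

universe u

variable {G : Type u} [Group G] [Finite G]

/-- If `L/N` is an elementary abelian `2`-group on which `K` of odd order acts, and `W/N` consists exactly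
of the fixed cosets, then `W/N` has a `K`-invariant complement. -/
theorem exists_complement {L N W K : Subgroup G} (hNL : N ≤ L) (hsq : ∀ x ∈ L, x * x ∈ N)
    (hnorm : ∀ x ∈ L, ∀ y ∈ N, x * y * x⁻¹ ∈ N) (hKL : ∀ k ∈ K, ∀ x ∈ L, k * x * k⁻¹ ∈ L)
    (hKN : ∀ k ∈ K, ∀ x ∈ N, k * x * k⁻¹ ∈ N) (hKodd : Odd (Nat.card K)) (hWL : W ≤ L)
    (hKW : ∀ k ∈ K, ∀ w ∈ W, w⁻¹ * (k * w * k⁻¹) ∈ N)
    (hfix : ∀ x ∈ L, (∀ k ∈ K, x⁻¹ * (k * x * k⁻¹) ∈ N) → x ∈ W) :
    ∃ M : Subgroup G, N ≤ M ∧ M ≤ L ∧ (∀ x ∈ M, x ∈ W → x ∈ N) ∧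
      (∀ x ∈ L, ∃ w ∈ W, x * w ∈ M) ∧ (∀ k ∈ K, ∀ x ∈ M, k * x * k⁻¹ ∈ M) ∧
      (∀ g ∈ L, ∀ x ∈ M, g * x * g⁻¹ ∈ M) := by
  classical
  haveI : Fintype K := Fintype.ofFinite K
  set N' := N.subgroupOf L
  haveI : N'.Normal := ⟨fun n hn g => hnorm g g.2 n hn⟩
  set Q := L ⧸ N'
  have hsqQ : ∀ q : Q, q * q = 1 := fun q => by
    obtain ⟨x, rfl⟩ := QuotientGroup.mk_surjective q
    exact (QuotientGroup.eq_one_iff (N := N') (x * x)).2 (hsq x x.2)
  letI : CommGroup Q := { (inferInstance : Group Q) with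
    mul_comm := fun p q => by
      have hi : ∀ r : Q, r⁻¹ = r := fun r => inv_eq_of_mul_eq_one_right (hsqQ r)
      rw [← hi (p * q), mul_inv_rev, hi, hi] }
  let α : K → (L →* L) := fun k =>
    { toFun := fun x => ⟨(k : G) * x * (k : G)⁻¹, hKL k k.2 x x.2⟩
      map_one' := Subtype.ext (by simp)
      map_mul' := fun x y => Subtype.ext (by simp [mul_assoc]) }
  let ψ : L →* Q :=
    { toFun := fun x => ∏ k : K, QuotientGroup.mk' N' (α k x)
      map_one' := by simp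
      map_mul' := fun x y => by simp only [map_mul, Finset.prod_mul_distrib] }
  have hψK : ∀ (k : K) (x : L), ψ (α k x) = ψ x := fun k x => by
    show ∏ j : K, _ = ∏ j : K, _
    rw [← Equiv.prod_comp (Equiv.mulRight k) (fun j => QuotientGroup.mk' N' (α j x))]
    refine Finset.prod_congr rfl fun j _ => congrArg _ (Subtype.ext ?_)
    simp [α, mul_assoc]
  have hmem : ∀ x : L, QuotientGroup.mk' N' x = 1 ↔ (x : G) ∈ N := fun x => QuotientGroup.eq_one_iff x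
  have hψW : ∀ x : L, (x : G) ∈ W → ψ x = QuotientGroup.mk' N' x := by
    intro x hx
    show ∏ k : K, _ = _
    rw [Finset.prod_congr rfl fun k _ => show QuotientGroup.mk' N' (α k x) = QuotientGroup.mk' N' x from
      (QuotientGroup.eq.2 (show x⁻¹ * α k x ∈ N' from hKW k k.2 x hx)).symm, Finset.prod_const,
      Finset.card_univ, ← Nat.card_eq_fintype_card]
    obtain ⟨m, hm⟩ := hKodd
    rw [hm, pow_succ, pow_mul, pow_two, hsqQ, one_pow, one_mul]
  refine ⟨ψ.ker.map L.subtype, fun x hx => ?_, Subgroup.map_subtype_le _, ?_, ?_, ?_, ?_⟩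
  · refine ⟨⟨x, hNL hx⟩, ?_, rfl⟩
    show ∏ k : K, _ = 1
    exact Finset.prod_eq_one fun k _ => (hmem _).2 (hKN k k.2 x hx)
  · rintro _ ⟨x, hx, rfl⟩ hxW
    exact (hmem x).1 (by rw [← hψW x hxW]; exact hx)
  · intro x hx
    obtain ⟨y, hy⟩ := QuotientGroup.mk'_surjective N' (ψ ⟨x, hx⟩)
    have hyW : (y : G) ∈ W := by
      refine hfix y y.2 fun k hk => ?_
      have h : QuotientGroup.mk' N' (α ⟨k, hk⟩ y) = QuotientGroup.mk' N' y := by
        have hα : ∀ z : L, QuotientGroup.mk' N' z = 1 → QuotientGroup.mk' N' (α ⟨k, hk⟩ z) = 1 :=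
          fun z hz => (hmem _).2 (hKN k hk z ((hmem z).1 hz))
        let β : Q →* Q := QuotientGroup.lift N' ((QuotientGroup.mk' N').comp (α ⟨k, hk⟩))
          fun z hz => hα z ((QuotientGroup.eq_one_iff z).2 hz)
        calc QuotientGroup.mk' N' (α ⟨k, hk⟩ y) = β (QuotientGroup.mk' N' y) := rfl
          _ = β (ψ ⟨x, hx⟩) := by rw [hy]
          _ = ψ ⟨x, hx⟩ := by
            show β (∏ j : K, QuotientGroup.mk' N' (α j ⟨x, hx⟩)) = _
            rw [map_prod]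
            show ∏ j : K, QuotientGroup.mk' N' (α ⟨k, hk⟩ (α j ⟨x, hx⟩)) = ∏ j : K, _
            rw [← Equiv.prod_comp (Equiv.mulLeft (⟨k, hk⟩ : K))
              (fun j => QuotientGroup.mk' N' (α j ⟨x, hx⟩))]
            refine Finset.prod_congr rfl fun j _ => congrArg _ (Subtype.ext ?_)
            simp [α, mul_assoc]
          _ = QuotientGroup.mk' N' y := hy.symm
      have h' : (QuotientGroup.mk y : Q) = QuotientGroup.mk (α ⟨k, hk⟩ y) := h.symm
      have h2 := QuotientGroup.eq.1 h'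
      exact h2
    refine ⟨y, hyW, ⟨⟨x, hx⟩ * y, ?_, rfl⟩⟩
    show ψ (⟨x, hx⟩ * y) = 1
    rw [map_mul, hψW y hyW, hy, hsqQ]
  · rintro k hk _ ⟨x, hx, rfl⟩
    exact ⟨α ⟨k, hk⟩ x, (hψK ⟨k, hk⟩ x).trans hx, rfl⟩
  · rintro g hg _ ⟨x, hx, rfl⟩
    refine ⟨⟨g, hg⟩ * x * ⟨g, hg⟩⁻¹, ?_, rfl⟩
    have hx' : ψ x = 1 := hx
    show ψ _ = 1
    rw [map_mul, map_mul, map_inv, hx', mul_one, mul_inv_cancel]

end Cfsg.Agent.RankOneSplit
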