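import Cfsg.Agent.Lib.RankOne.Involutions

/-!
# Pairs of involutions
-/

set_option autoImplicit false

namespace Cfsg.Agent.RankOneSplit

open Cfsg.Agent.RankOne

variable {G : Type*} [Group G]

theorem conj_pow_invol' {x y : G} (hx : IsInvol x) (hy : IsInvol y) (k : ℕ) :
    (x * y) ^ k * x * ((x * y) ^ k)⁻¹ = (x * y) ^ (2 * k) * x := by
  calc (x * y) ^ k * x * ((x * y) ^ k)⁻¹ = (x * y) ^ k * x * (x * (x * y) ^ k * x⁻¹) := by
        rw [conj_pow_invol hx hy]
    _ = (x * y) ^ k * (x * x) * (x * y) ^ k * x⁻¹ := by simp only [mul_assoc]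
    _ = (x * y) ^ (2 * k) * x := by rw [hx.2, mul_one, ← pow_add, hx.inv_eq, two_mul]

theorem y_conj_pow {x y : G} (hx : IsInvol x) (hy : IsInvol y) (k : ℕ) :
    (y * x) ^ k * y * ((y * x) ^ k)⁻¹ = (y * x) ^ (2 * k) * y :=
  conj_pow_invol' hy hx k

/-- Two involutions with product of odd order: a conjugating element, and an involution interchanging
them, centralised by the common centraliser. -/
theorem odd_conj [Finite G] {x y : G} (hx : IsInvol x) (hy : IsInvol y) (h : Odd (orderOf (x * y))) :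
    ∃ g j : G, g * x * g⁻¹ = y ∧ IsInvol j ∧ j * x * j = y ∧
      (∀ z, Commute z x → Commute z y → Commute z g ∧ Commute z j) := by
  obtain ⟨m, hm⟩ := h
  set r := x * y with hr
  have hy' : r ^ (2 * m) * x = y := by
    have h1 : r ^ (2 * m) * r = 1 := by rw [← pow_succ, ← hm, pow_orderOf_eq_one]
    calc r ^ (2 * m) * x = r ^ (2 * m) * x * (y * y) := by rw [hy.2, mul_one]
      _ = r ^ (2 * m) * r * y := by rw [hr]; simp only [mul_assoc]
      _ = y := by rw [h1, one_mul]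
  have hg : r ^ m * x * (r ^ m)⁻¹ = y := by rw [hr, conj_pow_invol' hx hy, ← hr, hy']
  refine ⟨r ^ m, r ^ m * x, hg, ⟨fun e => ?_, ?_⟩, ?_, fun z hzx hzy => ?_⟩
  · have hxr : x = (r ^ m)⁻¹ := eq_inv_of_mul_eq_one_right e
    have : y = x := by rw [← hg, hxr]; group
    have hr1 : r = 1 := by rw [hr, this, hx.2]
    rw [hr1, one_pow, one_mul] at e
    exact hx.1 e
  · have h2 : x * r ^ m * x⁻¹ = (r ^ m)⁻¹ := conj_pow_invol hx hy m
    rw [hx.inv_eq] at h2
    calc r ^ m * x * (r ^ m * x) = r ^ m * (x * r ^ m * x) := by simp only [mul_assoc]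
      _ = 1 := by rw [h2, mul_inv_cancel]
  · have h2 : x * r ^ m * x⁻¹ = (r ^ m)⁻¹ := conj_pow_invol hx hy m
    calc r ^ m * x * x * (r ^ m * x) = r ^ m * (x * x) * r ^ m * x := by simp only [mul_assoc]
      _ = r ^ (2 * m) * x := by rw [hx.2, mul_one, ← pow_add, two_mul]
      _ = y := hy'
  · have hzr : Commute z (r ^ m) := (hzx.mul_right hzy).pow_right m
    exact ⟨hzr, hzr.mul_right hzx⟩

/-- Two involutions with product of even order. -/
theorem even_split [Finite G] {x y : G} (hx : IsInvol x) (hy : IsInvol y)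
    (h : ¬ Odd (orderOf (x * y))) :
    ∃ u : G, IsInvol u ∧ Commute u x ∧ Commute u y ∧
      (∀ z, Commute z x → Commute z y → Commute z u) ∧
      (((∃ g, g * x * g⁻¹ = x * u) ∧ (∃ g, g * y * g⁻¹ = y * u)) ∨
        ((∃ g, g * y * g⁻¹ = x * u) ∧ (∃ g, g * x * g⁻¹ = y * u))) := by
  obtain ⟨k, hk⟩ := Nat.not_odd_iff_even.1 h
  have hpos := orderOf_pos (x * y)
  set r := x * y with hr
  set u := r ^ k with hu
  have hu1 : u ≠ 1 := pow_ne_one_of_lt_orderOf (by omega) (by omega)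
  have hu2 : u * u = 1 := by rw [hu, ← pow_add, ← hk, pow_orderOf_eq_one]
  have hui : u⁻¹ = u := inv_eq_of_mul_eq_one_right hu2
  have hux : Commute u x := by
    have h1 := conj_pow_invol hx hy k
    rw [← hr, ← hu, hui] at h1
    exact (mul_inv_eq_iff_eq_mul.1 h1).symm
  have huy : Commute u y := by
    have h2 : Commute u r := Commute.pow_left (Commute.refl r) k
    have h3 : y = x * r := by rw [hr, ← mul_assoc, hx.2, one_mul]
    rw [h3]
    exact hux.mul_right h2
  refine ⟨u, ⟨hu1, hu2⟩, hux, huy, fun z hzx hzy => (hzx.mul_right hzy).pow_right k, ?_⟩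
  have hyr : (y * x) ^ k = u := by
    rw [show y * x = r⁻¹ by rw [hr, mul_inv_rev, hx.inv_eq, hy.inv_eq], inv_pow, ← hu, hui]
  rcases Nat.even_or_odd k with ⟨l, hl⟩ | ⟨l, hl⟩
  · left
    refine ⟨⟨r ^ l, ?_⟩, ⟨(y * x) ^ l, ?_⟩⟩
    · rw [hr, conj_pow_invol' hx hy, ← hr, show 2 * l = k by omega, ← hu, hux.eq]
    · rw [y_conj_pow hx hy, show 2 * l = k by omega, hyr, huy.eq]
  · right
    refine ⟨⟨(y * x) ^ l * y, ?_⟩, ⟨r ^ l * x, ?_⟩⟩
    · calc (y * x) ^ l * y * y * ((y * x) ^ l * y)⁻¹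
          = (y * x) ^ l * y * ((y * x) ^ l)⁻¹ := by rw [mul_inv_rev, hy.inv_eq]; simp [mul_assoc, hy.2]
        _ = (y * x) ^ (2 * l) * y := y_conj_pow hx hy l
        _ = (y * x) ^ k * x := by
          rw [hl, pow_succ, mul_assoc, mul_assoc y x, hx.2, mul_one]
        _ = x * u := by rw [hyr, hux.eq]
    · calc r ^ l * x * x * (r ^ l * x)⁻¹ = r ^ l * x * (r ^ l)⁻¹ := by
            rw [mul_inv_rev, hx.inv_eq]; simp [mul_assoc, hx.2]
        _ = r ^ (2 * l) * x := conj_pow_invol' hx hy l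
        _ = r ^ k * y := by rw [hl, pow_succ, mul_assoc, hr, mul_assoc x y, hy.2, mul_one]
        _ = y * u := by rw [← hu, huy.eq]

end Cfsg.Agent.RankOneSplit
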