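import Cfsg.Agent.Lib.RankOneSplit.NilParts
import Cfsg.Agent.Lib.RankOneSplit.Dihedral

/-!
# Doubly transitive groups whose point stabiliser has a normal nilpotent subgroup transitive on the rest
-/

set_option autoImplicit false
set_option linter.unusedSectionVars false
set_option linter.style.haveILetI false

namespace Cfsg.Agent.RankOneSplit

open MulAction Cfsg.Agent.RankOne

universe u v

variable {G : Type u} {Ω : Type v} [Group G] [MulAction G Ω]

/-- `G` is doubly transitive of odd degree, `U` is a nilpotent normal subgroup of the stabiliser of `a`,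
transitive on the other points and containing every `2`-element fixing `a`. -/
structure SplitPerm (a : Ω) (U : Subgroup G) : Prop where
  two : IsMultiplyPretransitive G Ω 2
  le : U ≤ stabilizer G a
  conj_mem : ∀ h ∈ stabilizer G a, ∀ x ∈ U, h * x * h⁻¹ ∈ U
  trans : ∀ c d : Ω, c ≠ a → d ≠ a → ∃ x ∈ U, x • c = d
  nilp : Group.IsNilpotent U
  two_mem : ∀ x : G, x • a = a → (∃ k, x ^ 2 ^ k = 1) → x ∈ U
  finite : Finite Ω
  odd_points : Odd (Nat.card Ω)
  nontriv : ∃ b : Ω, b ≠ a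

/-- If `G_a = U H` with `H` of odd order then `U` contains the `2`-elements fixing `a`. -/
theorem two_mem_of_cover [Finite G] {U H : Subgroup G} {a : Ω}
    (hn : ∀ h ∈ stabilizer G a, ∀ x ∈ U, h * x * h⁻¹ ∈ U) (hH : H ≤ stabilizer G a)
    (hodd : Odd (Nat.card H)) (hc : ∀ g ∈ stabilizer G a, ∃ x ∈ U, ∃ h ∈ H, g = x * h) {x : G}
    (hx : x • a = a) (h2 : ∃ k, x ^ 2 ^ k = 1) : x ∈ U := by
  obtain ⟨k, hk⟩ := h2
  obtain ⟨u, hu, d, hd, rfl⟩ := hc x hx
  have hpow : ∀ m : ℕ, ∃ u' ∈ U, (u * d) ^ m = u' * d ^ m := by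
    intro m
    induction m with
    | zero => exact ⟨1, one_mem _, by simp⟩
    | succ m ih =>
      obtain ⟨u', hu', he⟩ := ih
      refine ⟨u' * (d ^ m * u * (d ^ m)⁻¹), mul_mem hu' (hn _ (pow_mem (hH hd) m) u hu), ?_⟩
      rw [pow_succ, he, pow_succ]; group
  obtain ⟨u', hu', he⟩ := hpow (Nat.card H)
  have hd1 : d ^ Nat.card H = 1 :=
    orderOf_dvd_iff_pow_eq_one.1 (Subgroup.orderOf_dvd_natCard H hd)
  rw [hd1, mul_one] at he
  have hco : Nat.Coprime (Nat.card H) (orderOf (u * d)) :=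
    Nat.Coprime.coprime_dvd_right (orderOf_dvd_of_pow_eq_one hk)
      ((Nat.coprime_two_right.2 hodd).pow_right k)
  exact (Subgroup.zpowers_le.2 (he ▸ hu')) (mem_zpowers_pow_iff.2 hco)

/-- The elementary central subgroup `Ω₁(Z(T))` of the Sylow `2`-subgroup `T` of `U`. -/
noncomputable def omegaZ [Finite G] {U : Subgroup G} (hU : Group.IsNilpotent U) : Subgroup G where
  carrier := {x | x ∈ pPart hU 2 ∧ x * x = 1 ∧ ∀ y ∈ pPart hU 2, Commute x y}
  one_mem' := ⟨one_mem _, one_mul 1, fun y _ => Commute.one_left y⟩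
  mul_mem' := by
    rintro x y ⟨hx, hx2, hxc⟩ ⟨hy, hy2, hyc⟩
    refine ⟨mul_mem hx hy, ?_, fun w hw => (hxc w hw).mul_left (hyc w hw)⟩
    calc x * y * (x * y) = x * (y * x) * y := by group
      _ = x * (x * y) * y := by rw [(hxc y hy).eq]
      _ = (x * x) * (y * y) := by group
      _ = 1 := by rw [hx2, hy2, one_mul]
  inv_mem' := by
    rintro x ⟨hx, hx2, hxc⟩
    refine ⟨inv_mem hx, ?_, fun w hw => (hxc w hw).inv_left⟩
    rw [← mul_inv_rev, hx2, inv_one]

section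

variable [Finite G] [FaithfulSMul G Ω] {a : Ω} {U : Subgroup G} (hS : SplitPerm a U)
include hS

/-- `T`. -/
noncomputable abbrev SplitPerm.T : Subgroup G := pPart hS.nilp 2

/-- `A`. -/
noncomputable abbrev SplitPerm.A : Subgroup G := omegaZ hS.nilp

theorem pretrans (c d : Ω) : ∃ g : G, g • c = d := by
  obtain ⟨b, hb⟩ := hS.nontriv
  have h2 := hS.two
  have key : ∀ e : Ω, ∃ g : G, g • a = e := fun e => by
    by_cases he : e = a
    · exact ⟨1, by rw [one_smul, he]⟩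
    · obtain ⟨g, hg, -⟩ := MulAction.is_two_pretransitive_iff.1 h2 hb.symm he
      exact ⟨g, hg⟩
  obtain ⟨g, rfl⟩ := key c
  obtain ⟨g', rfl⟩ := key d
  exact ⟨g' * g⁻¹, by rw [mul_smul, inv_smul_smul]⟩

theorem smul_a_of_mem {x : G} (hx : x ∈ U) : x • a = a := hS.le hx

theorem exists_stab_factor {g : G} (hg : g • a = a) {c : Ω} (hc : c ≠ a) :
    ∃ x ∈ U, (x⁻¹ * g) • a = a ∧ (x⁻¹ * g) • c = c := by
  have hgc : g • c ≠ a := fun e => hc (MulAction.injective g (e.trans hg.symm))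
  obtain ⟨x, hx, e⟩ := hS.trans c (g • c) hc hgc
  refine ⟨x, hx, ?_, ?_⟩
  · rw [mul_smul, hg, inv_smul_eq_iff, smul_a_of_mem hS hx]
  · rw [mul_smul, ← e, inv_smul_smul]

/-- A normal set of `U` fixing a point other than `a` is trivial. -/
theorem eq_one_of_normal {V : Set G} (hn : ∀ u ∈ U, ∀ v ∈ V, u * v * u⁻¹ ∈ V)
    (ha : ∀ v ∈ V, v • a = a) {c : Ω} (hc : c ≠ a)
    (hfix : ∀ v ∈ V, v • c = c) {v : G} (hv : v ∈ V) : v = 1 := by
  refine FaithfulSMul.eq_of_smul_eq_smul (α := Ω) fun d => ?_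
  rw [one_smul]
  by_cases hd : d = a
  · rw [hd, ha v hv]
  · obtain ⟨u, hu, rfl⟩ := hS.trans c d hc hd
    have := hfix _ (hn u⁻¹ (inv_mem hu) v hv)
    rwa [mul_smul, mul_smul, inv_inv, inv_smul_eq_iff] at this

theorem eq_one_of_central {x : G} (hx : x • a = a) (hcen : ∀ u ∈ U, Commute u x) {c : Ω} (hc : c ≠ a)
    (hfix : x • c = c) : x = 1 := by
  refine eq_one_of_normal hS (V := {x}) ?_ (by rintro _ rfl; exact hx) hc (by rintro _ rfl; exact hfix) rfl
  rintro u hu _ rfl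
  rw [Set.mem_singleton_iff, (hcen u hu).eq, mul_inv_cancel_right]

theorem mem_A {x : G} : x ∈ hS.A ↔ x ∈ hS.T ∧ x * x = 1 ∧ ∀ y ∈ hS.T, Commute x y := Iff.rfl

theorem A_le_T : hS.A ≤ hS.T := fun _ hx => hx.1

theorem A_le : hS.A ≤ U := fun _ hx => pPart_le hS.nilp 2 hx.1

theorem A_central {x : G} (hx : x ∈ hS.A) {y : G} (hy : y ∈ U) : Commute x y := by
  obtain ⟨y₁, h₁, y₂, h₂, rfl⟩ := parts_cover hS.nilp 2 hy
  exact (hx.2.2 y₁ h₁).mul_right (parts_commute hS.nilp 2 hx.1 h₂)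

theorem two_mem_T {x : G} (hxa : x • a = a) (h2 : ∃ k, x ^ 2 ^ k = 1) : x ∈ hS.T :=
  (mem_pPart hS.nilp 2).2 ⟨hS.two_mem x hxa h2, h2⟩

theorem invol_mem_T {x : G} (hx : IsInvol x) (hxa : x • a = a) : x ∈ hS.T :=
  two_mem_T hS hxa ⟨1, by rw [pow_one, pow_two, hx.2]⟩

theorem T_conj {g : G} (hg : g • a = a) {x : G} (hx : x ∈ hS.T) : g * x * g⁻¹ ∈ hS.T :=
  pPart_conj hS.nilp 2 (hS.conj_mem g hg) hx

theorem A_conj {g : G} (hg : g • a = a) {x : G} (hx : x ∈ hS.A) : g * x * g⁻¹ ∈ hS.A := by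
  refine ⟨T_conj hS hg hx.1, by rw [conj_mul, hx.2.1, mul_one, mul_inv_cancel], fun y hy => ?_⟩
  have hy' : g⁻¹ * y * g ∈ hS.T := by
    have := T_conj hS (g := g⁻¹) (inv_smul_eq_iff.2 hg.symm) hy
    rwa [inv_inv] at this
  have h := congrArg (fun w => g * w * g⁻¹) (hx.2.2 _ hy').eq
  show g * x * g⁻¹ * y = y * (g * x * g⁻¹)
  calc g * x * g⁻¹ * y = g * (x * (g⁻¹ * y * g)) * g⁻¹ := by group
    _ = g * ((g⁻¹ * y * g) * x) * g⁻¹ := h
    _ = y * (g * x * g⁻¹) := by group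

theorem A_fix {z : G} (hz : z ∈ hS.A) (hz1 : z ≠ 1) {c : Ω} (hc : z • c = c) : c = a := by
  by_contra hca
  exact hz1 (eq_one_of_central hS (smul_a_of_mem hS (A_le hS hz))
    (fun u hu => (A_central hS hz hu).symm) hca hc)

theorem even_card_U : Even (Nat.card U) := by
  obtain ⟨b, hb⟩ := hS.nontriv
  have := hS.finite
  let W : Set Ω := {c | c ≠ a}
  have hW : orbit U b = W := by
    ext c
    constructor
    · rintro ⟨x, rfl⟩ e
      have e' : (x : G) • b = a := e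
      exact hb (MulAction.injective (x : G) (e'.trans (smul_a_of_mem hS x.2).symm))
    · intro hc
      obtain ⟨x, hx, e⟩ := hS.trans b c hb hc
      exact ⟨⟨x, hx⟩, e⟩
  have h1 : Nat.card W + 1 = Nat.card Ω := by
    rw [Nat.card_coe_set_eq, show W = ({a} : Set Ω)ᶜ from rfl, ← Set.ncard_add_ncard_compl ({a} : Set Ω),
      Set.ncard_singleton, add_comm]
  have h2 : Nat.card W ∣ Nat.card U := by
    rw [← hW, Nat.card_congr (orbitEquivQuotientStabilizer U b)]
    exact Subgroup.card_quotient_dvd_card _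
  have h3 : Even (Nat.card W) := by
    obtain ⟨m, hm⟩ := hS.odd_points
    exact ⟨m, by omega⟩
  exact even_iff_two_dvd.2 ((even_iff_two_dvd.1 h3).trans h2)

theorem exists_A : ∃ z ∈ hS.A, z ≠ 1 := by
  haveI := Fact.mk Nat.prime_two
  obtain ⟨x, hx⟩ := exists_prime_orderOf_dvd_card' (G := U) 2 (even_iff_two_dvd.1 (even_card_U hS))
  have hxT : (x : G) ∈ hS.T := by
    refine (mem_pPart hS.nilp 2).2 ⟨x.2, 1, ?_⟩
    rw [pow_one, ← hx, ← Subgroup.orderOf_coe, pow_orderOf_eq_one]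
  haveI : Nontrivial hS.T := by
    refine (Subgroup.nontrivial_iff_ne_bot _).2 fun h => ?_
    rw [h, Subgroup.mem_bot, OneMemClass.coe_eq_one] at hxT
    rw [hxT, orderOf_one] at hx
    norm_num at hx
  haveI := (pPart_isPGroup hS.nilp 2).center_nontrivial
  obtain ⟨n, hn, hn'⟩ := (IsPGroup.nontrivial_iff_card
    ((pPart_isPGroup hS.nilp 2).to_subgroup (Subgroup.center hS.T))).1 inferInstance
  obtain ⟨z, hz⟩ := exists_prime_orderOf_dvd_card' (G := Subgroup.center hS.T) 2 (hn' ▸ dvd_pow_self 2 hn.ne')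
  refine ⟨((z : hS.T) : G), ⟨(z : hS.T).2, ?_, fun y hy => ?_⟩, ?_⟩
  · have h := pow_orderOf_eq_one z
    rw [hz, pow_two] at h
    simpa using congrArg (fun w : Subgroup.center hS.T => ((w : hS.T) : G)) h
  · exact (congrArg Subtype.val (Subgroup.mem_center_iff.1 z.2 ⟨y, hy⟩)).symm
  · intro h
    have : z = 1 := Subtype.ext (Subtype.ext h)
    rw [this, orderOf_one] at hz
    norm_num at hz

omit hS in
/-- `x` is an involution conjugate into `A`, attached to the point `c`. -/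
def AType {a : Ω} {U : Subgroup G} (hS : SplitPerm a U) (x : G) (c : Ω) : Prop :=
  x ≠ 1 ∧ ∃ g : G, g • a = c ∧ g⁻¹ * x * g ∈ hS.A

theorem atype_base {x : G} (hx : x ∈ hS.A) (hx1 : x ≠ 1) : AType hS x a :=
  ⟨hx1, 1, one_smul _ _, by simpa using hx⟩

theorem atype_mem {x : G} (h : AType hS x a) : x ∈ hS.A := by
  obtain ⟨-, g, hg, hgx⟩ := h
  have := A_conj hS hg hgx
  simpa [mul_assoc] using this

theorem atype_invol {x : G} {c : Ω} (h : AType hS x c) : IsInvol x := by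
  obtain ⟨h1, g, -, hgx⟩ := h
  refine ⟨h1, ?_⟩
  have := hgx.2.1
  calc x * x = g * (g⁻¹ * x * g * (g⁻¹ * x * g)) * g⁻¹ := by group
    _ = 1 := by rw [this]; group

theorem atype_fixes {x : G} {c : Ω} (h : AType hS x c) : x • c = c := by
  obtain ⟨-, g, hg, hgx⟩ := h
  have := smul_a_of_mem hS (A_le hS hgx)
  rw [mul_smul, mul_smul, inv_smul_eq_iff, hg] at this
  exact this

theorem atype_unique {x : G} {c d : Ω} (h : AType hS x c) (hd : x • d = d) : d = c := by
  obtain ⟨h1, g, hg, hgx⟩ := h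
  have h2 : g⁻¹ • d = a := A_fix hS hgx (fun e => h1 (by
    calc x = g * (g⁻¹ * x * g) * g⁻¹ := by group
      _ = 1 := by rw [e]; group)) (by rw [mul_smul, mul_smul, smul_inv_smul, hd])
  rw [inv_smul_eq_iff, hg] at h2
  exact h2

theorem atype_conj {x : G} {c : Ω} (h : AType hS x c) (g : G) : AType hS (g * x * g⁻¹) (g • c) := by
  obtain ⟨h1, k, hk, hkx⟩ := h
  refine ⟨fun e => h1 (conj_eq_one_iff.1 e), g * k, by rw [mul_smul, hk], ?_⟩
  rw [show (g * k)⁻¹ * (g * x * g⁻¹) * (g * k) = k⁻¹ * x * k by group]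
  exact hkx

theorem atype_point {x : G} {c d : Ω} (h : AType hS x c) (hd : x • d = d) : AType hS x d :=
  atype_unique hS h hd ▸ h

theorem atype_mul {x y : G} {c : Ω} (hx : AType hS x c) (hy : AType hS y c) (hne : x * y ≠ 1) :
    AType hS (x * y) c := by
  obtain ⟨-, g, hg, hgx⟩ := hx
  obtain ⟨h1, k, hk, hky⟩ := hy
  refine ⟨hne, g, hg, ?_⟩
  have hgy : g⁻¹ * y * g ∈ hS.A := by
    have hgk : (g⁻¹ * k) • a = a := by rw [mul_smul, hk, ← hg, inv_smul_smul]
    have h := A_conj hS hgk hky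
    rwa [show g⁻¹ * k * (k⁻¹ * y * k) * (g⁻¹ * k)⁻¹ = g⁻¹ * y * g by group] at h
  rw [show g⁻¹ * (x * y) * g = g⁻¹ * x * g * (g⁻¹ * y * g) by group]
  exact mul_mem hgx hgy

theorem exists_atype (c : Ω) : ∃ x, AType hS x c := by
  obtain ⟨z, hz, hz1⟩ := exists_A hS
  obtain ⟨g, hg⟩ := pretrans hS a c
  exact ⟨g * z * g⁻¹, hg ▸ atype_conj hS (atype_base hS hz hz1) g⟩

/-- An element of type `A` centralises the `2`-elements fixing its point. -/
theorem atype_commute {x : G} {c : Ω} (h : AType hS x c) {y : G} (hy : y • c = c)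
    (h2 : ∃ k, y ^ 2 ^ k = 1) : Commute x y := by
  obtain ⟨-, g, hg, hgx⟩ := h
  have hy' : g⁻¹ * y * g ∈ hS.T := two_mem_T hS (by rw [mul_smul, mul_smul, hg, hy, ← hg, inv_smul_smul])
    (by
      obtain ⟨k, hk⟩ := h2
      exact ⟨k, by
        rw [show g⁻¹ * y * g = g⁻¹ * y * g⁻¹⁻¹ by rw [inv_inv], conj_pow, hk, mul_one, mul_inv_cancel]⟩)
  have h := congrArg (fun w => g * w * g⁻¹) (hgx.2.2 _ hy').eq
  show x * y = y * x
  calc x * y = g * (g⁻¹ * x * g * (g⁻¹ * y * g)) * g⁻¹ := by group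
    _ = g * (g⁻¹ * y * g * (g⁻¹ * x * g)) * g⁻¹ := h
    _ = y * x := by group

omit hS in
theorem smul_eq_of_commute {x y : G} {c : Ω} (hxy : Commute y x) (hx : x • c = c) :
    x • (y • c) = y • c := by
  rw [← mul_smul, ← hxy.eq, mul_smul, hx]

theorem atype_commute_fixes {x u : G} {c : Ω} (h : AType hS x c) (hc : Commute u x) : u • c = c :=
  atype_unique hS h (smul_eq_of_commute hc (atype_fixes hS h))

/-- Involutions of type `A` at different points have a product of odd order. -/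
theorem atype_odd {x y : G} {c d : Ω} (hx : AType hS x c) (hy : AType hS y d) (hne : c ≠ d) :
    Odd (orderOf (x * y)) := by
  by_contra h
  obtain ⟨u, hu, hux, huy, -, hcases⟩ := even_split (atype_invol hS hx) (atype_invol hS hy) h
  have huc : u • c = c := atype_commute_fixes hS hx hux
  have hud : u • d = d := atype_commute_fixes hS hy huy
  have hA : ∀ {e : Ω} {z w : G}, AType hS z e → (∃ g, g * z * g⁻¹ = w) → ∃ e', AType hS w e' := by
    rintro e z w hz ⟨g, rfl⟩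
    exact ⟨_, atype_conj hS hz g⟩
  obtain ⟨e, he⟩ : ∃ e, AType hS (x * u) e := by
    rcases hcases with ⟨h1, -⟩ | ⟨h1, -⟩
    · exact hA hx h1
    · exact hA hy h1
  have hxu : (x * u) • c = c := by rw [mul_smul, huc, atype_fixes hS hx]
  have h2 : AType hS (x * (x * u)) c := atype_mul hS hx (atype_point hS he hxu) (by
    rw [← mul_assoc, (atype_invol hS hx).2, one_mul]; exact hu.1)
  rw [← mul_assoc, (atype_invol hS hx).2, one_mul] at h2
  exact hne (atype_unique hS h2 hud).symm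

/-- Interchanging two involutions of type `A` at different points inside their common centraliser. -/
theorem atype_swap {x y : G} {c d : Ω} (hx : AType hS x c) (hy : AType hS y d) (hne : c ≠ d) :
    ∃ g j : G, g * x * g⁻¹ = y ∧ g • c = d ∧ IsInvol j ∧ j * x * j = y ∧ j • c = d ∧
      (∀ z, Commute z x → Commute z y → Commute z g ∧ Commute z j) := by
  obtain ⟨g, j, hg, hj, hjx, hc⟩ := odd_conj (atype_invol hS hx) (atype_invol hS hy) (atype_odd hS hx hy hne)
  refine ⟨g, j, hg, ?_, hj, hjx, ?_, hc⟩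
  · exact atype_unique hS hy (atype_fixes hS (hg ▸ atype_conj hS hx g))
  · have hj' : j * x * j⁻¹ = y := by rw [hj.inv_eq]; exact hjx
    exact atype_unique hS hy (atype_fixes hS (hj' ▸ atype_conj hS hx j))

/-- Any two non-trivial elements of `A` are conjugate in the stabiliser of `a`. -/
theorem A_transitive {z z' : G} (hz : z ∈ hS.A) (hz1 : z ≠ 1) (hz' : z' ∈ hS.A) (hz1' : z' ≠ 1) :
    ∃ g : G, g • a = a ∧ g * z * g⁻¹ = z' := by
  obtain ⟨b, hb⟩ := hS.nontriv
  obtain ⟨x, hx⟩ := exists_atype hS b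
  obtain ⟨g, -, hg, hga, -⟩ := atype_swap hS (atype_base hS hz hz1) hx hb.symm
  obtain ⟨k, -, hk, hka, -⟩ := atype_swap hS (atype_base hS hz' hz1') hx hb.symm
  refine ⟨k⁻¹ * g, by rw [mul_smul, hga, ← hka, inv_smul_smul], ?_⟩
  calc k⁻¹ * g * z * (k⁻¹ * g)⁻¹ = k⁻¹ * (g * z * g⁻¹) * k := by group
    _ = z' := by rw [hg, ← hk]; group

end

end Cfsg.Agent.RankOneSplit
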