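import Cfsg.Agent.Lib.RankOneSplit.Basic
import Mathlib.Data.Fintype.BigOperators

/-!
# The fixed points of the involutions outside the classes of `A`
-/

set_option autoImplicit false
set_option linter.unusedSectionVars false
set_option linter.style.haveILetI false
set_option linter.unusedVariables false

namespace Cfsg.Agent.RankOneSplit

open MulAction Cfsg.Agent.RankOne

universe u v

variable {G : Type u} {Ω : Type v} [Group G] [MulAction G Ω]

/-- The number of fixed points. -/
noncomputable def fixCard (Ω : Type v) [MulAction G Ω] (x : G) : ℕ := Nat.card {c : Ω // x • c = c}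

theorem fixCard_conj (g x : G) : fixCard Ω (g * x * g⁻¹) = fixCard Ω x := by
  refine (Nat.card_congr ?_).symm
  exact
    { toFun := fun c => ⟨g • c.1, by rw [mul_smul, mul_smul, inv_smul_smul, c.2]⟩
      invFun := fun c => ⟨g⁻¹ • c.1, by
        have := congrArg (g⁻¹ • ·) c.2
        simpa [mul_smul] using this⟩
      left_inv := fun c => Subtype.ext (inv_smul_smul g c.1)
      right_inv := fun c => Subtype.ext (smul_inv_smul g c.1) }

variable [Finite G] [FaithfulSMul G Ω] {a : Ω} {U : Subgroup G} (hS : SplitPerm a U)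

/-- An involution fixing `a` and outside `A`. -/
structure NonA (y : G) : Prop where
  invol : IsInvol y
  fix : y • a = a
  not_mem : y ∉ hS.A

include hS

theorem invol_two {y : G} (hy : IsInvol y) : ∃ k, y ^ 2 ^ k = 1 := ⟨1, by rw [pow_one, pow_two, hy.2]⟩

theorem invol_atype_commute {y w : G} {p : Ω} (hy : IsInvol y) (hyp : y • p = p)
    (hw : AType hS w p) : Commute w y :=
  atype_commute hS hw hyp (invol_two hS hy)

theorem NonA.not_atype {y : G} (hy : NonA hS y) (c : Ω) : ¬ AType hS y c := fun h =>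
  hy.not_mem (atype_mem hS (atype_point hS h hy.fix))

theorem NonA.mul_mem {y : G} (hy : NonA hS y) {w : G} (hw : w ∈ hS.A) : NonA hS (y * w) where
  invol := by
    refine ⟨fun e => hy.not_mem ?_, ?_⟩
    · rw [eq_inv_of_mul_eq_one_left e]; exact inv_mem hw
    · have hc : Commute w y := hw.2.2 y (invol_mem_T hS hy.invol hy.fix)
      calc y * w * (y * w) = y * (w * y) * w := by group
        _ = y * (y * w) * w := by rw [hc.eq]
        _ = (y * y) * (w * w) := by group
        _ = 1 := by rw [hy.invol.2, hw.2.1, one_mul]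
  fix := by rw [mul_smul, smul_a_of_mem hS (A_le hS hw), hy.fix]
  not_mem h := hy.not_mem (by
    have := Subgroup.mul_mem _ h (inv_mem hw)
    rwa [mul_inv_cancel_right] at this)

/-- The centraliser of `y` is transitive on its fixed points. -/
theorem centralizer_transitive {y : G} (hy : IsInvol y) {p q : Ω} (hp : y • p = p) (hq : y • q = q) :
    ∃ g : G, Commute g y ∧ g • p = q := by
  by_cases h : p = q
  · exact ⟨1, Commute.one_left y, by rw [one_smul, h]⟩
  obtain ⟨x, hx⟩ := exists_atype hS p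
  obtain ⟨x', hx'⟩ := exists_atype hS q
  obtain ⟨g, j, -, hg, -, -, -, hc⟩ := atype_swap hS hx hx' h
  exact ⟨g, (hc y (invol_atype_commute hS hy hp hx).symm (invol_atype_commute hS hy hq hx').symm).1.symm, hg⟩

/-- A pair `(p, w)` responsible for a point moved by `y`. -/
def IsPair {a : Ω} {U : Subgroup G} (hS : SplitPerm a U) (y : G) (c p : Ω) (w : G) : Prop :=
  y • p = p ∧ AType hS w p ∧ (y * w) • c = c

theorem exists_pair {y : G} (hy : NonA hS y) {c : Ω} (hc : y • c ≠ c) :
    ∃ p w, IsPair hS y c p w := by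
  obtain ⟨x, hx⟩ := exists_atype hS c
  have hxi := atype_invol hS hx
  by_cases hodd : Odd (orderOf (y * x))
  · exfalso
    obtain ⟨g, j, hg, -, -, -⟩ := odd_conj hy.invol hxi hodd
    refine hy.not_atype hS (g⁻¹ • c) ?_
    have := atype_conj hS hx g⁻¹
    rwa [← hg, show g⁻¹ * (g * y * g⁻¹) * g⁻¹⁻¹ = y by group] at this
  obtain ⟨u, hu, huy, hux, -, hcases⟩ := even_split hy.invol hxi hodd
  have huc : u • c = c := atype_commute_fixes hS hx hux
  have hxu : ∀ e, ¬ AType hS (x * u) e := fun e he => by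
    have h2 : AType hS (x * (x * u)) c := atype_mul hS hx
      (atype_point hS he (by rw [mul_smul, huc, atype_fixes hS hx]))
      (by rw [← mul_assoc, hxi.2, one_mul]; exact hu.1)
    rw [← mul_assoc, hxi.2, one_mul] at h2
    exact hc (atype_commute_fixes hS h2 huy.symm)
  rcases hcases with ⟨-, g, hg⟩ | ⟨⟨g, hg⟩, -⟩
  · exact absurd (hg ▸ atype_conj hS hx g) (hxu _)
  have hw : AType hS (y * u) (g • c) := hg ▸ atype_conj hS hx g
  refine ⟨g • c, y * u, atype_commute_fixes hS hw ?_, hw, ?_⟩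
  · exact (Commute.refl y).mul_right huy.symm
  · rw [← mul_assoc, hy.invol.2, one_mul, huc]

theorem pair_ne {y : G} {c p : Ω} {w : G} (hc : y • c ≠ c) (h : IsPair hS y c p w) : p ≠ c :=
  fun e => hc (e ▸ h.1)

theorem pair_unique {y : G} (hy : NonA hS y) {c : Ω} (hc : y • c ≠ c) {p p' : Ω} {w w' : G}
    (h : IsPair hS y c p w) (h' : IsPair hS y c p' w') : p = p' ∧ w = w' := by
  have hyi := hy.invol
  obtain ⟨x, hx⟩ := exists_atype hS c
  -- the involutions `y w`, `y w'` fix `c` and commute with `y`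
  have key : ∀ {q : Ω} {v : G}, IsPair hS y c q v →
      IsInvol (y * v) ∧ Commute (y * v) y ∧ Commute (y * v) x := by
    intro q v hv
    have hcv := invol_atype_commute hS hyi hv.1 hv.2.1
    have hv2 := atype_invol hS hv.2.1
    have hi : IsInvol (y * v) := by
      refine ⟨fun e => hy.not_atype hS q ?_, ?_⟩
      · rw [eq_inv_of_mul_eq_one_left e, hv2.inv_eq]; exact hv.2.1
      · calc y * v * (y * v) = y * (v * y) * v := by group
          _ = y * (y * v) * v := by rw [hcv.eq]
          _ = (y * y) * (v * v) := by group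
          _ = 1 := by rw [hyi.2, hv2.2, one_mul]
    exact ⟨hi, (Commute.refl y).mul_left hcv, (invol_atype_commute hS hi hv.2.2 hx).symm⟩
  obtain ⟨-, huy, hux⟩ := key h
  obtain ⟨hi', hu'y, hu'x⟩ := key h'
  by_cases hodd : Odd (orderOf (y * x))
  · exfalso
    obtain ⟨g, j, hg, -, -, -⟩ := odd_conj hyi (atype_invol hS hx) hodd
    refine hy.not_atype hS (g⁻¹ • c) ?_
    have := atype_conj hS hx g⁻¹
    rwa [← hg, show g⁻¹ * (g * y * g⁻¹) * g⁻¹⁻¹ = y by group] at this
  obtain ⟨u₀, hu₀, hu₀y, hu₀x, hcent, hcases⟩ := even_split hyi (atype_invol hS hx) hodd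
  -- both equal `u₀`
  have hw₀ : IsPair hS y c ((Classical.choose (exists_pair hS hy hc))) (Classical.choose
      (Classical.choose_spec (exists_pair hS hy hc))) :=
    Classical.choose_spec (Classical.choose_spec (exists_pair hS hy hc))
  have huc : u₀ • c = c := atype_commute_fixes hS hx hu₀x
  have hxu : ∀ e, ¬ AType hS (x * u₀) e := fun e he => by
    have h2 : AType hS (x * (x * u₀)) c := atype_mul hS hx
      (atype_point hS he (by rw [mul_smul, huc, atype_fixes hS hx]))
      (by rw [← mul_assoc, (atype_invol hS hx).2, one_mul]; exact hu₀.1)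
    rw [← mul_assoc, (atype_invol hS hx).2, one_mul] at h2
    exact hc (atype_commute_fixes hS h2 hu₀y.symm)
  obtain ⟨p₀, hp₀⟩ : ∃ p₀, AType hS (y * u₀) p₀ := by
    rcases hcases with ⟨-, g, hg⟩ | ⟨⟨g, hg⟩, -⟩
    · exact absurd (hg ▸ atype_conj hS hx g) (hxu _)
    · exact ⟨_, hg ▸ atype_conj hS hx g⟩
  have key2 : ∀ {q : Ω} {v : G}, IsPair hS y c q v → v = y * u₀ := by
    intro q v hv
    obtain ⟨hi, hvy, hvx⟩ := key hv
    have hcu : Commute (y * v) u₀ := hcent _ hvy hvx
    have hprod : v * (y * u₀) = y * v * u₀ := by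
      rw [← mul_assoc, (invol_atype_commute hS hyi hv.1 hv.2.1).eq]
    by_contra hne
    have hne1 : v * (y * u₀) ≠ 1 := fun e => hne (by
      rw [eq_inv_of_mul_eq_one_left e, (atype_invol hS hp₀).inv_eq])
    by_cases hq : q = p₀
    · have h2 := atype_mul hS hv.2.1 (hq ▸ hp₀) hne1
      have h3 : (v * (y * u₀)) • c = c := by rw [hprod, mul_smul, huc, hv.2.2]
      exact pair_ne hS hc hv (atype_unique hS h2 h3).symm
    · have h2 := atype_odd hS hv.2.1 hp₀ hq
      rw [hprod] at h2 hne1
      have h3 : IsInvol (y * v * u₀) := ⟨hne1, by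
        calc y * v * u₀ * (y * v * u₀) = (y * v) * (u₀ * (y * v)) * u₀ := by group
          _ = (y * v) * ((y * v) * u₀) * u₀ := by rw [hcu.eq]
          _ = ((y * v) * (y * v)) * (u₀ * u₀) := by group
          _ = 1 := by rw [hi.2, hu₀.2, one_mul]⟩
      rw [h3.orderOf] at h2
      exact Nat.not_even_iff_odd.2 h2 even_two
  have e := key2 h
  have e' := key2 h'
  exact ⟨(atype_unique hS hp₀ (atype_fixes hS (e ▸ h.2.1))).trans
    (atype_unique hS hp₀ (atype_fixes hS (e' ▸ h'.2.1))).symm, e.trans e'.symm⟩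

omit hS in
/-- The points moved by `y` attached to the point `p`. -/
def PairsAt {a : Ω} {U : Subgroup G} (hS : SplitPerm a U) (y : G) (p : Ω) : Type _ :=
  Σ w : {w : G // AType hS w p}, {c : Ω // (y * w.1) • c = c ∧ c ≠ p}

theorem fix_mul_eq {y : G} (hy : IsInvol y) {p c : Ω} {w : G} (hw : AType hS w p) (hp : y • p = p)
    (hc : (y * w) • c = c) (hyc : y • c = c) : c = p := by
  refine atype_unique hS hw ?_
  rw [mul_smul] at hc
  exact MulAction.injective y (hc.trans hyc.symm)

theorem pairsAt_congr {y : G} (hy : NonA hS y) {p : Ω} (hp : y • p = p) :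
    Nonempty (PairsAt hS y p ≃ PairsAt hS y a) := by
  obtain ⟨g, hg, hgp⟩ := centralizer_transitive hS hy.invol hp hy.fix
  have hgy : g * y * g⁻¹ = y := by rw [hg.eq, mul_inv_cancel_right]
  have hconj : ∀ w : G, y * (g * w * g⁻¹) = g * (y * w) * g⁻¹ := fun w => by
    calc y * (g * w * g⁻¹) = (g * y * g⁻¹) * (g * w * g⁻¹) := by rw [hgy]
      _ = g * (y * w) * g⁻¹ := by group
  have hto : ∀ (w : G) (c : Ω), AType hS w p → (y * w) • c = c → c ≠ p →
      AType hS (g * w * g⁻¹) a ∧ (y * (g * w * g⁻¹)) • (g • c) = g • c ∧ g • c ≠ a := by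
    intro w c hw hc hcp
    refine ⟨hgp ▸ atype_conj hS hw g, ?_, fun e => hcp (MulAction.injective g (e.trans hgp.symm))⟩
    rw [hconj, mul_smul, mul_smul, inv_smul_smul, hc]
  refine ⟨Equiv.ofBijective (fun x : PairsAt hS y p =>
    (⟨⟨g * x.1.1 * g⁻¹, (hto _ _ x.1.2 x.2.2.1 x.2.2.2).1⟩,
      ⟨g • x.2.1, (hto _ _ x.1.2 x.2.2.1 x.2.2.2).2⟩⟩ : PairsAt hS y a)) ⟨?_, ?_⟩⟩
  · rintro ⟨⟨w, hw⟩, ⟨c, hc⟩⟩ ⟨⟨w', hw'⟩, ⟨c', hc'⟩⟩ e
    have e1 : g * w * g⁻¹ = g * w' * g⁻¹ := congrArg (fun x : PairsAt hS y a => x.1.1) e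
    have e2 : g • c = g • c' := congrArg (fun x : PairsAt hS y a => x.2.1) e
    obtain rfl : w = w' := mul_left_cancel (mul_right_cancel e1)
    obtain rfl : c = c' := MulAction.injective g e2
    rfl
  · rintro ⟨⟨v, hv⟩, ⟨d, hd, hda⟩⟩
    have hv' : AType hS (g⁻¹ * v * g) p := by
      have := atype_conj hS hv g⁻¹
      rwa [inv_inv, show g⁻¹ • a = p by rw [inv_smul_eq_iff, hgp]] at this
    have e : g * (g⁻¹ * v * g) * g⁻¹ = v := by group
    have hc : (y * (g⁻¹ * v * g)) • (g⁻¹ • d) = g⁻¹ • d := by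
      have h2 := hconj (g⁻¹ * v * g)
      rw [e] at h2
      rw [h2, mul_smul, mul_smul] at hd
      exact eq_inv_smul_iff.2 hd
    have hcp : g⁻¹ • d ≠ p := fun e' => hda (by rw [← smul_inv_smul g d, e', hgp])
    refine ⟨⟨⟨g⁻¹ * v * g, hv'⟩, ⟨g⁻¹ • d, hc, hcp⟩⟩, ?_⟩
    refine Sigma.subtype_ext (Subtype.ext e) ?_
    exact smul_inv_smul g d

/-- The number of fixed points of the elements of `y A`, minus one each, summed. -/
noncomputable def cosetSum {a : Ω} {U : Subgroup G} (hS : SplitPerm a U) (y : G) : ℕ :=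
  ∑ᶠ w : hS.A, (fixCard Ω (y * (w : G)) - 1)

set_option maxHeartbeats 800000 in
theorem count {y : G} (hy : NonA hS y) :
    Nat.card Ω + fixCard Ω y * (fixCard Ω y - 1) = fixCard Ω y * (1 + cosetSum hS y) := by
  classical
  haveI := hS.finite
  haveI : Fintype Ω := Fintype.ofFinite Ω
  haveI : Fintype G := Fintype.ofFinite G
  let F := {p : Ω // y • p = p}
  -- moved points
  let e₁ : {c : Ω // ¬ y • c = c} ≃ Σ p : F, PairsAt hS y p.1 :=
    (Equiv.ofBijective (fun x : Σ p : F, PairsAt hS y p.1 => (⟨x.2.2.1, fun e =>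
        x.2.2.2.2 (fix_mul_eq hS hy.invol x.2.1.2 x.1.2 x.2.2.2.1 e)⟩ : {c : Ω // ¬ y • c = c}))
      ⟨by
        rintro ⟨⟨p, hp⟩, ⟨w, hw⟩, ⟨c, hc, hcp⟩⟩ ⟨⟨p', hp'⟩, ⟨w', hw'⟩, ⟨c', hc', hcp'⟩⟩ e
        obtain rfl : c = c' := congrArg Subtype.val e
        obtain ⟨e1, e2⟩ := pair_unique hS hy
          (fun e => hcp (fix_mul_eq hS hy.invol hw hp hc e)) ⟨hp, hw, hc⟩ ⟨hp', hw', hc'⟩
        subst e1 e2
        rfl,
      by
        rintro ⟨c, hc⟩
        obtain ⟨p, w, h⟩ := exists_pair hS hy hc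
        exact ⟨⟨⟨p, h.1⟩, ⟨w, h.2.1⟩, ⟨c, h.2.2, (pair_ne hS hc h).symm⟩⟩, rfl⟩⟩).symm
  -- transport to `a`
  have e₂ : ∀ p : F, Nonempty (PairsAt hS y p.1 ≃ PairsAt hS y a) := fun p =>
    pairsAt_congr hS hy p.2
  have hmoved : Nat.card {c : Ω // ¬ y • c = c} = fixCard Ω y * Nat.card (PairsAt hS y a) := by
    rw [Nat.card_congr (e₁.trans (Equiv.sigmaCongrRight fun p => (e₂ p).some)),
      Nat.card_congr (Equiv.sigmaEquivProd _ _), Nat.card_prod]
    rfl
  have hone : ∀ w : G, w ∈ hS.A → fixCard Ω (y * w) =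
      Nat.card {c : Ω // (y * w) • c = c ∧ c ≠ a} + 1 := by
    intro w hw
    have ha : (y * w) • a = a := (hy.mul_mem hS hw).fix
    simp only [fixCard, Nat.card_eq_fintype_card, Fintype.card_subtype]
    have : (Finset.univ.filter fun c : Ω => (y * w) • c = c ∧ c ≠ a) =
        (Finset.univ.filter fun c : Ω => (y * w) • c = c).erase a := by
      ext c; simp [and_comm]
    rw [this, Finset.card_erase_add_one (by simp [ha])]
  have hpairs : Nat.card (PairsAt hS y a) + (fixCard Ω y - 1) = cosetSum hS y := by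
    rw [cosetSum, finsum_eq_sum_of_fintype, PairsAt, Nat.card_sigma]
    have e : Finset.univ.sum (fun w : {w : G // AType hS w a} =>
        Nat.card {c : Ω // (y * w.1) • c = c ∧ c ≠ a}) =
        (Finset.univ.erase (1 : hS.A)).sum (fun w : hS.A => fixCard Ω (y * (w : G)) - 1) := by
      refine Finset.sum_bij (fun w _ => ⟨w.1, atype_mem hS w.2⟩) ?_ ?_ ?_ ?_
      · intro w _
        exact Finset.mem_erase.2 ⟨fun e => w.2.1 (congrArg Subtype.val e), Finset.mem_univ _⟩
      · intro w _ w' _ e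
        exact Subtype.ext (congrArg Subtype.val e :)
      · intro w hw
        exact ⟨⟨w.1, atype_base hS w.2 fun e => (Finset.mem_erase.1 hw).1 (Subtype.ext e)⟩,
          Finset.mem_univ _, rfl⟩
      · intro w _
        show _ = fixCard Ω (y * w.1) - 1
        rw [hone _ (atype_mem hS w.2), Nat.add_sub_cancel]
    rw [e]
    conv_lhs => rw [show fixCard Ω y - 1 = fixCard Ω (y * ((1 : hS.A) : G)) - 1 by simp]
    exact Finset.sum_erase_add _ _ (Finset.mem_univ _)
  have hsplit : Nat.card Ω = fixCard Ω y + Nat.card {c : Ω // ¬ y • c = c} := by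
    simp only [fixCard, Nat.card_eq_fintype_card, Fintype.card_subtype]
    rw [Finset.card_filter_add_card_filter_not, Finset.card_univ]
  rw [hsplit, hmoved, ← hpairs]
  ring

theorem one_le_fixCard {y : G} (hy : y • a = a) : 1 ≤ fixCard Ω y := by
  haveI := hS.finite
  haveI : Nonempty {c : Ω // y • c = c} := ⟨⟨a, hy⟩⟩
  exact Nat.card_pos

theorem fixCard_lt {y : G} (hy : y ≠ 1) : fixCard Ω y < Nat.card Ω := by
  haveI := hS.finite
  obtain ⟨c, hc⟩ : ∃ c : Ω, y • c ≠ c := by
    by_contra h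
    push Not at h
    exact hy (FaithfulSMul.eq_of_smul_eq_smul (α := Ω) fun c => by rw [h c, one_smul])
  exact Finite.card_subtype_lt (x := c) hc

theorem three_le_points : 3 ≤ Nat.card Ω := by
  haveI := hS.finite
  obtain ⟨b, hb⟩ := hS.nontriv
  have h2 : 1 < Nat.card Ω := Finite.one_lt_card_iff_nontrivial.2 ⟨⟨b, a, hb⟩⟩
  obtain ⟨m, hm⟩ := hS.odd_points
  omega

/-- All involutions outside `A` fixing `a` fix the same number `f ≥ 2` of points, with
`|Ω| = f + (|A| - 1) f (f - 1)`. -/
theorem fix_formula (h4 : 4 ≤ Nat.card hS.A) {y : G} (hy : NonA hS y) :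
    Nat.card Ω = fixCard Ω y + (Nat.card hS.A - 1) * fixCard Ω y * (fixCard Ω y - 1) ∧
      2 ≤ fixCard Ω y := by
  classical
  haveI := hS.finite
  haveI : Fintype hS.A := Fintype.ofFinite _
  set n := Nat.card Ω with hn
  let f : hS.A → ℕ := fun w => fixCard Ω (y * (w : G))
  have hN : ∀ w : hS.A, NonA hS (y * (w : G)) := fun w => hy.mul_mem hS w.2
  have hf1 : ∀ w, 1 ≤ f w := fun w => one_le_fixCard hS (hN w).fix
  have hflt : ∀ w, f w < n := fun w => fixCard_lt hS (hN w).invol.1
  set S := cosetSum hS y with hSd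
  have hS' : ∀ w : hS.A, cosetSum hS (y * (w : G)) = S := by
    intro w
    rw [hSd, cosetSum, cosetSum, finsum_eq_sum_of_fintype, finsum_eq_sum_of_fintype,
      ← Equiv.sum_comp (Equiv.mulLeft w) (fun v : hS.A => fixCard Ω (y * (v : G)) - 1)]
    simp [mul_assoc]
  have hsum : ∑ w, (f w - 1) = S := by rw [hSd, cosetSum, finsum_eq_sum_of_fintype]
  have hq : ∀ w, (n : ℤ) + (f w : ℤ) * ((f w : ℤ) - 1) = (f w : ℤ) * (1 + S) := by
    intro w
    have h := count hS (hN w)
    rw [hS' w, ← hn] at h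
    have h1 := hf1 w
    obtain ⟨k, hk⟩ : ∃ k, f w = k + 1 := ⟨f w - 1, by omega⟩
    change n + f w * (f w - 1) = f w * (1 + S) at h
    rw [hk] at h ⊢
    rw [Nat.add_sub_cancel] at h
    have h' : (n : ℤ) + ((k : ℤ) + 1) * k = ((k : ℤ) + 1) * (1 + S) := by exact_mod_cast h
    push_cast
    linarith
  have hall : ∀ w v, f w = f v := by
    by_contra hne
    push Not at hne
    obtain ⟨w, v, hwv⟩ := hne
    have hsum2 : (f w : ℤ) + f v = S + 2 := by
      have h1 := hq w
      have h2 := hq v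
      have h3 : ((f w : ℤ) - f v) * ((f w : ℤ) + f v - (S + 2)) = 0 := by linear_combination h1 - h2
      rcases mul_eq_zero.1 h3 with h4 | h4
      · exact absurd (by omega : f w = f v) hwv
      · omega
    obtain ⟨u, huw, huv⟩ : ∃ u : hS.A, u ≠ w ∧ u ≠ v := by
      by_contra h
      push Not at h
      have : (Finset.univ : Finset hS.A).card ≤ ({w, v} : Finset hS.A).card :=
        Finset.card_le_card fun u _ => by
          simp only [Finset.mem_insert, Finset.mem_singleton]
          by_cases h' : u = w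
          · exact Or.inl h'
          · exact Or.inr (h u h')
      rw [Finset.card_univ, ← Nat.card_eq_fintype_card] at this
      have h2 : ({w, v} : Finset hS.A).card ≤ 2 := Finset.card_le_two
      omega
    have hle : (f u - 1) + (f w - 1) + (f v - 1) ≤ S := by
      rw [← hsum]
      calc (f u - 1) + (f w - 1) + (f v - 1) = ∑ x ∈ ({u, w, v} : Finset hS.A), (f x - 1) := by
            rw [Finset.sum_insert (by simp [huw, huv]), Finset.sum_insert
              (by simp; exact fun e => hwv (by rw [e])), Finset.sum_singleton]; ring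
        _ ≤ _ := Finset.sum_le_sum_of_subset (Finset.subset_univ _)
    have hfu : f u = 1 := by
      have := hf1 u; have := hf1 w; have := hf1 v
      omega
    -- then one of the two values is `1`
    have hone : f w = 1 ∨ f v = 1 := by
      by_contra h
      push Not at h
      have hu' := hq u
      rw [hfu] at hu'
      have hw' := hq w
      have : ((f w : ℤ) - 1) * ((f w : ℤ) - (S + 1)) = 0 := by push_cast at hu'; linear_combination hw' - hu'
      rcases mul_eq_zero.1 this with h4 | h4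
      · exact h.1 (by omega)
      · exact h.2 (by omega)
    have hnS : (n : ℤ) = S + 1 := by
      have := hq u
      rw [hfu] at this
      push_cast at this
      linarith
    rcases hone with h | h
    · have := hflt v; omega
    · have := hflt w; omega
  have h1f : f 1 = fixCard Ω y := by show fixCard Ω (y * ((1 : hS.A) : G)) = _; simp
  have hSv : S = Nat.card hS.A * (f 1 - 1) := by
    rw [← hsum, Finset.sum_congr rfl (fun w _ => show f w - 1 = f 1 - 1 by rw [hall w 1]),
      Finset.sum_const, Finset.card_univ, smul_eq_mul, Nat.card_eq_fintype_card]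
  have h := count hS hy
  rw [← hSd, hSv, ← hn, ← h1f] at h
  rw [← h1f]
  obtain ⟨k, hk⟩ : ∃ k, f 1 = k + 1 := ⟨f 1 - 1, by have := hf1 1; omega⟩
  obtain ⟨m, hm⟩ : ∃ m, Nat.card hS.A = m + 1 := ⟨Nat.card hS.A - 1, by omega⟩
  rw [hk, hm] at h ⊢
  simp only [Nat.add_sub_cancel] at h ⊢
  have hformula : n = k + 1 + m * (k + 1) * k := by nlinarith
  refine ⟨hformula, ?_⟩
  by_contra hlt
  have hk0 : k = 0 := by omega
  subst hk0
  have := three_le_points hS
  omega

end Cfsg.Agent.RankOneSplit
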