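import Cfsg.Agent.Lib.RankOneSplit.OddFpf
import Cfsg.Agent.Lib.RankOneChar.Result

/-!
# With two-point stabilisers of odd order, `U` is regular on the points other than `a`
-/

set_option autoImplicit false
set_option linter.unusedSectionVars false
set_option linter.style.haveILetI false
set_option linter.unusedVariables false

namespace Cfsg.Agent.RankOneSplit

open MulAction Cfsg.Agent.RankOne

universe u v

/-- The inductive statement. -/
theorem regular_aux (n : ℕ) : ∀ {G Ω : Type v} [Group G] [Finite G] [MulAction G Ω] [FaithfulSMul G Ω]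
    {a : Ω} {U : Subgroup G}, OddSplit a U → Nat.card Ω ≤ n →
    ∀ b : Ω, b ≠ a → ∀ x ∈ U, x • b = b → x = 1 := by
  induction n using Nat.strong_induction_on with
  | _ n ih =>
  intro G Ω _ _ _ _ a U hO hn b hb x hxU hxb
  classical
  by_contra hx1
  haveI := hO.base.finite
  -- a prime and the corresponding part of `U_b`
  obtain ⟨p, hp, hpd⟩ := Nat.exists_prime_and_dvd (fun h => hx1 (orderOf_eq_one_iff.1 h))
  haveI := Fact.mk hp
  set P₀ := pFix hO.base p b with hP₀
  obtain ⟨x₀, hx₀, hx₀1⟩ : ∃ y ∈ P₀, y ≠ 1 := by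
    refine ⟨x ^ (orderOf x / p), Subgroup.mem_inf.2 ⟨(mem_pPart hO.base.nilp p).2 ⟨pow_mem hxU _, 1, ?_⟩,
      pow_mem (show x ∈ stabilizer G b from hxb) _⟩, ?_⟩
    · rw [pow_one, ← pow_mul, Nat.div_mul_cancel hpd, pow_orderOf_eq_one]
    · exact pow_ne_one_of_lt_orderOf
        (Nat.div_pos (Nat.le_of_dvd (orderOf_pos x) hpd) hp.pos).ne'
        (Nat.div_lt_self (orderOf_pos x) hp.one_lt)
  by_cases hfree : ∀ y ∈ P₀, CentInv y b → y = 1
  · exact fpf_false hO p hb hfree hx₀ hx₀1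
  push Not at hfree
  obtain ⟨r, hrP, hrc, hr1⟩ := hfree
  -- the subgroup `R`
  set R : Subgroup G := P₀ ⊓ Subgroup.centralizer {w | IsInvol w ∧ w • b = b} with hR
  have memR : ∀ {y : G}, y ∈ R ↔ y ∈ P₀ ∧ CentInv y b := fun {y} => by
    rw [hR, Subgroup.mem_inf, Subgroup.mem_centralizer_iff]
    exact ⟨fun ⟨h1, h2⟩ => ⟨h1, fun w hw hwb => (h2 w ⟨hw, hwb⟩).symm⟩,
      fun ⟨h1, h2⟩ => ⟨h1, fun w hw => (h2 w hw.1 hw.2).symm.eq⟩⟩
  have hrR : r ∈ R := memR.2 ⟨hrP, hrc⟩
  have hRU : ∀ y ∈ R, y ∈ U := fun y hy =>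
    pPart_le _ _ (Subgroup.mem_inf.1 (memR.1 hy).1).1
  set N : Subgroup G := Subgroup.normalizer (R : Set G) with hN
  set E : Set Ω := {c | ∀ y ∈ R, y • c = c ∧ CentInv y c} with hE
  have hcentN : ∀ {g : G}, (∀ y ∈ R, Commute y g) → g ∈ N := fun {g} hg =>
    mem_normalizer_of_maps fun y hy => by rw [← (hg y hy).eq, mul_inv_cancel_right]; exact hy
  have hinv : Invariant N E := by
    intro g hg c hc y hy
    have hy' : g⁻¹ * y * g ∈ R := (Subgroup.mem_normalizer_iff''.1 hg y).1 hy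
    obtain ⟨h1, h2⟩ := hc _ hy'
    refine ⟨?_, fun w hw hwc => ?_⟩
    · calc y • (g • c) = g • ((g⁻¹ * y * g) • c) := by rw [mul_smul, mul_smul, smul_inv_smul]
        _ = g • c := by rw [h1]
    · obtain ⟨hw', hwc'⟩ := invol_conj_fix (g := g⁻¹) hw hwc
      rw [inv_smul_smul] at hwc'
      have e : g⁻¹ * y * g * (g⁻¹ * w * g⁻¹⁻¹) = g⁻¹ * w * g⁻¹⁻¹ * (g⁻¹ * y * g) := (h2 _ hw' hwc').eq
      show y * w = w * y
      calc y * w = g * (g⁻¹ * y * g * (g⁻¹ * w * g⁻¹⁻¹)) * g⁻¹ := by group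
        _ = g * (g⁻¹ * w * g⁻¹⁻¹ * (g⁻¹ * y * g)) * g⁻¹ := by rw [e]
        _ = w * y := by group
  have haE : a ∈ E := fun y hy => ⟨smul_a_of_mem hO.base (hRU y hy), centInv_a hO (hRU y hy)⟩
  have hbE : b ∈ E := fun y hy => ⟨(Subgroup.mem_inf.1 (memR.1 hy).1).2, (memR.1 hy).2⟩
  have hAN : ∀ z ∈ hO.base.A, z ∈ N := fun z hz =>
    hcentN fun y hy => (A_central hO.base hz (hRU y hy)).symm
  have hmove : ∀ c ∈ E, c ≠ a → ∀ u ∈ U, u • b = c → u ∈ N := by
    intro c hc hca u hu hub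
    refine inv_mem_iff.1 (mem_normalizer_of_maps fun y hy => ?_)
    rw [inv_inv]
    refine memR.2 ⟨Subgroup.mem_inf.2 ⟨?_, ?_⟩, fun w hw hwb => ?_⟩
    · have := pPart_conj hO.base.nilp p (g := u⁻¹)
        (hO.base.conj_mem _ (inv_mem (hO.base.le hu))) (Subgroup.mem_inf.1 (memR.1 hy).1).1
      rwa [inv_inv] at this
    · show (u⁻¹ * y * u) • b = b
      rw [mul_smul, mul_smul, hub, (hc y hy).1, ← hub, inv_smul_smul]
    · obtain ⟨hw', hwc'⟩ := invol_conj_fix (g := u) hw hwb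
      rw [hub] at hwc'
      have e : y * (u * w * u⁻¹) = u * w * u⁻¹ * y := ((hc y hy).2 _ hw' hwc').eq
      show u⁻¹ * y * u * w = w * (u⁻¹ * y * u)
      calc u⁻¹ * y * u * w = u⁻¹ * (y * (u * w * u⁻¹)) * u := by group
        _ = u⁻¹ * (u * w * u⁻¹ * y) * u := by rw [e]
        _ = w * (u⁻¹ * y * u) := by group
  obtain ⟨z, hz, hz1⟩ := exists_A hO.base
  have hd : RestrictData a U N E :=
    { inv := hinv
      mem := haE
      other := ⟨b, hbE, hb⟩
      swap := fun c hc => by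
        by_cases hca : c = a
        · exact ⟨1, one_mem _, by rw [one_smul, hca]⟩
        obtain ⟨w, hw⟩ := exists_atype hO.base c
        obtain ⟨g, j, -, hgc, -, -, -, hcent⟩ :=
          atype_swap hO.base (atype_base hO.base hz hz1) hw (Ne.symm hca)
        exact ⟨g, hcentN fun y hy => (hcent y (A_central hO.base hz (hRU y hy)).symm
          ((hc y hy).2 w (atype_invol hO.base hw) (atype_fixes hO.base hw))).1, hgc⟩
      uTrans := fun c hc d hd hca hda => by
        obtain ⟨u, hu, hub⟩ := hO.base.trans b c hb hca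
        obtain ⟨v, hv, hvb⟩ := hO.base.trans b d hb hda
        exact ⟨v * u⁻¹, mul_mem hv (inv_mem hu),
          mul_mem (hmove d hd hda v hv hvb) (inv_mem (hmove c hc hca u hu hub)),
          by rw [mul_smul, ← hub, inv_smul_smul, hvb]⟩ }
  -- `E` is a proper subset
  have hlt : Nat.card E < Nat.card Ω := by
    obtain ⟨c, hc⟩ : ∃ c : Ω, r • c ≠ c := by
      by_contra h
      push Not at h
      exact hr1 (FaithfulSMul.eq_of_smul_eq_smul (α := Ω) fun c => by rw [h c, one_smul])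
    exact Finite.card_subtype_lt (p := fun c => c ∈ E) (x := c) fun h => hc (h r hrR).1
  have hO' : OddSplit (G := restrictGroup hd.inv) (⟨a, hd.mem⟩ : E) (restrictU hd.inv U) := by
    refine restrict_odd hO.base hd (odd_card_of_A hO.base hinv haE hz hz1 (hAN z hz)) (fun c hc => ?_) ?_
    · refine (hO.odd_stab _ hc).of_dvd_nat
        ((Subgroup.card_map_dvd _ (f := restrictElt hd.inv)).trans ?_)
      rw [Nat.card_congr (Subgroup.subgroupOfEquivOfLe inf_le_right).toEquiv]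
      exact Subgroup.card_dvd_of_le inf_le_left
    · obtain ⟨x, y, hx, hy, hx1, hy1, hxy⟩ := exists_A_pair hO
      exact ⟨x, y, hAN x hx, hAN y hy, hx, hy, hx1, hy1, hxy⟩
  haveI : Finite (Equiv.Perm E) := Finite.of_injective (fun σ : Equiv.Perm E => (σ : E → E))
    (fun σ τ h => Equiv.ext (congrFun h))
  have hreg := ih (Nat.card E) (hlt.trans_le hn) hO' le_rfl (⟨b, hbE⟩ : E)
    fun e => hb (congrArg Subtype.val e)
  -- elements of `U ∩ N` fixing `b` are trivial on `E`
  have htriv : ∀ u ∈ U, u ∈ N → u • b = b → ∀ c ∈ E, u • c = c := by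
    intro u hu huN hub c hc
    have h := hreg (restrictElt hd.inv ⟨u, huN⟩) ((mem_restrictU hd.inv U).2 ⟨_, hu, rfl⟩)
      (Subtype.ext hub)
    have h2 := congrArg (fun w : restrictGroup hd.inv => (((w • (⟨c, hc⟩ : E)) : E) : Ω)) h
    simp only [one_smul] at h2
    exact h2
  -- so `R` is everything
  have hPR : ∀ y ∈ P₀, y ∈ R := by
    intro y hy
    have hyU : y ∈ U := pPart_le _ _ (Subgroup.mem_inf.1 hy).1
    have hyb : y • b = b := (Subgroup.mem_inf.1 hy).2
    have hya := smul_a_of_mem hO.base hyU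
    have hyN : y ∈ N := mem_normalizer_of_maps fun z hz => by
      refine memR.2 ⟨pFix_conj hO p hya hyb (memR.1 hz).1, fun w hw hwb => ?_⟩
      have hw' : IsInvol (y⁻¹ * w * y) := by simpa using hw.conj y⁻¹
      have e : z * (y⁻¹ * w * y) = y⁻¹ * w * y * z := ((memR.1 hz).2 _ hw' (by
        rw [mul_smul, mul_smul, hyb, hwb, inv_smul_eq_iff, hyb])).eq
      show y * z * y⁻¹ * w = w * (y * z * y⁻¹)
      calc y * z * y⁻¹ * w = y * (z * (y⁻¹ * w * y)) * y⁻¹ := by group
        _ = y * (y⁻¹ * w * y * z) * y⁻¹ := by rw [e]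
        _ = _ := by group
    refine memR.2 ⟨hy, fun w hw hwb => ?_⟩
    by_contra hne
    have hwN : w ∈ N := hcentN fun z hz => (memR.1 hz).2 w hw hwb
    have hat : AType hO.base w b := invol_atype hO hw hwb
    have hat' : AType hO.base (y * w * y⁻¹) b := hyb ▸ atype_conj hO.base hat y
    have hfixa : (y * w * y⁻¹ * w) • a = a := by
      have hwa := hd.inv w hwN a haE
      rw [mul_smul, mul_smul, mul_smul,
        show y⁻¹ • (w • a) = w • a by rw [inv_smul_eq_iff, htriv y hyU hyN hyb _ hwa],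
        ← mul_smul w w, hw.2, one_smul, hya]
    have hne1 : y * w * y⁻¹ * w ≠ 1 := fun e => hne (by
      show y * w = w * y
      calc y * w = y * w * y⁻¹ * (w * w) * y := by rw [hw.2]; group
        _ = (y * w * y⁻¹ * w) * (w * y) := by group
        _ = w * y := by rw [e, one_mul])
    exact hb (atype_unique hO.base (atype_mul hO.base hat' hat hne1) hfixa).symm
  -- a `p`-element of `N_U(R)` outside `R`
  set P := pPart hO.base.nilp p with hP
  have hRP : R ≤ P := fun y hy => (Subgroup.mem_inf.1 (memR.1 hy).1).1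
  obtain ⟨g, hgP, hgN, hgR⟩ : ∃ g ∈ P, g ∈ N ∧ g ∉ R := by
    have hne : R.subgroupOf P ≠ ⊤ := by
      intro h
      rw [Subgroup.subgroupOf_eq_top] at h
      exact hr1 (eq_one_of_normal hO.base (V := (P : Set G))
        (fun u hu v hv => pPart_conj hO.base.nilp p (hO.base.conj_mem u (hO.base.le hu)) hv)
        (fun v hv => smul_a_of_mem hO.base (pPart_le _ _ hv)) hb
        (fun v hv => (Subgroup.mem_inf.1 (memR.1 (h hv)).1).2) (hRP hrR))
    haveI : Group.IsNilpotent P := (pPart_isPGroup hO.base.nilp p).isNilpotent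
    have hlt' := normalizerCondition_of_isNilpotent (G := P) (R.subgroupOf P) (lt_top_iff_ne_top.2 hne)
    obtain ⟨g, hg, hgR⟩ := SetLike.exists_of_lt hlt'
    refine ⟨g, g.2, mem_normalizer_of_maps fun y hy => ?_, hgR⟩
    exact (Subgroup.mem_normalizer_iff.1 hg ⟨y, hRP hy⟩).1 hy
  -- the induced group is a rank-one set-up
  obtain ⟨t, ht, htb⟩ := exists_swap hO' (c := (⟨b, hbE⟩ : E)) fun e => hb (congrArg Subtype.val e)
  have hta : t • (⟨a, hd.mem⟩ : E) ≠ ⟨a, hd.mem⟩ := by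
    rw [htb.1]; exact fun e => hb (congrArg Subtype.val e)
  have hS' := setup_of_regular hO' (fun e => hb (congrArg Subtype.val e)) hreg ht hta
  haveI : Fintype (restrictGroup hd.inv) := Fintype.ofFinite _
  have h2grp := RankOneChar.q_isPGroup_two hS' (exists_commuting hO')
  have hgU : g ∈ U := pPart_le _ _ hgP
  obtain ⟨i, hi⟩ := h2grp ⟨restrictElt hd.inv ⟨g, hgN⟩, (mem_restrictU hd.inv U).2 ⟨_, hgU, rfl⟩⟩
  obtain ⟨-, k, hk⟩ := (mem_pPart hO.base.nilp p).1 hgP
  have hg1 : restrictElt hd.inv ⟨g, hgN⟩ = 1 := by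
    have h1 : (restrictElt hd.inv ⟨g, hgN⟩) ^ 2 ^ i = 1 := by simpa using congrArg Subtype.val hi
    have h2 : (restrictElt hd.inv ⟨g, hgN⟩) ^ p ^ k = 1 := by
      rw [← map_pow, show (⟨g, hgN⟩ : N) ^ p ^ k = 1 from Subtype.ext (by simpa using hk), map_one]
    have hp2 : p ≠ 2 := by
      rintro rfl
      obtain ⟨j, hj⟩ := (pPart_isPGroup hO.base.nilp 2).to_le hRP ⟨r, hrR⟩
      have h1 := Subgroup.orderOf_dvd_natCard (stabilizer G a ⊓ stabilizer G b)
        (Subgroup.mem_inf.2 ⟨smul_a_of_mem hO.base (hRU r hrR), (hbE r hrR).1⟩)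
      refine hr1 (orderOf_eq_one_iff.1 (Nat.eq_one_of_dvd_coprimes
        ((Nat.coprime_two_right.2 (hO.odd_stab b hb)).pow_right j) h1
        (orderOf_dvd_of_pow_eq_one (by simpa using congrArg Subtype.val hj))))
    exact orderOf_eq_one_iff.1 (Nat.eq_one_of_dvd_coprimes
      (((Nat.coprime_primes Nat.prime_two hp).2 hp2.symm).pow i k)
      (orderOf_dvd_of_pow_eq_one h1) (orderOf_dvd_of_pow_eq_one h2))
  apply hgR
  refine hPR g (Subgroup.mem_inf.2 ⟨hgP, ?_⟩)
  have h2 := congrArg (fun w : restrictGroup hd.inv => (((w • (⟨b, hbE⟩ : E)) : E) : Ω)) hg1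
  simp only [one_smul] at h2
  exact h2

/-- With two-point stabilisers of odd order, a non-trivial element of `U` fixes only `a`. -/
theorem regular {G Ω : Type v} [Group G] [Finite G] [MulAction G Ω] [FaithfulSMul G Ω]
    {a : Ω} {U : Subgroup G} (hO : OddSplit a U) {b : Ω} (hb : b ≠ a) {x : G} (hx : x ∈ U)
    (hxb : x • b = b) : x = 1 :=
  regular_aux _ hO le_rfl b hb x hx hxb

/-- With two-point stabilisers of odd order, `U` is a `2`-group. -/
theorem isPGroup_two {G Ω : Type v} [Group G] [Finite G] [MulAction G Ω] [FaithfulSMul G Ω]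
    {a : Ω} {U : Subgroup G} (hO : OddSplit a U) : IsPGroup 2 U := by
  haveI : Fintype G := Fintype.ofFinite G
  obtain ⟨b, hb⟩ := hO.base.nontriv
  obtain ⟨t, ht, hta, -⟩ := exists_swap hO hb
  exact RankOneChar.q_isPGroup_two
    (setup_of_regular hO hb (fun x hx hxb => regular hO hb hx hxb) ht (hta ▸ hb)) (exists_commuting hO)

end Cfsg.Agent.RankOneSplit
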