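import Cfsg.Agent.Lib.RankOneSplit.Count
import Cfsg.Agent.Lib.RankOneSplit.Odd

/-!
# An involution of `U` fixing a second point: its fixed points, and `U` is a `2`-group
-/

set_option autoImplicit false
set_option linter.unusedSectionVars false
set_option linter.style.haveILetI false
set_option linter.unusedVariables false

namespace Cfsg.Agent.RankOneSplit

open MulAction Cfsg.Agent.RankOne

universe u

variable {G Ω : Type u} [Group G] [MulAction G Ω] [Finite G] [FaithfulSMul G Ω]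
variable {a : Ω} {U : Subgroup G} (hS : SplitPerm a U) (b : Ω)

/-- `T₀ = T ∩ G_b`. -/
noncomputable abbrev tFix : Subgroup G := hS.T ⊓ stabilizer G b

include hS

theorem A_commute_T {w τ : G} (hw : w ∈ hS.A) (hτ : τ ∈ hS.T) : Commute w τ := hw.2.2 τ hτ

omit hS in
/-- `T₁ = A T₀`. -/
def lineGroup {a : Ω} {U : Subgroup G} (hS : SplitPerm a U) (b : Ω) : Subgroup G where
  carrier := {x | ∃ w ∈ hS.A, ∃ h ∈ tFix hS b, x = w * h}
  one_mem' := ⟨1, one_mem _, 1, one_mem _, (one_mul 1).symm⟩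
  mul_mem' := by
    rintro _ _ ⟨w, hw, h, hh, rfl⟩ ⟨w', hw', h', hh', rfl⟩
    refine ⟨w * w', mul_mem hw hw', h * h', mul_mem hh hh', ?_⟩
    have hc : Commute w' h := A_commute_T hS hw' (Subgroup.mem_inf.1 hh).1
    calc w * h * (w' * h') = w * (h * w') * h' := by group
      _ = w * (w' * h) * h' := by rw [hc.eq]
      _ = w * w' * (h * h') := by group
  inv_mem' := by
    rintro _ ⟨w, hw, h, hh, rfl⟩
    exact ⟨w⁻¹, inv_mem hw, h⁻¹, inv_mem hh, by
      rw [mul_inv_rev, ((A_commute_T hS hw (Subgroup.mem_inf.1 hh).1).inv_inv).eq]⟩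

theorem lineGroup_le : lineGroup hS b ≤ hS.T := by
  rintro _ ⟨w, hw, h, hh, rfl⟩
  exact mul_mem (A_le_T hS hw) (Subgroup.mem_inf.1 hh).1

theorem A_le_lineGroup : hS.A ≤ lineGroup hS b := fun w hw =>
  ⟨w, hw, 1, one_mem _, (mul_one w).symm⟩

theorem tFix_le_lineGroup : tFix hS b ≤ lineGroup hS b := fun h hh =>
  ⟨1, one_mem _, h, hh, (one_mul h).symm⟩

theorem A_inf_tFix (hb : b ≠ a) {w : G} (hw : w ∈ hS.A) (h : w • b = b) : w = 1 := by
  by_contra hw1
  exact hb (A_fix hS hw hw1 h)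

theorem nonA_of_fix (hb : b ≠ a) {y : G} (hy : y ∈ tFix hS b) (hyi : IsInvol y) : NonA hS y where
  invol := hyi
  fix := smul_a_of_mem hS (pPart_le _ _ (Subgroup.mem_inf.1 hy).1)
  not_mem h := hyi.1 (A_inf_tFix hS b hb h (Subgroup.mem_inf.1 hy).2)

/-- Points other than `a` in terms of `T × O`. -/
theorem exists_TO {c : Ω} (hb : b ≠ a) (hc : c ≠ a) :
    ∃ τ ∈ hS.T, ∃ o ∈ pCompl hS.nilp 2, (τ * o) • b = c := by
  obtain ⟨u, hu, rfl⟩ := hS.trans b c hb hc
  obtain ⟨τ, hτ, o, ho, rfl⟩ := parts_cover hS.nilp 2 hu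
  exact ⟨τ, hτ, o, ho, rfl⟩

theorem fix_TO_iff {y τ o : G} (hy : y ∈ hS.T) (hτ : τ ∈ hS.T) (ho : o ∈ pCompl hS.nilp 2) :
    y • ((τ * o) • b) = (τ * o) • b ↔ (τ⁻¹ * y * τ) • b = b := by
  have hc : Commute (τ⁻¹ * y * τ) o :=
    parts_commute hS.nilp 2 (mul_mem (mul_mem (inv_mem hτ) hy) hτ) ho
  have key : y • ((τ * o) • b) = (τ * o) • ((τ⁻¹ * y * τ) • b) := by
    rw [← mul_smul, ← mul_smul]
    congr 1
    calc y * (τ * o) = τ * ((τ⁻¹ * y * τ) * o) := by group
      _ = τ * (o * (τ⁻¹ * y * τ)) := by rw [hc.eq]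
      _ = τ * o * (τ⁻¹ * y * τ) := by group
  rw [key]
  exact ⟨fun h => MulAction.injective _ h, fun h => by rw [h]⟩

theorem odd_card_compl : Odd (Nat.card (pCompl hS.nilp 2)) := by
  rw [← Nat.not_even_iff_odd, even_iff_two_dvd]
  intro h
  haveI := Fact.mk Nat.prime_two
  obtain ⟨x, hx⟩ := exists_prime_orderOf_dvd_card' (G := pCompl hS.nilp 2) 2 h
  have := ((mem_pCompl hS.nilp 2).1 x.2).2
  rw [Subgroup.orderOf_coe, hx] at this
  norm_num at this

theorem le_lineGroup_iff {τ : G} (hb : b ≠ a) (hτ : τ ∈ hS.T) {w h : G} (hw : w ∈ hS.A)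
    (hh : h ∈ tFix hS b) (y : G) (hy : y ∈ hS.T) :
    ((τ * (w * h))⁻¹ * y * (τ * (w * h))) • b = b ↔ (τ⁻¹ * y * τ) • b = b := by
  have hm : τ⁻¹ * y * τ ∈ hS.T := mul_mem (mul_mem (inv_mem hτ) hy) hτ
  have e : (τ * (w * h))⁻¹ * y * (τ * (w * h)) = h⁻¹ * (τ⁻¹ * y * τ) * h := by
    have hc := A_commute_T hS hw hm
    calc (τ * (w * h))⁻¹ * y * (τ * (w * h)) = h⁻¹ * (w⁻¹ * ((τ⁻¹ * y * τ) * w)) * h := by group
      _ = h⁻¹ * (w⁻¹ * (w * (τ⁻¹ * y * τ))) * h := by rw [hc.eq]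
      _ = _ := by group
  have hhb : h • b = b := (Subgroup.mem_inf.1 hh).2
  have hhb' : h⁻¹ • b = b := by rw [inv_smul_eq_iff, hhb]
  rw [e, mul_smul, mul_smul, hhb]
  exact ⟨fun h' => by rwa [inv_smul_eq_iff, hhb] at h', fun h' => by rw [h', hhb']⟩

/-- The fixed points of an involution of `T₀`. -/
theorem fix_structure (h4 : 4 ≤ Nat.card hS.A) (hb : b ≠ a) {y : G} (hy : y ∈ tFix hS b)
    (hyi : IsInvol y) :
    (∀ τ ∈ hS.T, (τ⁻¹ * y * τ) • b = b → τ ∈ lineGroup hS b) ∧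
      ∃ N, Odd N ∧ (Nat.card (pCompl hS.nilp 2) = 1 → N = 1) ∧
        Nat.card hS.T = Nat.card hS.A * (1 + (Nat.card hS.A - 1) * N) * Nat.card hS.A *
          Nat.card (tFix hS b) := by
  classical
  haveI := hS.finite
  set T := hS.T with hT
  set O := pCompl hS.nilp 2 with hO
  set A := hS.A with hA
  have hyT : y ∈ T := (Subgroup.mem_inf.1 hy).1
  set T0 := (tFix hS b).subgroupOf T
  set T1 := (lineGroup hS b).subgroupOf T
  set O0 := (O ⊓ stabilizer G b).subgroupOf O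
  -- coordinates on the points other than `a`
  have hout0 : ∀ τ : T, ∃ h ∈ tFix hS b, ((QuotientGroup.mk τ : T ⧸ T0).out : G) = τ * h := fun τ => by
    obtain ⟨h, hh⟩ := QuotientGroup.mk_out_eq_mul T0 τ
    exact ⟨(h : T), h.2, by rw [hh]; rfl⟩
  have houtO : ∀ o : O, ∃ k ∈ O, k • b = b ∧ ((QuotientGroup.mk o : O ⧸ O0).out : G) = o * k := fun o => by
    obtain ⟨h, hh⟩ := QuotientGroup.mk_out_eq_mul O0 o
    exact ⟨(h : O), (h : O).2, (Subgroup.mem_inf.1 h.2).2, by rw [hh]; rfl⟩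
  have hout1 : ∀ τ : T, ∃ w ∈ A, ∃ h ∈ tFix hS b,
      ((QuotientGroup.mk τ : T ⧸ T1).out : G) = τ * (w * h) := fun τ => by
    obtain ⟨l, hl⟩ := QuotientGroup.mk_out_eq_mul T1 τ
    obtain ⟨w, hw, h, hh, e⟩ : ((l : T) : G) ∈ lineGroup hS b := l.2
    exact ⟨w, hw, h, hh, by rw [hl, ← e]; rfl⟩
  let θ : (T ⧸ T0) × (O ⧸ O0) → {c : Ω // c ≠ a} := fun x =>
    ⟨((x.1.out : G) * (x.2.out : G)) • b, fun e => hb (MulAction.injective _ (e.trans
      (smul_a_of_mem hS (mul_mem (pPart_le _ _ x.1.out.2) (pCompl_le _ _ x.2.out.2))).symm))⟩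
  have hθ : Function.Bijective θ := by
    constructor
    · rintro ⟨q, r⟩ ⟨q', r'⟩ e
      have e' : ((q.out : G) * (r.out : G)) • b = ((q'.out : G) * (r'.out : G)) • b :=
        congrArg Subtype.val e
      have hfix : ((q.out : G)⁻¹ * q'.out * ((r.out : G)⁻¹ * r'.out)) ∈ stabilizer G b := by
        have hc : Commute ((q.out : G)⁻¹ * q'.out) (r.out : G)⁻¹ :=
          parts_commute hS.nilp 2 (mul_mem (inv_mem q.out.2) q'.out.2) (inv_mem r.out.2)
        have : (q.out : G)⁻¹ * q'.out * ((r.out : G)⁻¹ * r'.out) =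
            ((q.out : G) * r.out)⁻¹ * (q'.out * r'.out) := by
          rw [← mul_assoc, hc.eq]; group
        rw [this]
        show _ • b = b
        rw [mul_smul, ← e', inv_smul_smul]
      obtain ⟨h1, h2⟩ := parts_of_mem hS.nilp 2 (mul_mem (inv_mem q.out.2) q'.out.2)
        (mul_mem (inv_mem r.out.2) r'.out.2) rfl hfix
      refine Prod.ext ?_ ?_
      · rw [← QuotientGroup.out_eq' q, ← QuotientGroup.out_eq' q', QuotientGroup.eq]
        exact Subgroup.mem_inf.2 ⟨mul_mem (inv_mem q.out.2) q'.out.2, h1⟩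
      · rw [← QuotientGroup.out_eq' r, ← QuotientGroup.out_eq' r', QuotientGroup.eq]
        exact Subgroup.mem_inf.2 ⟨mul_mem (inv_mem r.out.2) r'.out.2, h2⟩
    · rintro ⟨c, hc⟩
      obtain ⟨τ, hτ, o, ho, rfl⟩ := exists_TO hS b hb hc
      refine ⟨(QuotientGroup.mk ⟨τ, hτ⟩, QuotientGroup.mk ⟨o, ho⟩), Subtype.ext ?_⟩
      obtain ⟨h, hh, e1⟩ := hout0 ⟨τ, hτ⟩
      obtain ⟨k, hkO, hk, e2⟩ := houtO ⟨o, ho⟩
      show (_ * _ : G) • b = _
      rw [e1, e2]
      show (τ * h * (o * k)) • b = (τ * o) • b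
      have hc' : Commute h o := parts_commute hS.nilp 2 (Subgroup.mem_inf.1 hh).1 ho
      rw [show τ * h * (o * k) = τ * (h * o) * k by group, hc'.eq, mul_smul, hk, ← mul_assoc, mul_smul,
        (Subgroup.mem_inf.1 hh).2]
  let e := Equiv.ofBijective θ hθ
  -- the `A`-orbits
  let P : T → Prop := fun τ => ((τ : G)⁻¹ * y * τ) • b = b
  let ψ : (T ⧸ T1) × A → T ⧸ T0 := fun x =>
    QuotientGroup.mk ⟨(x.1.out : G) * x.2, mul_mem x.1.out.2 (A_le_T hS x.2.2)⟩
  have hψ : Function.Bijective ψ := by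
    constructor
    · rintro ⟨r, w⟩ ⟨r', w'⟩ e
      have e0 : (QuotientGroup.mk (⟨(r.out : G) * w, mul_mem r.out.2 (A_le_T hS w.2)⟩ : T) : T ⧸ T0) =
          QuotientGroup.mk ⟨(r'.out : G) * w', mul_mem r'.out.2 (A_le_T hS w'.2)⟩ := e
      have hm : ((r.out : G) * w)⁻¹ * ((r'.out : G) * w') ∈ tFix hS b := by
        have h0 := QuotientGroup.eq.1 e0
        exact h0
      have hr : r = r' := by
        rw [← QuotientGroup.out_eq' r, ← QuotientGroup.out_eq' r', QuotientGroup.eq]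
        show (r.out : G)⁻¹ * r'.out ∈ lineGroup hS b
        rw [show (r.out : G)⁻¹ * r'.out =
          (w : G) * (((r.out : G) * w)⁻¹ * (r'.out * w')) * (w' : G)⁻¹ by group]
        exact mul_mem (mul_mem (A_le_lineGroup hS b w.2) (tFix_le_lineGroup hS b hm))
          (inv_mem (A_le_lineGroup hS b w'.2))
      subst hr
      rw [show ((r.out : G) * w)⁻¹ * ((r.out : G) * w') = (w : G)⁻¹ * w' by group] at hm
      have := A_inf_tFix hS b hb (mul_mem (inv_mem w.2) w'.2) (Subgroup.mem_inf.1 hm).2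
      rw [inv_mul_eq_one] at this
      exact Prod.ext rfl (Subtype.ext this)
    · intro q
      obtain ⟨w, hw, h, hh, e⟩ := hout1 q.out
      refine ⟨(QuotientGroup.mk q.out, ⟨w⁻¹, inv_mem hw⟩), ?_⟩
      refine Eq.trans ?_ (QuotientGroup.out_eq' q)
      refine QuotientGroup.eq.2 ?_
      show ((((QuotientGroup.mk q.out : T ⧸ T1).out : G)) * w⁻¹)⁻¹ * (q.out : G) ∈ tFix hS b
      rw [e, show ((q.out : G) * (w * h) * w⁻¹)⁻¹ * (q.out : G) = w * h⁻¹ * w⁻¹ by group,
        ((A_commute_T hS hw (inv_mem (Subgroup.mem_inf.1 hh).1))).eq, mul_inv_cancel_right]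
      exact inv_mem hh
  have hPψ : ∀ x, P (ψ x).out ↔ P x.1.out := by
    rintro ⟨r, w⟩
    obtain ⟨h, hh, e⟩ := hout0 ⟨(r.out : G) * w, mul_mem r.out.2 (A_le_T hS w.2)⟩
    show (((ψ (r, w)).out : G)⁻¹ * y * (ψ (r, w)).out) • b = b ↔ _
    rw [e, mul_assoc (r.out : G) (w : G) h]
    exact le_lineGroup_iff hS b hb r.out.2 w.2 hh y hyT
  -- cardinalities
  set R := {r : T ⧸ T1 // P r.out} with hR
  have cΩ : Nat.card Ω = Nat.card {c : Ω // c ≠ a} + 1 := by
    haveI : Fintype Ω := Fintype.ofFinite Ω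
    simp only [Nat.card_eq_fintype_card, Fintype.card_subtype_compl, Fintype.card_subtype_eq]
    have : 0 < Fintype.card Ω := Fintype.card_pos_iff.2 ⟨a⟩
    omega
  have hM : Nat.card {c : Ω // c ≠ a} = Nat.card (T ⧸ T1) * Nat.card A * Nat.card (O ⧸ O0) := by
    rw [← Nat.card_congr e, Nat.card_prod, ← Nat.card_congr (Equiv.ofBijective ψ hψ), Nat.card_prod]
  have hfix : fixCard Ω y = Nat.card R * Nat.card A * Nat.card (O ⧸ O0) + 1 := by
    haveI : Fintype Ω := Fintype.ofFinite Ω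
    have h1 : fixCard Ω y = Nat.card {c : {c : Ω // c ≠ a} // y • c.1 = c.1} + 1 := by
      rw [Nat.card_congr (Equiv.subtypeSubtypeEquivSubtypeInter (fun c : Ω => c ≠ a) (fun c => y • c = c))]
      simp only [fixCard, Nat.card_eq_fintype_card, Fintype.card_subtype]
      have : (Finset.univ.filter fun c : Ω => c ≠ a ∧ y • c = c) =
          (Finset.univ.filter fun c : Ω => y • c = c).erase a := by
        ext c; simp
      rw [this, Finset.card_erase_add_one (by simp [(nonA_of_fix hS b hb hy hyi).fix])]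
    rw [h1]
    congr 1
    have e1 : {x : (T ⧸ T0) × (O ⧸ O0) // P x.1.out} ≃ {c : {c : Ω // c ≠ a} // y • c.1 = c.1} :=
      e.subtypeEquiv fun x => (fix_TO_iff hS b hyT x.1.out.2 x.2.out.2).symm
    have e2 : {x : (T ⧸ T1) × A // P x.1.out} ≃ {q : T ⧸ T0 // P q.out} :=
      (Equiv.ofBijective ψ hψ).subtypeEquiv fun x => (hPψ x).symm
    rw [← Nat.card_congr e1,
      Nat.card_congr (Equiv.prodSubtypeFstEquivSubtypeProd (p := fun q : T ⧸ T0 => P q.out)),
      Nat.card_prod, ← Nat.card_congr e2,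
      Nat.card_congr (Equiv.prodSubtypeFstEquivSubtypeProd (p := fun r : T ⧸ T1 => P r.out)),
      Nat.card_prod]
  have hformula := (fix_formula hS h4 (nonA_of_fix hS b hb hy hyi)).1
  rw [cΩ, hM, hfix, Nat.add_sub_cancel] at hformula
  set M := Nat.card (T ⧸ T1) with hMd
  set k := Nat.card R with hk
  set q := Nat.card A with hq
  set N := Nat.card (O ⧸ O0) with hN
  have hNodd : Odd N := (odd_card_compl hS).of_dvd_nat (Subgroup.card_quotient_dvd_card _)
  have hqeven : Even q := by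
    obtain ⟨z, hz, hz1⟩ := exists_A hS
    have h := Subgroup.orderOf_dvd_natCard A hz
    rw [orderOf_eq_prime (by rw [pow_two, hz.2.1]) hz1] at h
    exact even_iff_two_dvd.2 h
  have hk1 : 1 ≤ k := by
    haveI : Nonempty R := ⟨⟨QuotientGroup.mk 1, by
      obtain ⟨w, hw, h, hh, e⟩ := hout1 1
      show (_⁻¹ * y * _) • b = b
      rw [e]
      refine (le_lineGroup_iff hS b hb (1 : T).2 hw hh y hyT).2 ?_
      simpa using (Subgroup.mem_inf.1 hy).2⟩⟩
    exact Nat.card_pos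
  have hMeq : M = k * q * (1 + (q - 1) * k * N) := by
    obtain ⟨m, hm⟩ : ∃ m, q = m + 1 := ⟨q - 1, by omega⟩
    rw [hm, Nat.add_sub_cancel] at hformula ⊢
    refine Nat.eq_of_mul_eq_mul_right (m := (m + 1) * N)
      (Nat.mul_pos (by omega) (Nat.pos_of_ne_zero fun e => by rw [e] at hNodd; simp at hNodd)) ?_
    nlinarith [hformula]
  obtain ⟨m, hMpow⟩ : ∃ m, M = 2 ^ m := by
    obtain ⟨j, hj⟩ := IsPGroup.iff_card.1 (pPart_isPGroup hS.nilp 2)
    obtain ⟨m, -, hm⟩ := (Nat.dvd_prime_pow Nat.prime_two).1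
      (hj ▸ Subgroup.card_quotient_dvd_card T1)
    exact ⟨m, hm⟩
  have hkone : k = 1 := by
    obtain ⟨i, -, hi⟩ := (Nat.dvd_prime_pow Nat.prime_two).1
      (hMpow ▸ (hMeq ▸ Dvd.intro (q * (1 + (q - 1) * k * N)) (by ring) : k ∣ M))
    obtain ⟨j, -, hj⟩ := (Nat.dvd_prime_pow Nat.prime_two).1
      (hMpow ▸ (hMeq ▸ Dvd.intro_left (k * q) rfl : (1 + (q - 1) * k * N) ∣ M))
    rcases Nat.eq_zero_or_pos i with rfl | hipos
    · simpa using hi
    exfalso
    have hke : Even k := by rw [hi]; exact (Nat.even_pow' hipos.ne').2 even_two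
    have ho : Odd (1 + (q - 1) * k * N) := by
      rw [add_comm]; exact Even.add_one ((hke.mul_left (q - 1)).mul_right N)
    rcases Nat.eq_zero_or_pos j with rfl | hjpos
    · rw [pow_zero] at hj
      have : 0 < (q - 1) * k * N :=
        Nat.mul_pos (Nat.mul_pos (by omega) hk1) (Nat.pos_of_ne_zero fun e => by rw [e] at hNodd; simp at hNodd)
      omega
    · rw [hj] at ho
      exact Nat.not_even_iff_odd.2 ho ((Nat.even_pow' hjpos.ne').2 even_two)
  refine ⟨fun τ hτ hP => ?_, N, hNodd, fun hO1 => ?_, ?_⟩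
  · haveI : Subsingleton R := (Nat.card_eq_one_iff_unique.1 hkone).1
    have hPr : ∀ σ : T, ((σ : G)⁻¹ * y * σ) • b = b → P (QuotientGroup.mk σ : T ⧸ T1).out := by
      intro σ hσ
      obtain ⟨w, hw, h, hh, e⟩ := hout1 σ
      show (_⁻¹ * y * _) • b = b
      rw [e]
      exact (le_lineGroup_iff hS b hb σ.2 hw hh y hyT).2 hσ
    have he : (⟨_, hPr ⟨τ, hτ⟩ hP⟩ : R) = ⟨_, hPr 1 (by simpa using (Subgroup.mem_inf.1 hy).2)⟩ :=
      Subsingleton.elim _ _
    have h2 : (QuotientGroup.mk (⟨τ, hτ⟩ : T) : T ⧸ T1) = QuotientGroup.mk 1 := congrArg Subtype.val he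
    have h3 := QuotientGroup.eq.1 h2.symm
    simpa using (show ((1 : T)⁻¹ * ⟨τ, hτ⟩ : T).1 ∈ lineGroup hS b from h3)
  · have h1 : N ∣ 1 := hO1 ▸ Subgroup.card_quotient_dvd_card O0
    exact Nat.dvd_one.1 h1
  · have h1 := Subgroup.card_eq_card_quotient_mul_card_subgroup T0
    rw [← Nat.card_congr (Equiv.ofBijective ψ hψ), Nat.card_prod,
      Nat.card_congr (Subgroup.subgroupOfEquivOfLe (inf_le_left : tFix hS b ≤ T)).toEquiv] at h1
    rw [h1, ← hMd, hMeq, hkone]
    ring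

/-- An involution of `U` fixing `b ≠ a` forces `U` to be a `2`-group. -/
theorem isPGroup_of_fix (h4 : 4 ≤ Nat.card hS.A) (hb : b ≠ a) {y : G} (hy : y ∈ tFix hS b)
    (hyi : IsInvol y) : IsPGroup 2 U := by
  classical
  haveI := hS.finite
  have hyT : y ∈ hS.T := (Subgroup.mem_inf.1 hy).1
  have hyb : y • b = b := (Subgroup.mem_inf.1 hy).2
  have hya : y • a = a := (nonA_of_fix hS b hb hy hyi).fix
  set N : Subgroup G := Subgroup.centralizer {y} with hN
  set E : Set Ω := {c | y • c = c} with hE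
  have memN : ∀ {g : G}, Commute g y → g ∈ N := fun {g} hg =>
    Subgroup.mem_centralizer_singleton_iff.2 hg.eq
  have hinv : Invariant N E := fun g hg c (hc : y • c = c) => by
    show y • (g • c) = g • c
    rw [← mul_smul, ← Subgroup.mem_centralizer_singleton_iff.1 hg, mul_smul, hc]
  have hline := (fix_structure hS b h4 hb hy hyi).1
  have hpt : ∀ c ∈ E, c ≠ a → ∃ u ∈ U, u ∈ N ∧ u • b = c ∧ ∀ τ ∈ hS.T, Commute u τ := by
    intro c (hc : y • c = c) hca
    obtain ⟨τ, hτ, o, ho, rfl⟩ := exists_TO hS b hb hca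
    obtain ⟨w, hw, h, hh, rfl⟩ := hline τ hτ ((fix_TO_iff hS b hyT hτ ho).1 hc)
    have hcomm : ∀ σ ∈ hS.T, Commute (w * o) σ := fun σ hσ =>
      (A_commute_T hS hw hσ).mul_left (parts_commute hS.nilp 2 hσ ho).symm
    refine ⟨w * o, mul_mem (A_le hS hw) (pCompl_le _ _ ho), memN (hcomm y hyT), ?_, hcomm⟩
    have hc' : Commute h o := parts_commute hS.nilp 2 (Subgroup.mem_inf.1 hh).1 ho
    rw [show w * h * o = w * (h * o) by group, hc'.eq, ← mul_assoc, mul_smul,
      mul_smul (w * o) h b, (Subgroup.mem_inf.1 hh).2, mul_smul]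
  have hd : RestrictData a U N E :=
    { inv := hinv
      mem := hya
      other := ⟨b, hyb, hb⟩
      swap := fun c hc => by
        obtain ⟨g, hg, e⟩ := centralizer_transitive hS hyi hya hc
        exact ⟨g, memN hg, e⟩
      uTrans := fun c hc d hd hca hda => by
        obtain ⟨u, hu, huN, hub, -⟩ := hpt c hc hca
        obtain ⟨v, hv, hvN, hvb, -⟩ := hpt d hd hda
        exact ⟨v * u⁻¹, mul_mem hv (inv_mem hu), mul_mem hvN (inv_mem huN),
          by rw [mul_smul, ← hub, inv_smul_smul, hvb]⟩ }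
  obtain ⟨z, hz, hz1⟩ := exists_A hS
  have hAN : ∀ w ∈ hS.A, w ∈ N := fun w hw => memN (A_commute_T hS hw hyT)
  have hO : OddSplit (G := restrictGroup hd.inv) (⟨a, hd.mem⟩ : E) (restrictU hd.inv U) := by
    refine restrict_odd hS hd (odd_card_of_A hS hinv hya hz hz1 (hAN z hz)) (fun c hc => ?_) ?_
    · -- every 2-element of the two-point stabiliser is trivial on `E`
      set K := ((stabilizer G a ⊓ stabilizer G (c : Ω) ⊓ N).subgroupOf N).map (restrictElt hd.inv)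
      rw [← Nat.not_even_iff_odd, even_iff_two_dvd]
      intro h2
      haveI : Finite (Equiv.Perm E) := Finite.of_injective (fun σ : Equiv.Perm E => (σ : E → E))
        (fun σ τ h => Equiv.ext (congrFun h))
      haveI := Fact.mk Nat.prime_two
      obtain ⟨x, hx⟩ := exists_prime_orderOf_dvd_card' (G := K) 2 h2
      obtain ⟨g, hg, hgx⟩ := x.2
      obtain ⟨k, m, hm, hkm⟩ := Nat.exists_eq_two_pow_mul_odd (orderOf_pos g).ne'
      have h1 : restrictElt hd.inv (g ^ m) = (x : restrictGroup hd.inv) := by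
        rw [map_pow, hgx]
        obtain ⟨j, rfl⟩ := hm
        rw [pow_succ, pow_mul, show (x : restrictGroup hd.inv) ^ 2 = 1 by
          rw [← hx, ← Subgroup.orderOf_coe, pow_orderOf_eq_one], one_pow, one_mul]
      have hg2 : ((g ^ m : N) : G) ^ 2 ^ k = 1 := by
        rw [← Subgroup.coe_pow, ← pow_mul, mul_comm, ← hkm, pow_orderOf_eq_one]; rfl
      obtain ⟨⟨hga, hgc⟩, -⟩ := (pow_mem hg m : g ^ m ∈ _)
      have hgT : ((g ^ m : N) : G) ∈ hS.T := two_mem_T hS hga ⟨k, hg2⟩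
      -- it fixes `b`, hence all of `E`
      obtain ⟨u, hu, -, hub, hucomm⟩ := hpt c c.2 hc
      have hgb : ((g ^ m : N) : G) • b = b := by
        refine MulAction.injective u ?_
        show u • (((g ^ m : N) : G) • b) = u • b
        rw [← mul_smul, (hucomm _ hgT).eq, mul_smul, hub]
        exact hgc
      have htriv : restrictElt hd.inv (g ^ m) = 1 := by
        refine FaithfulSMul.eq_of_smul_eq_smul (α := E) fun d => ?_
        rw [one_smul]
        refine Subtype.ext ?_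
        show ((g ^ m : N) : G) • (d : Ω) = d
        by_cases hda : (d : Ω) = a
        · rw [hda]; exact hga
        obtain ⟨v, hv, -, hvb, hvcomm⟩ := hpt d d.2 hda
        rw [← hvb, ← mul_smul, ← (hvcomm _ hgT).eq, mul_smul, hgb]
      rw [htriv] at h1
      rw [← Subgroup.orderOf_coe, ← h1, orderOf_one] at hx
      norm_num at hx
    · haveI : Fintype hS.A := Fintype.ofFinite _
      obtain ⟨x, hx, y', hy', hxy⟩ : ∃ x ∈ (Finset.univ.erase (1 : hS.A)),
          ∃ y' ∈ (Finset.univ.erase (1 : hS.A)), x ≠ y' := by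
        refine Finset.one_lt_card.1 ?_
        rw [Finset.card_erase_of_mem (Finset.mem_univ _), Finset.card_univ, ← Nat.card_eq_fintype_card]
        omega
      refine ⟨x, y', hAN _ x.2, hAN _ y'.2, x.2, y'.2, fun e => (Finset.mem_erase.1 hx).1 (Subtype.ext e),
        fun e => (Finset.mem_erase.1 hy').1 (Subtype.ext e), fun e => hxy (Subtype.ext e)⟩
  haveI : Finite (Equiv.Perm E) := Finite.of_injective (fun σ : Equiv.Perm E => (σ : E → E))
    (fun σ τ h => Equiv.ext (congrFun h))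
  have h2 := isPGroup_two hO
  -- the odd part of `U` fixes `b`
  have hcompl : ∀ o ∈ pCompl hS.nilp 2, o = 1 := by
    refine fun o ho => eq_one_of_normal hS (V := (pCompl hS.nilp 2 : Set G))
      (fun u hu v hv => pCompl_conj hS.nilp 2 (hS.conj_mem u (hS.le hu)) hv)
      (fun v hv => smul_a_of_mem hS (pCompl_le _ _ hv)) hb (fun v hv => ?_) ho
    have hvN : v ∈ N := memN (parts_commute hS.nilp 2 hyT hv).symm
    obtain ⟨i, hi⟩ := h2 ⟨restrictElt hd.inv ⟨v, hvN⟩,
      (mem_restrictU hd.inv U).2 ⟨_, pCompl_le _ _ hv, rfl⟩⟩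
    have h1 : orderOf (restrictElt hd.inv ⟨v, hvN⟩) ∣ 2 ^ i :=
      orderOf_dvd_of_pow_eq_one (by simpa using congrArg Subtype.val hi)
    have h3 : orderOf (restrictElt hd.inv ⟨v, hvN⟩) ∣ orderOf v :=
      (orderOf_map_dvd _ _).trans (by rw [Subgroup.orderOf_mk])
    have h4' : restrictElt hd.inv ⟨v, hvN⟩ = 1 := orderOf_eq_one_iff.1 (Nat.eq_one_of_dvd_coprimes
      (((mem_pCompl hS.nilp 2).1 hv).2.pow_right i) h3 h1)
    have h5 := congrArg (fun w : restrictGroup hd.inv => (((w • (⟨b, hyb⟩ : E)) : E) : Ω)) h4'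
    simp only [one_smul] at h5
    exact h5
  intro u
  obtain ⟨τ, hτ, o, ho, e⟩ := parts_cover hS.nilp 2 u.2
  obtain ⟨j, hj⟩ := pPart_isPGroup hS.nilp 2 ⟨τ, hτ⟩
  refine ⟨j, Subtype.ext ?_⟩
  rw [hcompl o ho, mul_one] at e
  simpa [e] using congrArg Subtype.val hj

end Cfsg.Agent.RankOneSplit
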