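import Cfsg.Agent.Lib.RankOneSplit.Delta

/-!
# The even case: `T₁ = A T₀` and its normaliser
-/

set_option autoImplicit false
set_option linter.unusedSectionVars false
set_option linter.style.haveILetI false
set_option linter.unusedVariables false

namespace Cfsg.Agent.RankOneSplit

open MulAction Cfsg.Agent.RankOne

universe u

variable {G Ω : Type u} [Group G] [MulAction G Ω] [Finite G] [FaithfulSMul G Ω]

/-- The situation: `U` is a `2`-group with a non-trivial element fixing `b`, and `H` is an odd complement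
of `U_b` in the stabiliser of `a` and `b`. -/
structure EvenCtx (a b : Ω) (U H : Subgroup G) : Prop where
  base : SplitPerm a U
  four : 4 ≤ Nat.card base.A
  hb : b ≠ a
  two : IsPGroup 2 U
  ne_bot : ∃ h ∈ U, h • b = b ∧ h ≠ 1
  H_le : H ≤ stabilizer G a ⊓ stabilizer G b
  H_odd : Odd (Nat.card H)
  cover : ∀ d ∈ stabilizer G a ⊓ stabilizer G b, ∃ τ ∈ U, τ • b = b ∧ ∃ k ∈ H, d = τ * k

section

variable {a b : Ω} {U H : Subgroup G} (C : EvenCtx a b U H)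

/-- `A`. -/
noncomputable abbrev EvenCtx.A : Subgroup G := C.base.A

/-- `T₀`. -/
noncomputable abbrev EvenCtx.T0 : Subgroup G := tFix C.base b

/-- `T₁`. -/
abbrev EvenCtx.T1 : Subgroup G := lineGroup C.base b

/-- `T₂`. -/
abbrev EvenCtx.T2 : Subgroup G := U ⊓ Subgroup.normalizer (C.T1 : Set G)

/-- `K₀`. -/
noncomputable abbrev EvenCtx.K0 : Subgroup G := H ⊓ Subgroup.centralizer (C.T0 : Set G)

/-- A central involution of `T₀`. -/
structure EvenCtx.Cen (y : G) : Prop where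
  mem : y ∈ C.T0
  invol : IsInvol y
  comm : ∀ h ∈ C.T0, Commute y h

include C

theorem mem_T {x : G} (hx : x ∈ U) : x ∈ C.base.T := by
  obtain ⟨k, hk⟩ := C.two ⟨x, hx⟩
  exact (mem_pPart C.base.nilp 2).2 ⟨hx, k, by simpa using congrArg Subtype.val hk⟩

theorem mem_T0 {x : G} (hx : x ∈ U) (hxb : x • b = b) : x ∈ C.T0 :=
  Subgroup.mem_inf.2 ⟨mem_T C hx, hxb⟩

theorem T0_le : C.T0 ≤ U := fun x hx => pPart_le _ _ (Subgroup.mem_inf.1 hx).1

theorem T0_fix {x : G} (hx : x ∈ C.T0) : x • b = b := (Subgroup.mem_inf.1 hx).2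

theorem T1_le : C.T1 ≤ U := fun x hx => pPart_le _ _ (lineGroup_le C.base b hx)

theorem A_comm {w τ : G} (hw : w ∈ C.A) (hτ : τ ∈ U) : Commute w τ := A_central C.base hw hτ

theorem A_sq {w : G} (hw : w ∈ C.A) : w * w = 1 := hw.2.1

theorem exists_cen : ∃ y, C.Cen y := by
  haveI := Fact.mk Nat.prime_two
  obtain ⟨h, hh, hhb, hh1⟩ := C.ne_bot
  haveI : Nontrivial C.T0 := (Subgroup.nontrivial_iff_ne_bot _).2 fun e => hh1 (by
    have := mem_T0 C hh hhb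
    rw [e] at this
    exact Subgroup.mem_bot.1 this)
  have hP : IsPGroup 2 C.T0 := (pPart_isPGroup C.base.nilp 2).to_le inf_le_left
  haveI := hP.center_nontrivial
  obtain ⟨n, hn, hn'⟩ :=
    (IsPGroup.nontrivial_iff_card (hP.to_subgroup (Subgroup.center C.T0))).1 inferInstance
  obtain ⟨z, hz⟩ := exists_prime_orderOf_dvd_card' (G := Subgroup.center C.T0) 2
    (hn' ▸ dvd_pow_self 2 hn.ne')
  have hz' : orderOf ((z : C.T0) : G) = 2 := by rw [Subgroup.orderOf_coe, Subgroup.orderOf_coe, hz]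
  refine ⟨((z : C.T0) : G), (z : C.T0).2, ⟨fun e => ?_, ?_⟩, fun x hx => ?_⟩
  · rw [e, orderOf_one] at hz'; norm_num at hz'
  · have := pow_orderOf_eq_one ((z : C.T0) : G)
    rwa [hz', pow_two] at this
  · exact (congrArg Subtype.val (Subgroup.mem_center_iff.1 z.2 ⟨x, hx⟩)).symm

theorem line_of_conj {y : G} (hy : y ∈ C.T0) (hyi : IsInvol y) {τ : G} (hτ : τ ∈ U)
    (h : (τ⁻¹ * y * τ) • b = b) : τ ∈ C.T1 :=
  (fix_structure C.base b C.four C.hb hy hyi).1 τ (mem_T C hτ) h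

theorem line_of_commute {y : G} (hy : y ∈ C.T0) (hyi : IsInvol y) {τ : G} (hτ : τ ∈ U)
    (h : Commute τ y) : τ ∈ C.T1 :=
  line_of_conj C hy hyi hτ (by rw [mul_assoc, ← h.eq, inv_mul_cancel_left]; exact T0_fix C hy)

theorem card_U : Nat.card U = Nat.card C.A ^ 3 * Nat.card C.T0 := by
  obtain ⟨y, hy⟩ := exists_cen C
  obtain ⟨N, -, hN1, hcard⟩ := (fix_structure C.base b C.four C.hb hy.mem hy.invol).2
  have hO : Nat.card (pCompl C.base.nilp 2) = 1 := by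
    rw [Subgroup.card_eq_one, Subgroup.eq_bot_iff_forall]
    intro x hx
    exact eq_one_of_mem_both C.base.nilp 2 (mem_T C (pCompl_le _ _ hx)) hx
  have hT : Nat.card C.base.T = Nat.card U := by
    congr 1
    rw [show C.base.T = U from le_antisymm (pPart_le _ _) fun x hx => mem_T C hx]
  rw [hN1 hO, hT] at hcard
  rw [hcard]
  obtain ⟨m, hm⟩ : ∃ m, Nat.card C.A = m + 1 := ⟨Nat.card C.A - 1, by have := C.four; unfold EvenCtx.A; omega⟩
  unfold EvenCtx.A EvenCtx.T0 at *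
  rw [hm, Nat.add_sub_cancel]
  ring

theorem dec_unique {w w' h h' : G} (hw : w ∈ C.A) (hw' : w' ∈ C.A) (hh : h ∈ C.T0) (hh' : h' ∈ C.T0)
    (e : w * h = w' * h') : w = w' ∧ h = h' := by
  have h1 : w'⁻¹ * w = h' * h⁻¹ := by
    calc w'⁻¹ * w = w'⁻¹ * (w * h) * h⁻¹ := by group
      _ = h' * h⁻¹ := by rw [e]; group
  have h2 := A_inf_tFix C.base b C.hb (mul_mem (inv_mem hw') hw)
    (h1 ▸ T0_fix C (mul_mem hh' (inv_mem hh)))
  rw [inv_mul_eq_one] at h2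
  exact ⟨h2.symm, mul_left_cancel (h2.symm ▸ e)⟩

theorem cen_comm_T1 {y : G} (hy : C.Cen y) {x : G} (hx : x ∈ C.T1) : Commute y x := by
  obtain ⟨w, hw, h, hh, rfl⟩ := hx
  exact ((A_comm C hw (T0_le C hy.mem)).symm).mul_right (hy.comm h hh)

theorem T1_le_T2 : C.T1 ≤ C.T2 :=
  le_inf (T1_le C) Subgroup.le_normalizer

theorem T2_conj {g : G} (hg : g ∈ C.T2) {x : G} (hx : x ∈ C.T1) : g * x * g⁻¹ ∈ C.T1 :=
  (Subgroup.mem_normalizer_iff.1 (Subgroup.mem_inf.1 hg).2 x).1 hx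

theorem T2_conj' {g : G} (hg : g ∈ C.T2) {x : G} (hx : x ∈ C.T1) : g⁻¹ * x * g ∈ C.T1 := by
  have := T2_conj C (inv_mem hg) hx
  rwa [inv_inv] at this

theorem exists_tau {y : G} (hy : C.Cen y) {w : G} (hw : w ∈ C.A) :
    ∃ τ ∈ C.T2, ∃ y', C.Cen y' ∧ τ⁻¹ * y * τ = w * y' := by
  by_cases hw1 : w = 1
  · exact ⟨1, one_mem _, y, hy, by simp [hw1]⟩
  have hn := (nonA_of_fix C.base b C.hb hy.mem hy.invol).mul_mem C.base hw
  haveI := C.base.finite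
  obtain ⟨c, hc, hca⟩ : ∃ c : Ω, (y * w) • c = c ∧ c ≠ a := by
    have h2 := (fix_formula C.base C.four hn).2
    obtain ⟨⟨p, hp⟩, ⟨q, hq⟩, hpq⟩ := Finite.one_lt_card_iff_nontrivial.1
      (show 1 < Nat.card {c : Ω // (y * w) • c = c} from h2) |>.exists_pair_ne
    by_cases h : p = a
    · exact ⟨q, hq, fun e => hpq (Subtype.ext (h.trans e.symm))⟩
    · exact ⟨p, hp, h⟩
  obtain ⟨τ, hτ, rfl⟩ := C.base.trans b c C.hb hca
  have huU : y * w ∈ U := mul_mem (T0_le C hy.mem) (A_le C.base hw)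
  set y' := τ⁻¹ * (y * w) * τ with hy'
  have hy'T0 : y' ∈ C.T0 := mem_T0 C (mul_mem (mul_mem (inv_mem hτ) huU) hτ)
    (by rw [hy', mul_smul, mul_smul, hc, inv_smul_smul])
  have hy'i : IsInvol y' := by rw [hy']; simpa using hn.invol.conj τ⁻¹
  have hcomm_u : ∀ x ∈ C.T1, Commute (τ⁻¹ * x * τ) y' := fun x hx => by
    have hc : Commute x (y * w) := (cen_comm_T1 C hy hx).symm.mul_right (A_comm C hw (T1_le C hx)).symm
    show τ⁻¹ * x * τ * (τ⁻¹ * (y * w) * τ) = τ⁻¹ * (y * w) * τ * (τ⁻¹ * x * τ)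
    calc τ⁻¹ * x * τ * (τ⁻¹ * (y * w) * τ) = τ⁻¹ * (x * (y * w)) * τ := by group
      _ = τ⁻¹ * ((y * w) * x) * τ := by rw [hc.eq]
      _ = _ := by group
  have hmaps : ∀ x ∈ C.T1, τ⁻¹ * x * τ⁻¹⁻¹ ∈ C.T1 := fun x hx => by
    rw [inv_inv]
    exact line_of_commute C hy'T0 hy'i (mul_mem (mul_mem (inv_mem hτ) (T1_le C hx)) hτ) (hcomm_u x hx)
  have hτN : τ ∈ C.T2 := Subgroup.mem_inf.2 ⟨hτ, inv_mem_iff.1 (mem_normalizer_of_maps hmaps)⟩
  refine ⟨τ, hτN, y', ⟨hy'T0, hy'i, fun h hh => ?_⟩, ?_⟩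
  · have h1 := hcomm_u _ (T2_conj C hτN (tFix_le_lineGroup C.base b hh))
    rw [show τ⁻¹ * (τ * h * τ⁻¹) * τ = h by group] at h1
    exact h1.symm
  · have hcw := A_comm C hw hτ
    rw [hy']
    calc τ⁻¹ * y * τ = τ⁻¹ * (y * (w * w)) * τ := by rw [A_sq C hw, mul_one]
      _ = τ⁻¹ * (y * w) * (w * τ) := by group
      _ = τ⁻¹ * (y * w) * (τ * w) := by rw [hcw.eq]
      _ = τ⁻¹ * (y * w) * τ * w := by group
      _ = w * (τ⁻¹ * (y * w) * τ) := (A_comm C hw (mul_mem (mul_mem (inv_mem hτ) huU) hτ)).eq.symm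

/-- For `τ` in `T₂`, the image of a central involution. -/
theorem cen_image {y : G} (hy : C.Cen y) {τ : G} (hτ : τ ∈ C.T2) :
    ∃ w ∈ C.A, ∃ y', C.Cen y' ∧ τ⁻¹ * y * τ = w * y' := by
  obtain ⟨w, hw, y', hy', e⟩ := T2_conj' C hτ (tFix_le_lineGroup C.base b hy.mem)
  have hτU : τ ∈ U := (Subgroup.mem_inf.1 hτ).1
  have hcw := A_comm C hw (T0_le C hy')
  refine ⟨w, hw, y', ⟨hy', ⟨?_, ?_⟩, fun h hh => ?_⟩, e⟩
  · intro e1
    rw [e1, mul_one] at e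
    have hwT : y = w := by
      calc y = τ * (τ⁻¹ * y * τ) * τ⁻¹ := by group
        _ = w := by rw [e, ← (A_comm C hw hτU).eq, mul_inv_cancel_right]
    exact hy.invol.1 (A_inf_tFix C.base b C.hb (hwT ▸ hw) (T0_fix C hy.mem))
  · have h1 : (w * y') * (w * y') = 1 := by
      rw [← e]
      calc τ⁻¹ * y * τ * (τ⁻¹ * y * τ) = τ⁻¹ * (y * y) * τ := by group
        _ = 1 := by rw [hy.invol.2]; group
    calc y' * y' = (w * w) * (y' * y') := by rw [A_sq C hw, one_mul]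
      _ = w * (w * y') * y' := by group
      _ = w * (y' * w) * y' := by rw [hcw.eq]
      _ = 1 := by rw [← h1]; group
  · have hx := T2_conj C hτ (tFix_le_lineGroup C.base b hh)
    have h1 : Commute (τ⁻¹ * y * τ) h := by
      have h2 := cen_comm_T1 C hy hx
      show τ⁻¹ * y * τ * h = h * (τ⁻¹ * y * τ)
      calc τ⁻¹ * y * τ * h = τ⁻¹ * (y * (τ * h * τ⁻¹)) * τ := by group
        _ = τ⁻¹ * ((τ * h * τ⁻¹) * y) * τ := by rw [h2.eq]
        _ = _ := by group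
    rw [e] at h1
    have h3 := ((A_comm C hw (T0_le C hh)).inv_left).mul_left h1
    rwa [inv_mul_cancel_left] at h3

theorem same_w {y : G} {τ σ y' y'' w : G} (hτ : τ ∈ U) (hσ : σ ∈ U) (hw : w ∈ C.A) (hy' : C.Cen y')
    (hy'' : C.Cen y'') (e : τ⁻¹ * y * τ = w * y') (e' : σ⁻¹ * y * σ = w * y'') : τ⁻¹ * σ ∈ C.T1 := by
  refine line_of_conj C hy'.mem hy'.invol (mul_mem (inv_mem hτ) hσ) ?_
  have hcw := (A_comm C hw (mul_mem (inv_mem hτ) hσ)).eq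
  have e2 : (τ⁻¹ * σ)⁻¹ * y' * (τ⁻¹ * σ) = w⁻¹ * (σ⁻¹ * y * σ) := by
    calc (τ⁻¹ * σ)⁻¹ * y' * (τ⁻¹ * σ) = (τ⁻¹ * σ)⁻¹ * (w⁻¹ * (w * y')) * (τ⁻¹ * σ) := by group
      _ = (w * (τ⁻¹ * σ))⁻¹ * (w * y') * (τ⁻¹ * σ) := by group
      _ = ((τ⁻¹ * σ) * w)⁻¹ * (w * y') * (τ⁻¹ * σ) := by rw [hcw]
      _ = w⁻¹ * (σ⁻¹ * (τ * (w * y') * τ⁻¹) * σ) := by group
      _ = w⁻¹ * (σ⁻¹ * y * σ) := by rw [← e]; group
  rw [e2, e', inv_mul_cancel_left]
  exact T0_fix C hy''.mem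

theorem mem_T1_of_w_one {y : G} (hy : C.Cen y) {τ y' : G} (hτ : τ ∈ U) (hy' : C.Cen y')
    (e : τ⁻¹ * y * τ = 1 * y') : τ ∈ C.T1 :=
  line_of_conj C hy.mem hy.invol hτ (by rw [e, one_mul]; exact T0_fix C hy'.mem)

theorem K0_odd : Odd (Nat.card C.K0) := C.H_odd.of_dvd_nat (Subgroup.card_dvd_of_le inf_le_left)

theorem K0_commute {k : G} (hk : k ∈ C.K0) {h : G} (hh : h ∈ C.T0) : Commute k h :=
  (Subgroup.mem_centralizer_iff.1 (Subgroup.mem_inf.1 hk).2 h hh).symm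

theorem K0_fix {k : G} (hk : k ∈ C.K0) : k • a = a ∧ k • b = b :=
  C.H_le (Subgroup.mem_inf.1 hk).1

theorem K0_U {k : G} (hk : k ∈ C.K0) {x : G} (hx : x ∈ U) : k * x * k⁻¹ ∈ U :=
  C.base.conj_mem k (K0_fix C hk).1 x hx

theorem K0_A {k : G} (hk : k ∈ C.K0) {x : G} (hx : x ∈ C.A) : k * x * k⁻¹ ∈ C.A :=
  A_conj C.base (K0_fix C hk).1 hx

theorem K0_T1 {k : G} (hk : k ∈ C.K0) {x : G} (hx : x ∈ C.T1) : k * x * k⁻¹ ∈ C.T1 := by
  obtain ⟨w, hw, h, hh, rfl⟩ := hx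
  exact ⟨k * w * k⁻¹, K0_A C hk hw, h, hh, by
    rw [show k * (w * h) * k⁻¹ = k * w * k⁻¹ * (k * h * k⁻¹) by group, (K0_commute C hk hh).eq,
      mul_inv_cancel_right]⟩

theorem K0_T2 {k : G} (hk : k ∈ C.K0) {x : G} (hx : x ∈ C.T2) : k * x * k⁻¹ ∈ C.T2 := by
  refine Subgroup.mem_inf.2 ⟨K0_U C hk (Subgroup.mem_inf.1 hx).1, mem_normalizer_of_maps fun z hz => ?_⟩
  have h1 := K0_T1 C (inv_mem hk) hz
  rw [inv_inv] at h1
  have h2 := K0_T1 C hk (T2_conj C hx h1)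
  rwa [show k * (x * (k⁻¹ * z * k) * x⁻¹) * k⁻¹ = k * x * k⁻¹ * z * (k * x * k⁻¹)⁻¹ by group] at h2

/-- `K₀` is transitive on the non-trivial elements of `A`. -/
theorem K0_transitive {w w' : G} (hw : w ∈ C.A) (hw1 : w ≠ 1) (hw' : w' ∈ C.A) (hw1' : w' ≠ 1) :
    ∃ k ∈ C.K0, k * w * k⁻¹ = w' := by
  obtain ⟨x, hx⟩ := exists_atype C.base b
  obtain ⟨g, j₁, hg, hga, -, -, -, hgc⟩ := atype_swap C.base (atype_base C.base hw hw1) hx C.hb.symm
  obtain ⟨g₂, j₂, hg₂, hga₂, -, -, -, hgc₂⟩ := atype_swap C.base (atype_base C.base hw' hw1') hx C.hb.symm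
  have hT0x : ∀ h ∈ C.T0, Commute h x := fun h hh => by
    refine (atype_commute C.base hx (T0_fix C hh) ?_).symm
    obtain ⟨k, hk⟩ := C.two ⟨h, T0_le C hh⟩
    exact ⟨k, by simpa using congrArg Subtype.val hk⟩
  set g₀ := g₂⁻¹ * g
  have hg₀ : g₀ * w * g₀⁻¹ = w' := by
    calc g₀ * w * g₀⁻¹ = g₂⁻¹ * (g * w * g⁻¹) * g₂ := by rw [show g₀ = g₂⁻¹ * g from rfl]; group
      _ = w' := by rw [hg, ← hg₂]; group
  have hg₀a : g₀ • a = a := by rw [mul_smul, hga, ← hga₂, inv_smul_smul]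
  have hg₀c : ∀ h ∈ C.T0, Commute h g₀ := fun h hh =>
    ((hgc₂ h (A_comm C hw' (T0_le C hh)).symm (hT0x h hh)).1.inv_right).mul_right
      (hgc h (A_comm C hw (T0_le C hh)).symm (hT0x h hh)).1
  obtain ⟨y, hy⟩ := exists_cen C
  have hne : g₀ • b ≠ a := fun e => C.hb (MulAction.injective g₀ (e.trans hg₀a.symm))
  have hfix : y • (g₀ • b) = g₀ • b := by
    rw [← mul_smul, (hg₀c y hy.mem).eq, mul_smul, T0_fix C hy.mem]
  obtain ⟨v, hv, hvb⟩ : ∃ v ∈ C.A, v • b = g₀ • b := by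
    obtain ⟨τ, hτ, e⟩ := C.base.trans b (g₀ • b) C.hb hne
    obtain ⟨v, hv, h, hh, rfl⟩ := line_of_conj C hy.mem hy.invol hτ (by
      rw [mul_smul, mul_smul, e, hfix, ← e, inv_smul_smul])
    exact ⟨v, hv, by rwa [mul_smul, T0_fix C hh] at e⟩
  set d := v⁻¹ * g₀ with hd
  have hda : d • a = a := by rw [hd, mul_smul, hg₀a, inv_smul_eq_iff, smul_a_of_mem C.base (A_le C.base hv)]
  have hdb : d • b = b := by rw [hd, mul_smul, ← hvb, inv_smul_smul]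
  have hdc : ∀ h ∈ C.T0, Commute h d := fun h hh =>
    ((A_comm C hv (T0_le C hh)).inv_left.symm).mul_right (hg₀c h hh)
  have hdw : d * w * d⁻¹ = w' := by
    have hc := (A_comm C hv (A_le C.base hw')).eq
    calc d * w * d⁻¹ = v⁻¹ * (g₀ * w * g₀⁻¹) * v := by rw [hd]; group
      _ = v⁻¹ * (w' * v) := by rw [hg₀]; group
      _ = w' := by rw [← hc, inv_mul_cancel_left]
  obtain ⟨τ, hτ, hτb, k, hk, hdk⟩ := C.cover d (Subgroup.mem_inf.2 ⟨hda, hdb⟩)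
  have hτ0 := mem_T0 C hτ hτb
  have hτk : Commute τ k := by
    have h1 : Commute τ d := hdc τ hτ0
    have h2 := ((Commute.refl τ).inv_right).mul_right h1
    rwa [hdk, inv_mul_cancel_left] at h2
  have hkc : ∀ h ∈ C.T0, Commute h k := by
    intro h hh
    have hj : Commute h (τ ^ Nat.card H) := by
      have h1 : Commute h (d ^ Nat.card H) := (hdc h hh).pow_right _
      rwa [hdk, hτk.mul_pow, orderOf_dvd_iff_pow_eq_one.1 (Subgroup.orderOf_dvd_natCard H hk), mul_one] at h1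
    have hτmem : τ ∈ Subgroup.zpowers (τ ^ Nat.card H) := by
      refine mem_zpowers_pow_iff.2 ?_
      obtain ⟨i, hi⟩ := C.two ⟨τ, hτ⟩
      exact Nat.Coprime.coprime_dvd_right
        (orderOf_dvd_of_pow_eq_one (by simpa using congrArg Subtype.val hi))
        ((Nat.coprime_two_right.2 C.H_odd).pow_right i)
    obtain ⟨i, hi⟩ := hτmem
    have hhτ : Commute h τ := hi ▸ hj.zpow_right i
    have h2 := hhτ.inv_right.mul_right (hdc h hh)
    rwa [hdk, inv_mul_cancel_left] at h2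
  refine ⟨k, Subgroup.mem_inf.2 ⟨hk, Subgroup.mem_centralizer_iff.2 fun h hh => (hkc h hh).eq⟩, ?_⟩
  have hkU : k * w * k⁻¹ ∈ C.A := A_conj C.base (C.H_le hk).1 hw
  calc k * w * k⁻¹ = τ⁻¹ * (τ * (k * w * k⁻¹)) := by group
    _ = τ⁻¹ * ((k * w * k⁻¹) * τ) := by rw [(A_comm C hkU hτ).eq]
    _ = τ⁻¹ * (k * w * k⁻¹ * τ) * (τ⁻¹ * τ) := by group
    _ = τ⁻¹ * (d * w * d⁻¹) * τ := by
      rw [hdk]
      have e : τ * (k * w * k⁻¹) * τ⁻¹ = k * w * k⁻¹ := by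
        rw [← (A_comm C hkU hτ).eq, mul_inv_cancel_right]
      rw [show τ * k * w * (τ * k)⁻¹ = τ * (k * w * k⁻¹) * τ⁻¹ by group, e]; group
    _ = w' := by rw [hdw, mul_assoc, ← (A_comm C hw' hτ).symm.eq, inv_mul_cancel_left]

/-- `K₀` moves every non-trivial element of `A`. -/
theorem K0_moves {w : G} (hw : w ∈ C.A) (hw1 : w ≠ 1) : ∃ k ∈ C.K0, k * w * k⁻¹ ≠ w := by
  obtain ⟨w', hw', hw1', hne⟩ : ∃ w' ∈ C.A, w' ≠ 1 ∧ w' ≠ w := by
    by_contra h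
    push Not at h
    classical
    haveI : Fintype C.A := Fintype.ofFinite _
    have hle : (Finset.univ : Finset C.A).card ≤ ({1, ⟨w, hw⟩} : Finset C.A).card :=
      Finset.card_le_card fun x _ => by
        simp only [Finset.mem_insert, Finset.mem_singleton]
        by_cases hx : x = 1
        · exact Or.inl hx
        · exact Or.inr (Subtype.ext (h x x.2 fun e => hx (Subtype.ext e)))
    have h4 := C.four
    rw [Finset.card_univ, ← Nat.card_eq_fintype_card] at hle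
    have h2 : ({1, ⟨w, hw⟩} : Finset C.A).card ≤ 2 := Finset.card_le_two
    unfold EvenCtx.A at *
    omega
  obtain ⟨k, hk, e⟩ := K0_transitive C hw hw1 hw' hw1'
  exact ⟨k, hk, e ▸ hne⟩

theorem conj_image {y τ y' w k : G} (hy : C.Cen y) (hy' : C.Cen y') (hk : k ∈ C.K0)
    (e : τ⁻¹ * y * τ = w * y') : (k * τ * k⁻¹)⁻¹ * y * (k * τ * k⁻¹) = k * w * k⁻¹ * y' := by
  have h1 : k⁻¹ * y * k = y := by rw [mul_assoc, ← (K0_commute C hk hy.mem).eq, inv_mul_cancel_left]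
  calc (k * τ * k⁻¹)⁻¹ * y * (k * τ * k⁻¹) = k * (τ⁻¹ * (k⁻¹ * y * k) * τ) * k⁻¹ := by group
    _ = k * w * (y' * k⁻¹) := by rw [h1, e]; group
    _ = k * w * (k⁻¹ * y') := by rw [((K0_commute C hk hy'.mem).inv_left).eq]
    _ = _ := by group

/-- `K₀` is transitive on the non-trivial cosets of `T₁` in `T₂`. -/
theorem coset_transitive {x x' : G} (hx : x ∈ C.T2) (hx' : x' ∈ C.T2) (hxn : x ∉ C.T1)
    (hxn' : x' ∉ C.T1) : ∃ k ∈ C.K0, x'⁻¹ * (k * x * k⁻¹) ∈ C.T1 := by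
  obtain ⟨y, hy⟩ := exists_cen C
  obtain ⟨w, hw, y', hy', e⟩ := cen_image C hy hx
  obtain ⟨w', hw', y'', hy'', e'⟩ := cen_image C hy hx'
  have hxU := (Subgroup.mem_inf.1 hx).1
  have hxU' := (Subgroup.mem_inf.1 hx').1
  have hw1 : w ≠ 1 := fun h => hxn (mem_T1_of_w_one C hy hxU hy' (h ▸ e))
  have hw1' : w' ≠ 1 := fun h => hxn' (mem_T1_of_w_one C hy hxU' hy'' (h ▸ e'))
  obtain ⟨k, hk, hkw⟩ := K0_transitive C hw hw1 hw' hw1'
  have h := conj_image C hy hy' hk e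
  rw [hkw] at h
  exact ⟨k, hk, same_w C hxU' (K0_U C hk hxU) hw' hy'' hy' e' h⟩

/-- A coset of `T₁` in `T₂` fixed by `K₀` is trivial. -/
theorem fixed_coset {x : G} (hx : x ∈ C.T2) (h : ∀ k ∈ C.K0, x⁻¹ * (k * x * k⁻¹) ∈ C.T1) : x ∈ C.T1 := by
  by_contra hxn
  obtain ⟨y, hy⟩ := exists_cen C
  obtain ⟨w, hw, y', hy', e⟩ := cen_image C hy hx
  have hw1 : w ≠ 1 := fun h => hxn (mem_T1_of_w_one C hy (Subgroup.mem_inf.1 hx).1 hy' (h ▸ e))
  obtain ⟨k, hk, hne⟩ := K0_moves C hw hw1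
  have h1 := conj_image C hy hy' hk e
  set σ := x⁻¹ * (k * x * k⁻¹) with hσ
  have hσT : σ ∈ C.T1 := h k hk
  have hwy : Commute (w * y') σ :=
    (A_comm C hw (T1_le C hσT)).mul_left (cen_comm_T1 C hy' hσT)
  have h2 : (k * x * k⁻¹)⁻¹ * y * (k * x * k⁻¹) = w * y' := by
    calc (k * x * k⁻¹)⁻¹ * y * (k * x * k⁻¹) = σ⁻¹ * (x⁻¹ * y * x) * σ := by rw [hσ]; group
      _ = σ⁻¹ * ((w * y') * σ) := by rw [e]; group
      _ = w * y' := by rw [hwy.eq, inv_mul_cancel_left]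
  rw [h1] at h2
  exact hne (mul_right_cancel h2)

theorem card_T2 : Nat.card C.T2 = Nat.card C.A * Nat.card C.T1 := by
  classical
  obtain ⟨y, hy⟩ := exists_cen C
  have hex : ∀ w : C.A, ∃ τ, τ ∈ C.T2 ∧ ∃ y', C.Cen y' ∧ τ⁻¹ * y * τ = (w : G) * y' := fun w => by
    obtain ⟨τ, hτ, y', hy', e⟩ := exists_tau C hy w.2
    exact ⟨τ, hτ, y', hy', e⟩
  choose τ hτ y' hy' he using hex
  set L := C.T1.subgroupOf C.T2
  have hbij : Function.Bijective (fun w : C.A => (QuotientGroup.mk ⟨τ w, hτ w⟩ : C.T2 ⧸ L)) := by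
    constructor
    · intro w w' e
      have h0 : (QuotientGroup.mk ⟨τ w, hτ w⟩ : C.T2 ⧸ L) = QuotientGroup.mk ⟨τ w', hτ w'⟩ := e
      have hm := QuotientGroup.eq.1 h0
      have hm' : (τ w)⁻¹ * τ w' ∈ C.T1 := hm
      have hcomm : Commute ((w : G) * y' w) ((τ w)⁻¹ * τ w') :=
        (A_comm C w.2 (T1_le C hm')).mul_left (cen_comm_T1 C (hy' w) hm')
      have h2 : (w' : G) * y' w' = w * y' w := by
        calc (w' : G) * y' w' = (τ w')⁻¹ * y * τ w' := (he w').symm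
          _ = ((τ w)⁻¹ * τ w')⁻¹ * ((τ w)⁻¹ * y * τ w) * ((τ w)⁻¹ * τ w') := by group
          _ = ((τ w)⁻¹ * τ w')⁻¹ * (((w : G) * y' w) * ((τ w)⁻¹ * τ w')) := by rw [he w]; group
          _ = w * y' w := by rw [hcomm.eq, inv_mul_cancel_left]
      exact (Subtype.ext (dec_unique C w'.2 w.2 (hy' w').mem (hy' w).mem h2).1).symm
    · intro q
      obtain ⟨x, rfl⟩ := QuotientGroup.mk_surjective q
      obtain ⟨w, hw, y'', hy'', e⟩ := cen_image C hy x.2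
      refine ⟨⟨w, hw⟩, ?_⟩
      refine QuotientGroup.eq.2 ?_
      exact same_w C (Subgroup.mem_inf.1 (hτ _)).1 (Subgroup.mem_inf.1 x.2).1 hw (hy' _) hy'' (he ⟨w, hw⟩) e
  rw [Subgroup.card_eq_card_quotient_mul_card_subgroup L, ← Nat.card_congr (Equiv.ofBijective _ hbij),
    Nat.card_congr (Subgroup.subgroupOfEquivOfLe (T1_le_T2 C)).toEquiv]

theorem card_T1 : Nat.card C.T1 = Nat.card C.A * Nat.card C.T0 := by
  rw [← Nat.card_prod]
  refine (Nat.card_congr (Equiv.ofBijective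
    (fun x : C.A × C.T0 => (⟨(x.1 : G) * x.2, x.1, x.1.2, x.2, x.2.2, rfl⟩ : C.T1)) ⟨?_, ?_⟩)).symm
  · intro x x' e
    obtain ⟨h1, h2⟩ := dec_unique C x.1.2 x'.1.2 x.2.2 x'.2.2 (congrArg Subtype.val e)
    exact Prod.ext (Subtype.ext h1) (Subtype.ext h2)
  · rintro ⟨_, w, hw, h, hh, rfl⟩
    exact ⟨(⟨w, hw⟩, ⟨h, hh⟩), rfl⟩

theorem exists_outside : ∃ g ∈ C.T2, g ∉ C.T1 := by
  by_contra h
  push Not at h
  have h2 : C.T2 = C.T1 := le_antisymm h (T1_le_T2 C)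
  have h1 : Nat.card C.T1 = Nat.card C.A * Nat.card C.T1 := by rw [← card_T2 C, h2]
  have h3 : 0 < Nat.card C.T1 := Nat.card_pos
  have h4 := C.four
  have h5 : 4 * Nat.card C.T1 ≤ Nat.card C.A * Nat.card C.T1 := Nat.mul_le_mul_right _ h4
  omega

theorem T2_conj_T0 {g : G} (hg : g ∈ C.T2) {h : G} (hh : h ∈ C.T0) :
    ∃ w ∈ C.A, ∃ h' ∈ C.T0, g⁻¹ * h * g = w * h' :=
  T2_conj' C hg (tFix_le_lineGroup C.base b hh)

/-- Every element of `T₂` acts trivially on `T₀` modulo `A`, and `T₀` is elementary abelian. -/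
theorem T0_facts : (∀ g ∈ C.T2, ∀ h ∈ C.T0, ∃ w ∈ C.A, g⁻¹ * h * g = w * h) ∧
    (∀ h ∈ C.T0, h * h = 1) ∧ (∀ h ∈ C.T0, ∀ h' ∈ C.T0, Commute h h') ∧
    Nat.card C.T0 ≤ Nat.card C.A := by
  classical
  -- in each coset there is an element acting trivially modulo `A`
  have hgood : ∀ g ∈ C.T2, g ∉ C.T1 →
      ∃ g₀ ∈ C.T2, g₀ ∉ C.T1 ∧ ∀ h ∈ C.T0, ∃ w ∈ C.A, g₀⁻¹ * h * g₀ = w * h := by
    intro g hg hgn
    choose W hW P hP hWP using fun h : C.T0 => T2_conj_T0 C hg h.2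
    -- a conjugate `g'` of `g` with `g g' ∉ T₁`
    obtain ⟨k, hk, hkn⟩ : ∃ k ∈ C.K0, g * (k * g * k⁻¹) ∉ C.T1 := by
      by_contra h
      push Not at h
      refine hgn (fixed_coset C hg fun k hk => ?_)
      have h1 := h 1 (one_mem _)
      rw [one_mul, inv_one, mul_one] at h1
      have h2 := mul_mem (inv_mem h1) (h k hk)
      rwa [show (g * g)⁻¹ * (g * (k * g * k⁻¹)) = g⁻¹ * (k * g * k⁻¹) by group] at h2
    set g' := k * g * k⁻¹ with hg'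
    have hg'2 : g' ∈ C.T2 := K0_T2 C hk hg
    obtain ⟨k', hk', hk''⟩ := coset_transitive C hg (mul_mem hg hg'2) hgn hkn
    -- the common action
    have hact : ∀ {l : G}, l ∈ C.K0 → ∀ h : C.T0,
        (l * g * l⁻¹)⁻¹ * h * (l * g * l⁻¹) = l * W h * l⁻¹ * P h := by
      intro l hl h
      have h1 : l⁻¹ * (h : G) * l = h := by rw [mul_assoc, ← (K0_commute C hl h.2).eq, inv_mul_cancel_left]
      calc (l * g * l⁻¹)⁻¹ * h * (l * g * l⁻¹) = l * (g⁻¹ * (l⁻¹ * h * l) * g) * l⁻¹ := by group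
        _ = l * W h * (P h * l⁻¹) := by rw [h1, hWP h]; group
        _ = l * W h * (l⁻¹ * P h) := by rw [((K0_commute C hl (hP h)).inv_left).eq]
        _ = _ := by group
    obtain ⟨v, hv, τ₀, hτ₀, hk3⟩ : ((g * g')⁻¹ * (k' * g * k'⁻¹)) ∈ C.T1 := hk''
    -- the map `P` squared is `P` followed by an inner map
    have hPP : ∀ h : C.T0, τ₀⁻¹ * P ⟨P h, hP h⟩ * τ₀ = P h := by
      intro h
      have e1 := hact hk' h
      have e2 := hact hk ⟨P h, hP h⟩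
      have e3 : (g * g')⁻¹ * h * (g * g') = W h * (k * W ⟨P h, hP h⟩ * k⁻¹) * P ⟨P h, hP h⟩ := by
        calc (g * g')⁻¹ * h * (g * g') = g'⁻¹ * (g⁻¹ * h * g) * g' := by group
          _ = (g'⁻¹ * W h * g') * (g'⁻¹ * P h * g') := by rw [hWP h]; group
          _ = W h * (g'⁻¹ * P h * g') := by
            rw [show g'⁻¹ * W h * g' = W h by
              rw [mul_assoc, (A_comm C (hW h) (Subgroup.mem_inf.1 hg'2).1).eq, inv_mul_cancel_left]]
          _ = _ := by rw [e2]; group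
      have e4 : k' * g * k'⁻¹ = g * g' * (v * τ₀) := by rw [← hk3, mul_inv_cancel_left]
      have e5 : (k' * g * k'⁻¹)⁻¹ * h * (k' * g * k'⁻¹) =
          W h * (k * W ⟨P h, hP h⟩ * k⁻¹) * (τ₀⁻¹ * P ⟨P h, hP h⟩ * τ₀) := by
        have hA' : W h * (k * W ⟨P h, hP h⟩ * k⁻¹) ∈ C.A := mul_mem (hW h) (K0_A C hk (hW _))
        have c1 := A_comm C hA' (mul_mem (A_le C.base hv) (T0_le C hτ₀))
        have c2 : Commute v (P ⟨P h, hP h⟩) := A_comm C hv (T0_le C (hP _))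
        rw [e4]
        calc (g * g' * (v * τ₀))⁻¹ * h * (g * g' * (v * τ₀))
            = (v * τ₀)⁻¹ * ((g * g')⁻¹ * h * (g * g')) * (v * τ₀) := by group
          _ = (v * τ₀)⁻¹ * (W h * (k * W ⟨P h, hP h⟩ * k⁻¹)) * P ⟨P h, hP h⟩ * (v * τ₀) := by
              rw [e3]; group
          _ = W h * (k * W ⟨P h, hP h⟩ * k⁻¹) * (v * τ₀)⁻¹ * P ⟨P h, hP h⟩ * (v * τ₀) := by
              rw [(c1.inv_right).eq]
          _ = W h * (k * W ⟨P h, hP h⟩ * k⁻¹) * τ₀⁻¹ * (v⁻¹ * (P ⟨P h, hP h⟩ * v)) * τ₀ := by group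
          _ = _ := by rw [← c2.eq]; group
      rw [e1] at e5
      exact (dec_unique C (K0_A C hk' (hW h)) (mul_mem (hW h) (K0_A C hk (hW _))) (hP h)
        (mul_mem (mul_mem (inv_mem hτ₀) (hP _)) hτ₀) e5).2.symm
    have hinj : Function.Injective (fun h : C.T0 => (⟨P h, hP h⟩ : C.T0)) := by
      intro h h' e
      have e' : P h = P h' := congrArg Subtype.val e
      have hgU := (Subgroup.mem_inf.1 hg).1
      have h1 : ((h : G)⁻¹ * h') ∈ C.A := by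
        have h2 : g⁻¹ * ((h : G)⁻¹ * h') * g = (P h)⁻¹ * ((W h)⁻¹ * W h') * P h' := by
          calc g⁻¹ * ((h : G)⁻¹ * h') * g = (g⁻¹ * h * g)⁻¹ * (g⁻¹ * h' * g) := by group
            _ = _ := by rw [hWP h, hWP h']; group
        have hwA : (W h)⁻¹ * W h' ∈ C.A := mul_mem (inv_mem (hW h)) (hW h')
        rw [e', mul_assoc (P h')⁻¹, (A_comm C hwA (T0_le C (hP h'))).eq, inv_mul_cancel_left] at h2
        have h3 := A_conj C.base (smul_a_of_mem C.base hgU) hwA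
        rwa [← h2, show g * (g⁻¹ * ((h : G)⁻¹ * h') * g) * g⁻¹ = (h : G)⁻¹ * h' by group] at h3
      have := A_inf_tFix C.base b C.hb h1 (T0_fix C (mul_mem (inv_mem h.2) h'.2))
      exact Subtype.ext (inv_mul_eq_one.1 this)
    have hsurj := Finite.surjective_of_injective hinj
    have hPinn : ∀ h : C.T0, P h = τ₀ * h * τ₀⁻¹ := by
      intro h
      obtain ⟨j, rfl⟩ := hsurj h
      have := hPP j
      calc P ⟨P j, hP j⟩ = τ₀ * (τ₀⁻¹ * P ⟨P j, hP j⟩ * τ₀) * τ₀⁻¹ := by group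
        _ = _ := by rw [this]
    refine ⟨g * τ₀, mul_mem hg (T1_le_T2 C (tFix_le_lineGroup C.base b hτ₀)), fun e => hgn ?_,
      fun h hh => ⟨W ⟨h, hh⟩, hW _, ?_⟩⟩
    · have := mul_mem e (inv_mem (tFix_le_lineGroup C.base b hτ₀))
      rwa [mul_inv_cancel_right] at this
    · calc (g * τ₀)⁻¹ * h * (g * τ₀) = τ₀⁻¹ * (g⁻¹ * h * g) * τ₀ := by group
        _ = τ₀⁻¹ * W ⟨h, hh⟩ * (τ₀ * h * τ₀⁻¹) * τ₀ := by rw [hWP ⟨h, hh⟩, hPinn]; group
        _ = W ⟨h, hh⟩ * τ₀⁻¹ * (τ₀ * h * τ₀⁻¹) * τ₀ := by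
            rw [((A_comm C (hW ⟨h, hh⟩) (T0_le C hτ₀)).inv_right).eq]
        _ = W ⟨h, hh⟩ * h := by group
  -- `T₀` embeds into `A`
  obtain ⟨g, hg, hgn⟩ := exists_outside C
  obtain ⟨g₀, hg₀, hg₀n, hact⟩ := hgood g hg hgn
  choose W hW hWe using fun h : C.T0 => hact h h.2
  have hmul : ∀ h h' : C.T0, W (h * h') = W h * W h' := by
    intro h h'
    refine (dec_unique C (hW _) (mul_mem (hW h) (hW h')) (h * h').2 (h * h').2 ?_).1
    calc W (h * h') * ((h * h' : C.T0) : G) = g₀⁻¹ * ((h * h' : C.T0) : G) * g₀ := (hWe _).symm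
      _ = (g₀⁻¹ * h * g₀) * (g₀⁻¹ * h' * g₀) := by push_cast; group
      _ = W h * (h * W h') * h' := by rw [hWe, hWe]; group
      _ = W h * (W h' * h) * h' := by rw [(A_comm C (hW h') (T0_le C h.2)).eq]
      _ = _ := by push_cast; group
  let φ : C.T0 →* C.A := MonoidHom.mk' (fun h => ⟨W h, hW h⟩) fun h h' => Subtype.ext (hmul h h')
  have hφ : Function.Injective φ := by
    rw [← MonoidHom.ker_eq_bot_iff]
    by_contra hne
    haveI := Fact.mk Nat.prime_two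
    haveI : Nontrivial φ.ker := (Subgroup.nontrivial_iff_ne_bot _).2 hne
    have hP2 : IsPGroup 2 φ.ker := ((pPart_isPGroup C.base.nilp 2).to_le inf_le_left).to_subgroup _
    obtain ⟨n, hn, hn'⟩ := (IsPGroup.nontrivial_iff_card hP2).1 inferInstance
    obtain ⟨z, hz⟩ := exists_prime_orderOf_dvd_card' (G := φ.ker) 2 (hn' ▸ dvd_pow_self 2 hn.ne')
    have hz' : orderOf ((z : C.T0) : G) = 2 := by rw [Subgroup.orderOf_coe, Subgroup.orderOf_coe, hz]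
    have hzi : IsInvol ((z : C.T0) : G) := ⟨fun e => by rw [e, orderOf_one] at hz'; norm_num at hz', by
      have := pow_orderOf_eq_one ((z : C.T0) : G)
      rwa [hz', pow_two] at this⟩
    refine hg₀n (line_of_conj C (z : C.T0).2 hzi (Subgroup.mem_inf.1 hg₀).1 ?_)
    have h1 : W (z : C.T0) = 1 := congrArg Subtype.val (z.2 : φ (z : C.T0) = 1)
    rw [hWe, h1, one_mul]
    exact T0_fix C (z : C.T0).2
  have hab : ∀ h ∈ C.T0, ∀ h' ∈ C.T0, Commute h h' := fun h hh h' hh' => by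
    have : φ (⟨h, hh⟩ * ⟨h', hh'⟩) = φ (⟨h', hh'⟩ * ⟨h, hh⟩) := by
      rw [map_mul, map_mul]
      exact Subtype.ext (A_comm C (φ ⟨h, hh⟩).2 (A_le C.base (φ ⟨h', hh'⟩).2)).eq
    exact congrArg Subtype.val (hφ this)
  have hsq : ∀ h ∈ C.T0, h * h = 1 := fun h hh => by
    have : φ (⟨h, hh⟩ * ⟨h, hh⟩) = φ 1 := by
      rw [map_mul, map_one]; exact Subtype.ext (A_sq C (φ ⟨h, hh⟩).2)
    exact congrArg Subtype.val (hφ this)
  refine ⟨fun x hx h hh => ?_, hsq, hab, Nat.card_le_card_of_injective φ hφ⟩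
  by_cases hxn : x ∈ C.T1
  · obtain ⟨v, hv, h', hh', rfl⟩ := hxn
    refine ⟨1, one_mem _, ?_⟩
    rw [one_mul, mul_assoc, ((A_comm C hv (T0_le C hh)).symm.mul_right (hab h hh h' hh')).eq,
      inv_mul_cancel_left]
  obtain ⟨x₀, hx₀, hx₀n, hact₀⟩ := hgood x hx hxn
  -- `x` and a conjugate of `x₀` differ by an element of `T₁`
  obtain ⟨k, hk, v, hv, τ, hτ, e⟩ := coset_transitive C hx₀ hx hx₀n hxn
  obtain ⟨w, hw, he⟩ := hact₀ h hh
  refine ⟨k * w * k⁻¹, K0_A C hk hw, ?_⟩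
  have h1 : k⁻¹ * h * k = h := by rw [mul_assoc, ← (K0_commute C hk hh).eq, inv_mul_cancel_left]
  have hx' : x = k * x₀ * k⁻¹ * (v * τ)⁻¹ := by rw [← e]; group
  have hkw := K0_A C hk hw
  have hc : Commute (v * τ) (k * w * k⁻¹ * h) :=
    ((A_comm C hv (mul_mem (A_le C.base hkw) (T0_le C hh)))).mul_left
      ((A_comm C hkw (T0_le C hτ)).symm.mul_right (hab τ hτ h hh))
  calc x⁻¹ * h * x = (v * τ) * (k * (x₀⁻¹ * (k⁻¹ * h * k) * x₀) * k⁻¹) * (v * τ)⁻¹ := by rw [hx']; group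
    _ = (v * τ) * (k * w * (h * k⁻¹)) * (v * τ)⁻¹ := by rw [h1, he]; group
    _ = (v * τ) * (k * w * k⁻¹ * h) * (v * τ)⁻¹ := by
        rw [← ((K0_commute C hk hh).inv_left).eq]; group
    _ = k * w * k⁻¹ * h := by rw [hc.eq, mul_inv_cancel_right]

end

end Cfsg.Agent.RankOneSplit
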