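import Cfsg.Agent.Lib.RankOneSplit.EvenBase
import Cfsg.Agent.Lib.RankOneSplit.Average

/-!
# The even case: the normaliser of `T₂`, `|T₀| = 2`, and a subgroup of index two missing the conjugates
-/

set_option autoImplicit false
set_option linter.unusedSectionVars false
set_option linter.style.haveILetI false
set_option linter.unusedVariables false

namespace Cfsg.Agent.RankOneSplit

open MulAction Cfsg.Agent.RankOne

universe u

variable {G Ω : Type u} [Group G] [MulAction G Ω] [Finite G] [FaithfulSMul G Ω]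
variable {a b : Ω} {U H : Subgroup G} (C : EvenCtx a b U H)

/-- `T₃`. -/
abbrev EvenCtx.T3 : Subgroup G := U ⊓ Subgroup.normalizer (C.T2 : Set G)

include C

theorem normalizer_conj {S : Subgroup G} {g : G} (hg : g ∈ Subgroup.normalizer (S : Set G)) {x : G}
    (hx : x ∈ S) : g * x * g⁻¹ ∈ S ∧ g⁻¹ * x * g ∈ S := by
  refine ⟨(Subgroup.mem_normalizer_iff.1 hg x).1 hx, ?_⟩
  have := (Subgroup.mem_normalizer_iff.1 (inv_mem hg) x).1 hx
  rwa [inv_inv] at this

theorem T2_le : C.T2 ≤ U := inf_le_left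

theorem A_le_T1 : C.A ≤ C.T1 := A_le_lineGroup C.base b

theorem A_normal {g : G} (hg : g ∈ U) {w : G} (hw : w ∈ C.A) : g * w * g⁻¹ = w := by
  rw [← (A_comm C hw hg).eq, mul_inv_cancel_right]

theorem T2_le_T3 : C.T2 ≤ C.T3 := le_inf (T2_le C) Subgroup.le_normalizer

theorem T3_gt : ∃ x ∈ C.T3, x ∉ C.T2 := by
  haveI : Group.IsNilpotent U := C.base.nilp
  have hlt : C.T2.subgroupOf U < ⊤ := by
    refine lt_top_iff_ne_top.2 fun h => ?_
    rw [Subgroup.subgroupOf_eq_top] at h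
    have he : C.T2 = U := le_antisymm (T2_le C) h
    have h1 := card_U C
    have h2 : Nat.card U = Nat.card C.A * Nat.card C.T1 := by rw [← card_T2 C, he]
    rw [card_T1 C, h1] at h2
    have h4 := C.four
    have h0 : 0 < Nat.card C.T0 := Nat.card_pos
    have h5 : Nat.card C.A ^ 3 = Nat.card C.A * Nat.card C.A :=
      Nat.eq_of_mul_eq_mul_right h0 (by rw [h2]; ring)
    have h6 : Nat.card C.A = 1 := Nat.eq_of_mul_eq_mul_left
      (Nat.mul_pos (show 0 < Nat.card C.A from Nat.card_pos) Nat.card_pos) (by rw [mul_one]; linarith [h5, (pow_succ (Nat.card C.A) 2 :), (pow_two (Nat.card C.A) :)])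
    unfold EvenCtx.A at *
    omega
  obtain ⟨g, hg, hgn⟩ := SetLike.exists_of_lt (Group.normalizerCondition_of_isNilpotent _ hlt)
  refine ⟨g, Subgroup.mem_inf.2 ⟨g.2, mem_normalizer_of_maps fun x hx => ?_⟩, hgn⟩
  exact (Subgroup.mem_normalizer_iff.1 hg ⟨x, T2_le C hx⟩).1 hx

theorem exists_moved {x : G} (hx : x ∈ C.T3) (hxn : x ∉ C.T2) :
    ∃ h ∈ C.T0, x⁻¹ * h * x ∈ C.T2 ∧ x⁻¹ * h * x ∉ C.T1 := by
  have hxU : x ∈ U := (Subgroup.mem_inf.1 hx).1
  have hT2 : ∀ h ∈ C.T0, x⁻¹ * h * x ∈ C.T2 := fun h hh =>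
    (normalizer_conj C (Subgroup.mem_inf.1 hx).2 (T1_le_T2 C (tFix_le_lineGroup C.base b hh))).2
  by_contra hno
  push Not at hno
  refine hxn (Subgroup.mem_inf.2 ⟨hxU, inv_mem_iff.1 (mem_normalizer_of_maps fun z hz => ?_)⟩)
  obtain ⟨w, hw, h, hh, rfl⟩ := hz
  rw [inv_inv, show x⁻¹ * (w * h) * x = (x⁻¹ * w * x⁻¹⁻¹) * (x⁻¹ * h * x) by group]
  refine mul_mem ?_ (hno h hh (hT2 h hh))
  rw [A_normal C (inv_mem hxU) hw]
  exact A_le_T1 C hw

theorem T2_sq : ∀ g ∈ C.T2, g * g ∈ C.A := by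
  obtain ⟨hT0A, hsq, hab, -⟩ := T0_facts C
  obtain ⟨x, hx, hxn⟩ := T3_gt C
  obtain ⟨h, hh, hv2, hvn⟩ := exists_moved C hx hxn
  set v := x⁻¹ * h * x with hv
  have hvv : v * v = 1 := by
    calc v * v = x⁻¹ * (h * h) * x := by rw [hv]; group
      _ = 1 := by rw [hsq h hh]; group
  intro g hg
  by_cases hg1 : g ∈ C.T1
  · obtain ⟨w, hw, l, hl, rfl⟩ := hg1
    rw [show w * l * (w * l) = w * (l * w) * l by group, ← (A_comm C hw (T0_le C hl)).eq,
      show w * (w * l) * l = (w * w) * (l * l) by group, A_sq C hw, hsq l hl, mul_one]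
    exact one_mem _
  obtain ⟨k, hk, w, hw, l, hl, e⟩ := coset_transitive C hg hv2 hg1 hvn
  obtain ⟨w', hw', he⟩ := hT0A v hv2 l hl
  have hk2 : k * g * k⁻¹ = v * (w * l) := by rw [← e]; group
  have hsqk : (k * g * k⁻¹) * (k * g * k⁻¹) ∈ C.A := by
    have e2 : l * v = v * (w' * l) := by rw [← he]; group
    rw [hk2, show v * (w * l) * (v * (w * l)) = (w * w') * w from ?_]
    · exact mul_mem (mul_mem hw hw') hw
    calc v * (w * l) * (v * (w * l)) = v * (w * (l * v)) * (w * l) := by group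
      _ = v * (w * (v * (w' * l))) * (w * l) := by rw [e2]
      _ = v * ((w * v) * (w' * l)) * (w * l) := by group
      _ = v * ((v * w) * (w' * l)) * (w * l) := by rw [(A_comm C hw (T2_le C hv2)).eq]
      _ = (v * v) * (w * w') * (l * w) * l := by group
      _ = (v * v) * (w * w') * (w * l) * l := by rw [(A_comm C hw (T0_le C hl)).eq]
      _ = (v * v) * (w * w') * w * (l * l) := by group
      _ = (w * w') * w := by rw [hvv, hsq l hl, one_mul, mul_one]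
    
  have := K0_A C (inv_mem hk) hsqk
  rwa [inv_inv, show k⁻¹ * (k * g * k⁻¹ * (k * g * k⁻¹)) * k = g * g by group] at this

/-- The complement of `T₁` in `T₂` over `A`. -/
structure EvenCtx.N2 (N : Subgroup G) : Prop where
  A_le : C.A ≤ N
  le : N ≤ C.T2
  inter : ∀ x ∈ N, x ∈ C.T1 → x ∈ C.A
  factor : ∀ g ∈ C.T2, ∃ c ∈ N, ∃ h ∈ C.T0, g = c * h
  inv : ∀ k ∈ C.K0, ∀ x ∈ N, k * x * k⁻¹ ∈ N
  normal : ∀ g ∈ C.T2, ∀ x ∈ N, g * x * g⁻¹ ∈ N

theorem exists_N2 : ∃ N, C.N2 N := by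
  obtain ⟨hT0A, hsq, hab, -⟩ := T0_facts C
  obtain ⟨M, hAM, hML, hint, hfac, hinv, hnorm⟩ := exists_complement (L := C.T2) (N := C.A) (W := C.T1)
    (K := C.K0) (le_trans (A_le_T1 C) (T1_le_T2 C)) (T2_sq C)
    (fun x hx y hy => by rw [A_normal C (T2_le C hx) hy]; exact hy)
    (fun k hk x hx => K0_T2 C hk hx) (fun k hk x hx => K0_A C hk hx) (K0_odd C) (T1_le_T2 C)
    (fun k hk w hw => by
      obtain ⟨v, hv, h, hh, rfl⟩ := hw
      rw [show k * (v * h) * k⁻¹ = (k * v * k⁻¹) * (k * h * k⁻¹) by group,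
        (K0_commute C hk hh).eq, mul_inv_cancel_right,
        show (v * h)⁻¹ * (k * v * k⁻¹ * h) = h⁻¹ * (v⁻¹ * (k * v * k⁻¹)) * h by group]
      have h1 : v⁻¹ * (k * v * k⁻¹) ∈ C.A := mul_mem (inv_mem hv) (K0_A C hk hv)
      have h2 := A_normal C (inv_mem (T0_le C hh)) h1
      rw [inv_inv] at h2
      rw [h2]; exact h1)
    (fun x hx h => fixed_coset C hx fun k hk => A_le_T1 C (h k hk))
  refine ⟨M, hAM, hML, hint, fun g hg => ?_, hinv, hnorm⟩
  obtain ⟨w, ⟨v, hv, h, hh, rfl⟩, hm⟩ := hfac g hg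
  refine ⟨g * (v * h) * v⁻¹, mul_mem hm (hAM (inv_mem hv)), h⁻¹, inv_mem hh, ?_⟩
  calc g = g * (v * h) * (h⁻¹ * v⁻¹) := by group
    _ = g * (v * h) * (v⁻¹ * h⁻¹) := by rw [((A_comm C hv (T0_le C hh)).inv_inv).eq]
    _ = g * (v * h) * v⁻¹ * h⁻¹ := by group

theorem exists_conj {y : G} {g : G} (hg : g ∈ C.T2) (hy : y ∈ C.T0) :
    ∃ w ∈ C.A, g⁻¹ * y * g = w * y :=
  (T0_facts C).1 g hg y hy

/-- An element of `T₂` outside `T₁` commutes with no non-trivial element of `T₀`. -/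
theorem not_commute {c h : G} (hc : c ∈ C.T2) (hcn : c ∉ C.T1) (hh : h ∈ C.T0) (h1 : h ≠ 1) :
    ¬ Commute c h := fun e =>
  hcn (line_of_commute C hh ⟨h1, (T0_facts C).2.1 h hh⟩ (T2_le C hc) e)

/-- There is `h₀ ∈ T₀` such that `c h₀` is an involution for all `c ∈ N \ A`. -/
theorem exists_h0 {N : Subgroup G} (hN : C.N2 N) :
    ∃ h₀ ∈ C.T0, ∀ c ∈ N, c ∉ C.A → ∀ h ∈ C.T0, (c * h) * (c * h) = 1 ↔ h = h₀ := by
  obtain ⟨hT0A, hsq, hab, -⟩ := T0_facts C
  obtain ⟨x, hx, hxn⟩ := T3_gt C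
  obtain ⟨h, hh, hv2, hvn⟩ := exists_moved C hx hxn
  have hvv : (x⁻¹ * h * x) * (x⁻¹ * h * x) = 1 := by
    calc x⁻¹ * h * x * (x⁻¹ * h * x) = x⁻¹ * (h * h) * x := by group
      _ = 1 := by rw [hsq h hh]; group
  obtain ⟨c₀, hc₀, h₀, hh₀, hv⟩ := hN.factor _ hv2
  have hc₀n : c₀ ∉ C.T1 := fun e =>
    hvn (hv ▸ mul_mem e (tFix_le_lineGroup C.base b hh₀))
  -- uniqueness
  have huniq : ∀ c ∈ N, c ∉ C.A → ∀ l ∈ C.T0, ∀ l' ∈ C.T0, (c * l) * (c * l) = 1 →
      (c * l') * (c * l') = 1 → l = l' := by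
    intro c hc hcA l hl l' hl' e e'
    by_contra hne
    have hcn : c ∉ C.T1 := fun h => hcA (hN.inter c hc h)
    refine not_commute C (hN.le hc) hcn (mul_mem hl hl') (fun h => hne ?_) ?_
    · rw [eq_inv_of_mul_eq_one_left h, inv_eq_of_mul_eq_one_right (hsq l' hl')]
    · have hli := inv_eq_of_mul_eq_one_right (hsq l hl)
      have hli' := inv_eq_of_mul_eq_one_right (hsq l' hl')
      have e1 : c * l * c = l := by
        calc c * l * c = (c * l * (c * l)) * l⁻¹ := by group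
          _ = l := by rw [e, one_mul, hli]
      have e1' : c * l' * c = l' := by
        calc c * l' * c = (c * l' * (c * l')) * l'⁻¹ := by group
          _ = l' := by rw [e', one_mul, hli']
      have e2 : c⁻¹ * l' * c⁻¹ = l' := by
        calc c⁻¹ * l' * c⁻¹ = c⁻¹ * (c * l' * c) * c⁻¹ := by rw [e1']
          _ = l' := by group
      show c * (l * l') = l * l' * c
      calc c * (l * l') = (c * l * c) * (c⁻¹ * l' * c⁻¹) * c := by group
        _ = l * l' * c := by rw [e1, e2]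
  refine ⟨h₀, hh₀, fun c hc hcA l hl => ?_⟩
  have hkey : (c * h₀) * (c * h₀) = 1 := by
    have hcn : c ∉ C.T1 := fun h => hcA (hN.inter c hc h)
    obtain ⟨k, hk, he⟩ := coset_transitive C (hN.le hc₀) (hN.le hc) hc₀n hcn
    have hw : c⁻¹ * (k * c₀ * k⁻¹) ∈ C.A :=
      hN.inter _ (mul_mem (inv_mem hc) (hN.inv k hk c₀ hc₀)) he
    set w := c⁻¹ * (k * c₀ * k⁻¹) with hwd
    have hkk : k * (c₀ * h₀) * k⁻¹ = w * (c * h₀) := by
      calc k * (c₀ * h₀) * k⁻¹ = (k * c₀ * k⁻¹) * (k * h₀ * k⁻¹) := by group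
        _ = c * w * h₀ := by rw [(K0_commute C hk hh₀).eq, mul_inv_cancel_right, hwd]; group
        _ = w * c * h₀ := by rw [(A_comm C hw (T2_le C (hN.le hc))).eq]
        _ = _ := by group
    have hcw : Commute w (c * h₀) := A_comm C hw (mul_mem (T2_le C (hN.le hc)) (T0_le C hh₀))
    have h1 : (k * (c₀ * h₀) * k⁻¹) * (k * (c₀ * h₀) * k⁻¹) = 1 := by
      rw [conj_mul, ← hv, hvv, mul_one, mul_inv_cancel]
    rw [hkk] at h1
    calc c * h₀ * (c * h₀) = (w * w) * (c * h₀ * (c * h₀)) := by rw [A_sq C hw, one_mul]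
      _ = w * (w * (c * h₀)) * (c * h₀) := by group
      _ = w * ((c * h₀) * w) * (c * h₀) := by rw [hcw.eq]
      _ = 1 := by rw [← h1]; group
  exact ⟨fun e => huniq c hc hcA l hl h₀ hh₀ e hkey, fun e => e ▸ hkey⟩

/-- `T₀` has order two, and the involutions of `T₂` outside `T₁` lie in `N y`. -/
theorem two_elements {N : Subgroup G} (hN : C.N2 N) :
    ∃ y, C.Cen y ∧ (∀ h ∈ C.T0, h = 1 ∨ h = y) ∧
      ∀ c ∈ N, c ∉ C.A → (c * y) * (c * y) = 1 ∧ c * c ≠ 1 := by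
  classical
  obtain ⟨hT0A, hsq, hab, hle⟩ := T0_facts C
  obtain ⟨h₀, hh₀, hinv⟩ := exists_h0 C hN
  have hT2 : ∀ {x}, x ∈ C.T3 → ∀ h ∈ C.T0, x⁻¹ * h * x ∈ C.T2 := fun {x} hx h hh =>
    (normalizer_conj C (Subgroup.mem_inf.1 hx).2 (T1_le_T2 C (tFix_le_lineGroup C.base b hh))).2
  have hinvol : ∀ {x h : G}, h ∈ C.T0 → (x⁻¹ * h * x) * (x⁻¹ * h * x) = 1 := fun {x h} hh => by
    calc x⁻¹ * h * x * (x⁻¹ * h * x) = x⁻¹ * (h * h) * x := by group
      _ = 1 := by rw [hsq h hh]; group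
  -- an element conjugated out of `T₁` goes into `N h₀`
  have hout : ∀ {x}, x ∈ C.T3 → ∀ h ∈ C.T0, x⁻¹ * h * x ∉ C.T1 →
      ∃ c ∈ N, c ∉ C.A ∧ x⁻¹ * h * x = c * h₀ := by
    intro x hx h hh hn
    obtain ⟨c, hc, l, hl, e⟩ := hN.factor _ (hT2 hx h hh)
    have hcA : c ∉ C.A := fun h' =>
      hn (e ▸ mul_mem (A_le_T1 C h') (tFix_le_lineGroup C.base b hl))
    refine ⟨c, hc, hcA, ?_⟩
    rw [e, (hinv c hc hcA l hl).1 (e ▸ hinvol hh)]
  by_cases hh₀1 : h₀ = 1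
  · -- `N` is elementary abelian: impossible
    exfalso
    subst hh₀1
    have hNsq : ∀ c ∈ N, c * c = 1 := fun c hc => by
      by_cases hcA : c ∈ C.A
      · exact A_sq C hcA
      · simpa using (hinv c hc hcA 1 (one_mem _)).2 rfl
    have hNab : ∀ c ∈ N, ∀ d ∈ N, Commute c d := fun c hc d hd => by
      have hci := inv_eq_of_mul_eq_one_right (hNsq c hc)
      have hdi := inv_eq_of_mul_eq_one_right (hNsq d hd)
      show c * d = d * c
      rw [← inv_eq_of_mul_eq_one_right (hNsq _ (mul_mem hc hd)), mul_inv_rev, hci, hdi]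
    -- all of `T₀` is conjugated into `N`
    have hall : ∀ x ∈ C.T3, x ∉ C.T2 → ∀ h ∈ C.T0, x⁻¹ * h * x ∈ N := by
      intro x hx hxn h hh
      obtain ⟨h₂, hh₂, -, hh₂n⟩ := exists_moved C hx hxn
      by_cases hn : x⁻¹ * h * x ∈ C.T1
      · have hn2 : x⁻¹ * (h * h₂) * x ∉ C.T1 := fun e => hh₂n (by
          have := mul_mem (inv_mem hn) e
          rwa [show (x⁻¹ * h * x)⁻¹ * (x⁻¹ * (h * h₂) * x) = x⁻¹ * h₂ * x by group] at this)
        obtain ⟨c, hc, -, e⟩ := hout hx h₂ hh₂ hh₂n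
        obtain ⟨d, hd, -, e'⟩ := hout hx _ (mul_mem hh hh₂) hn2
        rw [show x⁻¹ * h * x = (x⁻¹ * (h * h₂) * x) * (x⁻¹ * h₂ * x)⁻¹ by group, e, e', mul_one, mul_one]
        exact mul_mem hd (inv_mem hc)
      · obtain ⟨c, hc, -, e⟩ := hout hx h hh hn
        rw [e, mul_one]; exact hc
    -- `x` carries `N` to `T₁`
    have hmaps : ∀ x ∈ C.T3, x ∉ C.T2 → ∀ c ∈ N, x * c * x⁻¹ ∈ C.T1 := by
      intro x hx hxn c hc
      obtain ⟨h, hh, -, hhn⟩ := exists_moved C hx hxn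
      have h1 : h ≠ 1 := fun e => hhn (by rw [e, mul_one, inv_mul_cancel]; exact one_mem _)
      refine line_of_commute C hh ⟨h1, hsq h hh⟩
        (mul_mem (mul_mem (Subgroup.mem_inf.1 hx).1 (T2_le C (hN.le hc))) (inv_mem (Subgroup.mem_inf.1 hx).1)) ?_
      have e : c * (x⁻¹ * h * x) = x⁻¹ * h * x * c := (hNab c hc _ (hall x hx hxn h hh)).eq
      show x * c * x⁻¹ * h = h * (x * c * x⁻¹)
      calc x * c * x⁻¹ * h = x * (c * (x⁻¹ * h * x)) * x⁻¹ := by group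
        _ = x * (x⁻¹ * h * x * c) * x⁻¹ := by rw [e]
        _ = _ := by group
    have hcardN : Nat.card C.T1 ≤ Nat.card N := by
      have h1 : Nat.card C.T2 ≤ Nat.card N * Nat.card C.T0 := by
        rw [← Nat.card_prod]
        refine Nat.card_le_card_of_surjective (fun p : N × C.T0 => (⟨(p.1 : G) * p.2,
          mul_mem (hN.le p.1.2) (T1_le_T2 C (tFix_le_lineGroup C.base b p.2.2))⟩ : C.T2)) ?_
        rintro ⟨g, hg⟩
        obtain ⟨c, hc, l, hl, rfl⟩ := hN.factor g hg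
        exact ⟨(⟨c, hc⟩, ⟨l, hl⟩), rfl⟩
      rw [card_T2 C, card_T1 C, ← mul_assoc] at h1
      have h2 := Nat.le_of_mul_le_mul_right h1 Nat.card_pos
      rw [card_T1 C]
      exact le_trans (Nat.mul_le_mul_left _ hle) h2
    have hsurj : ∀ x ∈ C.T3, x ∉ C.T2 → ∀ z ∈ C.T1, x⁻¹ * z * x ∈ N := by
      intro x hx hxn z hz
      have hb := Function.Injective.bijective_of_nat_card_le
        (f := fun c : N => (⟨x * c * x⁻¹, hmaps x hx hxn c c.2⟩ : C.T1))
        (fun c d e => Subtype.ext (mul_left_cancel (mul_right_cancel (congrArg Subtype.val e)))) hcardN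
      obtain ⟨c, hc⟩ := hb.2 ⟨z, hz⟩
      have hc' : x * (c : G) * x⁻¹ = z := congrArg Subtype.val hc
      rw [← hc', show x⁻¹ * (x * c * x⁻¹) * x = (c : G) by group]
      exact c.2
    obtain ⟨x, hx, hxn⟩ := T3_gt C
    obtain ⟨h, hh, hv2, hvn⟩ := exists_moved C hx hxn
    set c₀ := x⁻¹ * h * x with hc₀
    refine hvn (fixed_coset C hv2 fun k hk => ?_)
    set x' := k * x * k⁻¹ with hx'
    have hx'3 : x' ∈ C.T3 := by
      refine Subgroup.mem_inf.2 ⟨K0_U C hk (Subgroup.mem_inf.1 hx).1, mem_normalizer_of_maps fun z hz => ?_⟩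
      have h1 := K0_T2 C (inv_mem hk) hz
      rw [inv_inv] at h1
      have h2 := K0_T2 C hk (normalizer_conj C (Subgroup.mem_inf.1 hx).2 h1).1
      rwa [show k * (x * (k⁻¹ * z * k) * x⁻¹) * k⁻¹ = x' * z * x'⁻¹ by rw [hx']; group] at h2
    have hx'n : x' ∉ C.T2 := fun e => hxn (by
      have := K0_T2 C (inv_mem hk) e
      rwa [hx', inv_inv, show k⁻¹ * (k * x * k⁻¹) * k = x by group] at this)
    have hσ : x' * x⁻¹ ∈ C.T2 := by
      refine Subgroup.mem_inf.2 ⟨mul_mem (Subgroup.mem_inf.1 hx'3).1 (inv_mem (Subgroup.mem_inf.1 hx).1),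
        mem_normalizer_of_maps fun z hz => ?_⟩
      have := hmaps x' hx'3 hx'n _ (hsurj x hx hxn z hz)
      rwa [show x' * (x⁻¹ * z * x) * x'⁻¹ = x' * x⁻¹ * z * (x' * x⁻¹)⁻¹ by group] at this
    obtain ⟨w, hw, e⟩ := hT0A _ hσ h hh
    have hk1 : k⁻¹ * h * k = h := by rw [mul_assoc, ← (K0_commute C hk hh).eq, inv_mul_cancel_left]
    have h2 : k * c₀ * k⁻¹ = w * c₀ := by
      calc k * c₀ * k⁻¹ = x'⁻¹ * (k * h * k⁻¹) * x' := by rw [hc₀, hx']; group
        _ = x⁻¹ * ((x' * x⁻¹)⁻¹ * h * (x' * x⁻¹)) * x := by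
            rw [(K0_commute C hk hh).eq, mul_inv_cancel_right]; group
        _ = x⁻¹ * (w * h) * x := by rw [e]
        _ = (x⁻¹ * w * x⁻¹⁻¹) * (x⁻¹ * h * x) := by group
        _ = w * c₀ := by rw [A_normal C (inv_mem (Subgroup.mem_inf.1 hx).1) hw]
    rw [h2]
    rw [show c₀⁻¹ * (w * c₀) = c₀⁻¹ * w * c₀⁻¹⁻¹ by group, A_normal C (inv_mem (T2_le C hv2)) hw]
    exact A_le_T1 C hw
  · -- exactly one element leaves `T₁`
    obtain ⟨x, hx, hxn⟩ := T3_gt C
    obtain ⟨h, hh, -, hhn⟩ := exists_moved C hx hxn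
    have hone : ∀ h' ∈ C.T0, x⁻¹ * h' * x ∉ C.T1 → h' = h := by
      intro h' hh' hh'n
      by_contra hne
      obtain ⟨c, hc, hcA, e⟩ := hout hx h hh hhn
      obtain ⟨d, hd, hdA, e'⟩ := hout hx h' hh' hh'n
      obtain ⟨w, hw, ew⟩ := hT0A d (hN.le hd) h₀ hh₀
      have hprod : x⁻¹ * (h * h') * x ∈ N := by
        rw [show x⁻¹ * (h * h') * x = (x⁻¹ * h * x) * (x⁻¹ * h' * x) by group, e, e']
        have : c * h₀ * (d * h₀) = c * d * w * (h₀ * h₀) := by
          calc c * h₀ * (d * h₀) = c * d * (d⁻¹ * h₀ * d) * h₀ := by group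
            _ = _ := by rw [ew]; group
        rw [this, hsq h₀ hh₀, mul_one]
        exact mul_mem (mul_mem hc hd) (hN.A_le hw)
      by_cases hA : x⁻¹ * (h * h') * x ∈ C.A
      · have h3 := A_normal C (Subgroup.mem_inf.1 hx).1 hA
        rw [show x * (x⁻¹ * (h * h') * x) * x⁻¹ = h * h' by group] at h3
        have hhh : h * h' ∈ C.A := h3 ▸ hA
        have := A_inf_tFix C.base b C.hb hhh (T0_fix C (mul_mem hh hh'))
        rw [eq_inv_of_mul_eq_one_left this, inv_eq_of_mul_eq_one_right (hsq h' hh')] at hne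
        exact hne rfl
      · have := (hinv _ hprod hA 1 (one_mem _)).1 (by rw [mul_one]; exact hinvol (mul_mem hh hh'))
        exact hh₀1 this.symm
    have hall : ∀ h' ∈ C.T0, h' = 1 ∨ h' = h := by
      intro h' hh'
      by_cases hn : x⁻¹ * h' * x ∈ C.T1
      · left
        have h2 : x⁻¹ * (h' * h) * x ∉ C.T1 := fun e => hhn (by
          have := mul_mem (inv_mem hn) e
          rwa [show (x⁻¹ * h' * x)⁻¹ * (x⁻¹ * (h' * h) * x) = x⁻¹ * h * x by group] at this)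
        have := hone _ (mul_mem hh' hh) h2
        exact mul_eq_right.1 this
      · exact Or.inr (hone h' hh' hn)
    have h1 : h ≠ 1 := fun e => hhn (by rw [e, mul_one, inv_mul_cancel]; exact one_mem _)
    have hh₀h : h₀ = h := (hall h₀ hh₀).resolve_left hh₀1
    refine ⟨h, ⟨hh, ⟨h1, hsq h hh⟩, fun l hl => hab h hh l hl⟩, hall, fun c hc hcA => ⟨?_, fun e => ?_⟩⟩
    · exact (hinv c hc hcA h hh).2 hh₀h.symm
    · exact hh₀1 ((hinv c hc hcA 1 (one_mem _)).1 (by rw [mul_one]; exact e)).symm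

/-- Elements `x` of `U` squaring, the subgroup `M` of index two. -/
theorem exists_transfer_subgroup :
    ∃ (y : G) (M : Subgroup G), C.Cen y ∧ M ≤ U ∧ M.relIndex U = 2 ∧
      ∀ g : G, g * y * g⁻¹ ∈ U → g * y * g⁻¹ ∉ M := by
  classical
  obtain ⟨hT0A, hsq, hab, -⟩ := T0_facts C
  obtain ⟨N, hN⟩ := exists_N2 C
  obtain ⟨y, hy, hT0, hord⟩ := two_elements C hN
  have hyi := hy.invol.inv_eq
  have hyT2 : y ∈ C.T2 := T1_le_T2 C (tFix_le_lineGroup C.base b hy.mem)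
  have hyN : y ∉ N := fun e =>
    hy.invol.1 (A_inf_tFix C.base b C.hb (hN.inter y e (tFix_le_lineGroup C.base b hy.mem)) (T0_fix C hy.mem))
  -- decomposition of `T₂`
  have hdec : ∀ g ∈ C.T2, g ∈ N ∨ g * y ∈ N := by
    intro g hg
    obtain ⟨c, hc, h, hh, rfl⟩ := hN.factor g hg
    rcases hT0 h hh with h0 | h0 <;> rw [h0]
    · left; rwa [mul_one]
    · right; rw [mul_assoc, hy.invol.2, mul_one]; exact hc
  -- `N` consists of `A` and the elements of order four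
  have hNchar : ∀ g ∈ C.T2, g ∈ N ↔ (g ∈ C.A ∨ g * g ≠ 1) := by
    intro g hg
    refine ⟨fun h => ?_, fun h => ?_⟩
    · by_cases hA : g ∈ C.A
      · exact Or.inl hA
      · exact Or.inr (hord g h hA).2
    · rcases h with h | h
      · exact hN.A_le h
      rcases hdec g hg with h' | h'
      · exact h'
      exfalso
      apply h
      have hgy : g = g * y * y := by rw [mul_assoc, hy.invol.2, mul_one]
      by_cases hA : g * y ∈ C.A
      · rw [hgy]
        calc g * y * y * (g * y * y) = (g * y) * (y * (g * y)) * y := by group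
          _ = (g * y) * ((g * y) * y) * y := by rw [(A_comm C hA (T0_le C hy.mem)).eq]
          _ = ((g * y) * (g * y)) * (y * y) := by group
          _ = 1 := by rw [A_sq C hA, hy.invol.2, mul_one]
      · rw [hgy]; exact (hord _ h' hA).1
  -- `N` is normalised by `T₃`
  have hN3 : ∀ x ∈ C.T3, ∀ c ∈ N, x * c * x⁻¹ ∈ N := by
    intro x hx c hc
    rcases (hNchar c (hN.le hc)).1 hc with h | h
    · rw [A_normal C (Subgroup.mem_inf.1 hx).1 h]; exact hN.A_le h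
    refine (hNchar _ (normalizer_conj C (Subgroup.mem_inf.1 hx).2 (hN.le hc)).1).2 (Or.inr fun e => h ?_)
    rw [conj_mul] at e
    exact conj_eq_one_iff.1 e
  have hN3' : ∀ x ∈ C.T3, ∀ c ∈ N, x⁻¹ * c * x ∈ N := fun x hx c hc => by
    have := hN3 x⁻¹ (inv_mem hx) c hc
    rwa [inv_inv] at this
  -- where `T₃` sends `y`
  have himg : ∀ x ∈ C.T3, ∃ c ∈ N, x⁻¹ * y * x = c * y := by
    intro x hx
    have hm := (normalizer_conj C (Subgroup.mem_inf.1 hx).2 hyT2).2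
    refine ⟨x⁻¹ * y * x * y, ?_, by rw [mul_assoc _ y y, hy.invol.2, mul_one]⟩
    rcases hdec _ hm with h | h
    · exfalso
      have := hN3 x hx _ h
      rw [show x * (x⁻¹ * y * x) * x⁻¹ = y by group] at this
      exact hyN this
    · exact h
  have hsame : ∀ x ∈ C.T3, ∀ x' ∈ C.T3, ∀ c c', x⁻¹ * y * x = c * y → x'⁻¹ * y * x' = c' * y →
      c'⁻¹ * c ∈ C.A → x' * x⁻¹ ∈ C.T2 := by
    intro x hx x' hx' c c' e e' hA
    have hxU := (Subgroup.mem_inf.1 hx).1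
    have hxU' := (Subgroup.mem_inf.1 hx').1
    set σ := x' * x⁻¹ with hσ
    have hσU : σ ∈ U := mul_mem hxU' (inv_mem hxU)
    -- `σ⁻¹ y σ ∈ y A`
    have h1 : σ⁻¹ * y * σ = (c'⁻¹ * c)⁻¹ * y := by
      set w := c'⁻¹ * c with hw
      have hc' : c' = c * w⁻¹ := by rw [hw]; group
      calc σ⁻¹ * y * σ = x * (x'⁻¹ * y * x') * x⁻¹ := by rw [hσ]; group
        _ = x * (c * (w⁻¹ * y)) * x⁻¹ := by rw [e', hc']; group
        _ = x * (c * (y * w⁻¹)) * x⁻¹ := by rw [((A_comm C hA (T0_le C hy.mem)).inv_left).eq]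
        _ = (x * (c * y) * x⁻¹) * (x * w⁻¹ * x⁻¹) := by group
        _ = y * w⁻¹ := by
          rw [← e, A_normal C hxU (inv_mem hA)]; group
        _ = _ := ((A_comm C hA (T0_le C hy.mem)).inv_left).eq.symm
    refine Subgroup.mem_inf.2 ⟨hσU, inv_mem_iff.1 (mem_normalizer_of_maps fun z hz => ?_)⟩
    obtain ⟨v, hv, l, hl, rfl⟩ := hz
    rw [inv_inv]
    rcases hT0 l hl with h0 | h0 <;> rw [h0]
    · rw [mul_one, show σ⁻¹ * v * σ = σ⁻¹ * v * σ⁻¹⁻¹ by group, A_normal C (inv_mem hσU) hv]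
      exact A_le_T1 C hv
    · rw [show σ⁻¹ * (v * y) * σ = (σ⁻¹ * v * σ⁻¹⁻¹) * (σ⁻¹ * y * σ) by group,
        A_normal C (inv_mem hσU) hv, h1]
      exact mul_mem (A_le_T1 C hv) (mul_mem (A_le_T1 C (inv_mem hA)) (tFix_le_lineGroup C.base b hy.mem))
  -- every class is attained
  have hK3 : ∀ k ∈ C.K0, ∀ x ∈ C.T3, k * x * k⁻¹ ∈ C.T3 := by
    intro k hk x hx
    refine Subgroup.mem_inf.2 ⟨K0_U C hk (Subgroup.mem_inf.1 hx).1, mem_normalizer_of_maps fun z hz => ?_⟩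
    have h1 := K0_T2 C (inv_mem hk) hz
    rw [inv_inv] at h1
    have h2 := K0_T2 C hk (normalizer_conj C (Subgroup.mem_inf.1 hx).2 h1).1
    rwa [show k * (x * (k⁻¹ * z * k) * x⁻¹) * k⁻¹ = (k * x * k⁻¹) * z * (k * x * k⁻¹)⁻¹ by group] at h2
  have hconjK : ∀ {x c k : G}, k ∈ C.K0 → x⁻¹ * y * x = c * y →
      (k * x * k⁻¹)⁻¹ * y * (k * x * k⁻¹) = (k * c * k⁻¹) * y := by
    intro x c k hk e
    have hk1 : k⁻¹ * y * k = y := by rw [mul_assoc, ← (K0_commute C hk hy.mem).eq, inv_mul_cancel_left]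
    calc (k * x * k⁻¹)⁻¹ * y * (k * x * k⁻¹) = k * (x⁻¹ * (k⁻¹ * y * k) * x) * k⁻¹ := by group
      _ = k * c * (y * k⁻¹) := by rw [hk1, e]; group
      _ = k * c * (k⁻¹ * y) := by rw [((K0_commute C hk hy.mem).inv_left).eq]
      _ = _ := by group
  obtain ⟨x₁, hx₁, hx₁n⟩ := T3_gt C
  obtain ⟨c₁, hc₁, e₁⟩ := himg x₁ hx₁
  have hc₁A : c₁ ∉ C.A := fun h => hx₁n (by
    have h2 := hsame 1 (one_mem _) x₁ hx₁ 1 c₁ (by simp) e₁ (by rw [mul_one]; exact inv_mem h)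
    simpa using h2)
  have hatt : ∀ c ∈ N, ∃ x ∈ C.T3, ∃ c', c' ∈ N ∧ x⁻¹ * y * x = c' * y ∧ c⁻¹ * c' ∈ C.A := by
    intro c hc
    by_cases hcA : c ∈ C.A
    · exact ⟨1, one_mem _, 1, one_mem _, by simp, by rw [mul_one]; exact inv_mem hcA⟩
    obtain ⟨k, hk, hkc⟩ := coset_transitive C (hN.le hc₁) (hN.le hc)
      (fun h => hc₁A (hN.inter _ hc₁ h)) (fun h => hcA (hN.inter _ hc h))
    exact ⟨k * x₁ * k⁻¹, hK3 k hk x₁ hx₁, k * c₁ * k⁻¹, hN.inv k hk c₁ hc₁, hconjK hk e₁,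
      hN.inter _ (mul_mem (inv_mem hc) (hN.inv k hk c₁ hc₁)) hkc⟩
  -- hence `T₃ = U`
  have hU3 : ∀ x ∈ U, x ∈ C.T3 := by
    set A' := C.A.subgroupOf N
    set L := C.T2.subgroupOf C.T3
    choose X hX cX hcX heX hAX using fun c : N => hatt c c.2
    let f : N ⧸ A' → C.T3 ⧸ L := fun q => QuotientGroup.mk ⟨(X q.out)⁻¹, inv_mem (hX _)⟩
    have hf : Function.Injective f := by
      intro q q' e
      have hm : X q.out * (X q'.out)⁻¹ ∈ C.T2 := by
        have h := QuotientGroup.eq.1 e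
        have h' : ((X q.out)⁻¹)⁻¹ * (X q'.out)⁻¹ ∈ C.T2 := h
        rwa [inv_inv] at h'
      -- the same class
      have hclass : (cX q'.out)⁻¹ * cX q.out ∈ C.A := by
        set σ := X q.out * (X q'.out)⁻¹ with hσ
        obtain ⟨w, hw, ew⟩ := hT0A σ hm y hy.mem
        have h1 : (X q.out)⁻¹ * y * X q.out = w * ((X q'.out)⁻¹ * y * X q'.out) := by
          calc (X q.out)⁻¹ * y * X q.out = (X q'.out)⁻¹ * (σ⁻¹ * y * σ) * X q'.out := by rw [hσ]; group
            _ = (X q'.out)⁻¹ * w * (y * X q'.out) := by rw [ew]; group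
            _ = w * (X q'.out)⁻¹ * (y * X q'.out) := by
              rw [((A_comm C hw (Subgroup.mem_inf.1 (hX q'.out)).1).inv_right).eq]
            _ = _ := by group
        rw [heX, heX, ← mul_assoc] at h1
        have h2 := mul_right_cancel h1
        rw [h2, (A_comm C hw (T2_le C (hN.le (hcX _)))).eq, inv_mul_cancel_left]
        exact hw
      have h3 : ((q.out : N) : G)⁻¹ * (q'.out : N) ∈ C.A := by
        have ha := hAX q.out
        have hb' := hAX q'.out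
        have : ((q.out : N) : G)⁻¹ * (q'.out : N) =
            (((q.out : N) : G)⁻¹ * cX q.out) * ((cX q'.out)⁻¹ * cX q.out)⁻¹ *
              (((q'.out : N) : G)⁻¹ * cX q'.out)⁻¹ := by group
        rw [this]
        exact mul_mem (mul_mem ha (inv_mem hclass)) (inv_mem hb')
      rw [← QuotientGroup.out_eq' q, ← QuotientGroup.out_eq' q', QuotientGroup.eq]
      exact h3
    have hNcard : Nat.card C.A * Nat.card C.A ≤ Nat.card N := by
      have h1 : Nat.card C.T2 ≤ Nat.card N * Nat.card C.T0 := by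
        rw [← Nat.card_prod]
        refine Nat.card_le_card_of_surjective (fun p : N × C.T0 => (⟨(p.1 : G) * p.2,
          mul_mem (hN.le p.1.2) (T1_le_T2 C (tFix_le_lineGroup C.base b p.2.2))⟩ : C.T2)) ?_
        rintro ⟨g, hg⟩
        obtain ⟨c, hc, l, hl, rfl⟩ := hN.factor g hg
        exact ⟨(⟨c, hc⟩, ⟨l, hl⟩), rfl⟩
      rw [card_T2 C, card_T1 C, ← mul_assoc] at h1
      exact Nat.le_of_mul_le_mul_right h1 Nat.card_pos
    have hge : Nat.card U ≤ Nat.card C.T3 := by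
      have h1 := Nat.card_le_card_of_injective f hf
      have h2 := Subgroup.card_eq_card_quotient_mul_card_subgroup A'
      have h3 := Subgroup.card_eq_card_quotient_mul_card_subgroup L
      rw [Nat.card_congr (Subgroup.subgroupOfEquivOfLe hN.A_le).toEquiv] at h2
      rw [Nat.card_congr (Subgroup.subgroupOfEquivOfLe (T2_le_T3 C)).toEquiv] at h3
      rw [h2] at hNcard
      have h4 : Nat.card C.A ≤ Nat.card (N ⧸ A') := Nat.le_of_mul_le_mul_right hNcard Nat.card_pos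
      rw [h3, card_U C, card_T2 C, card_T1 C]
      calc Nat.card C.A ^ 3 * Nat.card C.T0
          = Nat.card C.A * (Nat.card C.A * (Nat.card C.A * Nat.card C.T0)) := by ring
        _ ≤ _ := Nat.mul_le_mul_right _ (le_trans h4 h1)
    have heq : C.T3 = U := Subgroup.eq_of_le_of_card_ge inf_le_left hge
    intro x hx; rw [heq]; exact hx
  have hT2norm : ∀ g ∈ U, ∀ x ∈ C.T2, g * x * g⁻¹ ∈ C.T2 := fun g hg x hx =>
    (normalizer_conj C (Subgroup.mem_inf.1 (hU3 g hg)).2 hx).1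
  -- cosets of `T₂` in `U` fixed by `K₀` are trivial
  have hcomm2 : ∀ {g h : G}, g ∈ C.T2 → h ∈ C.T2 → g⁻¹ * h⁻¹ * g * h ∈ C.A := by
    intro g h hg hh
    have h1 := T2_sq C _ (mul_mem (inv_mem hg) (inv_mem hh))
    have h2 : h * (g * g) * h ∈ C.A := by
      rw [(A_comm C (T2_sq C g hg) (T2_le C hh)).eq.symm, mul_assoc]
      exact mul_mem (T2_sq C g hg) (T2_sq C h hh)
    rw [show g⁻¹ * h⁻¹ * g * h = (g⁻¹ * h⁻¹ * (g⁻¹ * h⁻¹)) * (h * (g * g) * h) by group]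
    exact mul_mem h1 h2
  have hfix3 : ∀ x ∈ U, (∀ k ∈ C.K0, x⁻¹ * (k * x * k⁻¹) ∈ C.T2) → x ∈ C.T2 := by
    intro x hx h
    obtain ⟨c, hc, e⟩ := himg x (hU3 x hx)
    have hcT1 : c ∈ C.T1 := by
      refine fixed_coset C (hN.le hc) fun k hk => ?_
      set σ := x⁻¹ * (k * x * k⁻¹) with hσ
      obtain ⟨w, hw, ew⟩ := hT0A σ (h k hk) y hy.mem
      have h3 := hconjK hk e
      have h4 : (k * x * k⁻¹)⁻¹ * y * (k * x * k⁻¹) = c * ((c⁻¹ * σ⁻¹ * c * σ) * w) * y := by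
        calc (k * x * k⁻¹)⁻¹ * y * (k * x * k⁻¹) = σ⁻¹ * (x⁻¹ * y * x) * σ := by rw [hσ]; group
          _ = σ⁻¹ * c * σ * (σ⁻¹ * y * σ) := by rw [e]; group
          _ = _ := by rw [ew]; group
      rw [h4] at h3
      have h5 := mul_right_cancel h3
      rw [← h5, inv_mul_cancel_left]
      exact A_le_T1 C (mul_mem (hcomm2 (hN.le hc) (h k hk)) hw)
    have hcA := hN.inter c hc hcT1
    have := hsame 1 (one_mem _) x (hU3 x hx) 1 c (by simp) e (by rw [mul_one]; exact inv_mem hcA)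
    simpa using this
  -- `K₀` is transitive on the non-trivial cosets of `T₂` in `U`
  have hout : ∀ x ∈ U, x ∉ C.T2 → ∀ c, x⁻¹ * y * x = c * y → c ∉ C.A := by
    intro x hx hxn c e hcA
    have := hsame 1 (one_mem _) x (hU3 x hx) 1 c (by simp) e (by rw [mul_one]; exact inv_mem hcA)
    exact hxn (by simpa using this)
  have htrans : ∀ x ∈ U, x ∉ C.T2 → ∀ x' ∈ U, x' ∉ C.T2 →
      ∃ k ∈ C.K0, ∃ τ ∈ C.T2, x' = τ * (k * x * k⁻¹) := by
    intro x hx hxn x' hx' hxn'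
    obtain ⟨c, hc, e⟩ := himg x (hU3 x hx)
    obtain ⟨c', hc', e'⟩ := himg x' (hU3 x' hx')
    obtain ⟨k, hk, hkc⟩ := coset_transitive C (hN.le hc) (hN.le hc')
      (fun h => hout x hx hxn c e (hN.inter _ hc h)) (fun h => hout x' hx' hxn' c' e' (hN.inter _ hc' h))
    exact ⟨k, hk, _, hsame _ (hK3 k hk x (hU3 x hx)) x' (hU3 x' hx') _ c' (hconjK hk e) e'
      (hN.inter _ (mul_mem (inv_mem hc') (hN.inv k hk c hc)) hkc), by group⟩
  have hsq2 : ∀ x ∈ U, x * x ∈ C.T2 := by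
    -- one element of order two modulo `T₂`
    obtain ⟨u, huU, hun, hu2⟩ : ∃ u ∈ U, u ∉ C.T2 ∧ u * u ∈ C.T2 := by
      have hx₁U : x₁ ∈ U := (Subgroup.mem_inf.1 hx₁).1
      obtain ⟨j, hj⟩ := C.two ⟨x₁, hx₁U⟩
      have hex : ∃ i, x₁ ^ 2 ^ i ∈ C.T2 := ⟨j, by
        rw [show x₁ ^ 2 ^ j = 1 by simpa using congrArg Subtype.val hj]; exact one_mem _⟩
      have hspec := Nat.find_spec hex
      rcases hf : Nat.find hex with _ | i
      · rw [hf, pow_zero, pow_one] at hspec; exact absurd hspec hx₁n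
      · refine ⟨x₁ ^ 2 ^ i, pow_mem hx₁U _, Nat.find_min hex (by omega), ?_⟩
        rw [← pow_add, ← two_mul, ← pow_succ']
        rwa [hf] at hspec
    intro x hx
    by_cases hxn : x ∈ C.T2
    · exact mul_mem hxn hxn
    obtain ⟨k, hk, τ, hτ, rfl⟩ := htrans u huU hun x hx hxn
    have huk : k * u * k⁻¹ ∈ U := K0_U C hk huU
    rw [show τ * (k * u * k⁻¹) * (τ * (k * u * k⁻¹)) =
      τ * ((k * u * k⁻¹) * τ * (k * u * k⁻¹)⁻¹) * (k * (u * u) * k⁻¹) by group]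
    exact mul_mem (mul_mem hτ (hT2norm _ huk τ hτ)) (K0_T2 C hk hu2)
  have hsqN : ∀ x ∈ U, x * x ∈ N := by
    intro x hx
    by_cases hxn : x ∈ C.T2
    · exact hN.A_le (T2_sq C x hxn)
    rcases hdec _ (hsq2 x hx) with h | h
    · exact h
    exfalso
    obtain ⟨x₂, hx₂, c', hc', e, hA⟩ := hatt _ h
    set w := (x * x * y)⁻¹ * c' with hw
    have he : x₂⁻¹ * y * x₂ = x * x * w := by
      calc x₂⁻¹ * y * x₂ = (x * x) * (y * w) * y := by rw [e, hw]; group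
        _ = (x * x) * (w * y) * y := by rw [(A_comm C hA (T0_le C hy.mem)).eq]
        _ = (x * x) * w * (y * y) := by group
        _ = _ := by rw [hy.invol.2, mul_one]
    have hx₂U : x₂ ∈ U := (Subgroup.mem_inf.1 hx₂).1
    have hc : Commute (x₂ * x * x₂⁻¹) y := by
      have h1 : Commute x (x₂⁻¹ * y * x₂) := by
        rw [he]
        exact ((Commute.refl x).mul_right (Commute.refl x)).mul_right (A_comm C hA hx).symm
      show x₂ * x * x₂⁻¹ * y = y * (x₂ * x * x₂⁻¹)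
      calc x₂ * x * x₂⁻¹ * y = x₂ * (x * (x₂⁻¹ * y * x₂)) * x₂⁻¹ := by group
        _ = x₂ * (x₂⁻¹ * y * x₂ * x) * x₂⁻¹ := by rw [h1.eq]
        _ = _ := by group
    have := hT2norm _ (inv_mem hx₂U) _ (T1_le_T2 C
      (line_of_commute C hy.mem hy.invol (mul_mem (mul_mem hx₂U hx) (inv_mem hx₂U)) hc))
    rw [show x₂⁻¹ * (x₂ * x * x₂⁻¹) * x₂⁻¹⁻¹ = x by group] at this
    exact hxn this
  have hNU : ∀ x ∈ U, ∀ c ∈ N, x * c * x⁻¹ ∈ N := fun x hx c hc => hN3 x (hU3 x hx) c hc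
  obtain ⟨M, hNM, hMU, hint, hfac, -, -⟩ := exists_complement (L := U) (N := N) (W := C.T2) (K := C.K0)
    (le_trans hN.le (T2_le C)) hsqN hNU (fun k hk x hx => K0_U C hk hx) hN.inv (K0_odd C) (T2_le C)
    (fun k hk g hg => by
      rcases hdec g hg with h | h
      · exact mul_mem (inv_mem h) (hN.inv k hk g h)
      · have hky : k * y * k⁻¹ = y := by rw [(K0_commute C hk hy.mem).eq, mul_inv_cancel_right]
        have h2 := hN.normal y⁻¹ (inv_mem hyT2) _ (mul_mem (inv_mem h) (hN.inv k hk _ h))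
        have e : g⁻¹ * (k * g * k⁻¹) = y * ((g * y)⁻¹ * (k * (g * y) * k⁻¹)) * y⁻¹ := by
          rw [show k * (g * y) * k⁻¹ = k * g * k⁻¹ * (k * y * k⁻¹) by group, hky]; group
        rw [inv_inv, hyi] at h2
        rw [e, hyi]
        exact h2)
    (fun x hx h => hfix3 x hx fun k hk => hN.le (h k hk))
  have hyM : y ∉ M := fun h => hyN (hint y h hyT2)
  refine ⟨y, M, hy, hMU, ?_, ?_⟩
  · rw [Subgroup.relIndex, Subgroup.index_eq_two_iff]
    refine ⟨⟨y, T0_le C hy.mem⟩, fun x => ?_⟩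
    show Xor ((x : G) * y ∈ M) ((x : G) ∈ M)
    obtain ⟨w, hw, hm⟩ := hfac x x.2
    rcases hdec w hw with h | h
    · refine Or.inr ⟨?_, fun h' => hyM ?_⟩
      · have := mul_mem hm (hNM (inv_mem h))
        rwa [mul_inv_cancel_right] at this
      · have hxM := mul_mem hm (hNM (inv_mem h))
        rw [mul_inv_cancel_right] at hxM
        have := mul_mem (inv_mem hxM) h'
        rwa [inv_mul_cancel_left] at this
    · have h2 : w⁻¹ * y ∈ N := by
        have := hN.normal y hyT2 _ h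
        have h3 := inv_mem this
        rwa [show (y * (w * y) * y⁻¹)⁻¹ = w⁻¹ * y⁻¹ by group, hyi] at h3
      have hxy : (x : G) * y ∈ M := by
        have := mul_mem hm (hNM h2)
        rwa [show (x : G) * w * (w⁻¹ * y) = x * y by group] at this
      refine Or.inl ⟨hxy, fun h' => hyM ?_⟩
      have := mul_mem (inv_mem h') hxy
      rwa [inv_mul_cancel_left] at this
  · intro g hg hgM
    have hga : (g * y * g⁻¹) • (g • a) = g • a := by
      rw [mul_smul, mul_smul, inv_smul_smul, smul_a_of_mem C.base (T0_le C hy.mem)]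
    have hgb : (g * y * g⁻¹) • (g • b) = g • b := by
      rw [mul_smul, mul_smul, inv_smul_smul, T0_fix C hy.mem]
    obtain ⟨c, hc, hca⟩ : ∃ c, (g * y * g⁻¹) • c = c ∧ c ≠ a := by
      by_cases h : g • a = a
      · exact ⟨g • b, hgb, fun e => C.hb (MulAction.injective g (e.trans h.symm))⟩
      · exact ⟨g • a, hga, h⟩
    obtain ⟨τ, hτ, rfl⟩ := C.base.trans b c C.hb hca
    have hmem : τ⁻¹ * (g * y * g⁻¹) * τ ∈ C.T0 :=
      mem_T0 C (mul_mem (mul_mem (inv_mem hτ) hg) hτ) (by rw [mul_smul, mul_smul, hc, inv_smul_smul])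
    have he : τ⁻¹ * (g * y * g⁻¹) * τ = y := by
      refine (hT0 _ hmem).resolve_left fun e => hy.invol.1 ?_
      calc y = g⁻¹ * (τ * (τ⁻¹ * (g * y * g⁻¹) * τ) * τ⁻¹) * g := by group
        _ = 1 := by rw [e]; group
    obtain ⟨c, hc, ec⟩ := himg τ⁻¹ (inv_mem (hU3 τ hτ))
    rw [inv_inv] at ec
    have : g * y * g⁻¹ = c * y := by
      rw [← ec]
      calc g * y * g⁻¹ = τ * (τ⁻¹ * (g * y * g⁻¹) * τ) * τ⁻¹ := by group
        _ = _ := by rw [he]
    rw [this] at hgM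
    have := mul_mem (inv_mem (hNM hc)) hgM
    rw [inv_mul_cancel_left] at this
    exact hyM this

end Cfsg.Agent.RankOneSplit
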