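import Cfsg.Agent.Lib.RankOneSplit.Basic
import Cfsg.Prelude.Def_LieRecognition
import Mathlib.GroupTheory.Perm.Cycle.Type
import Mathlib.GroupTheory.SpecificGroups.Cyclic

/-!
# Two-point stabilisers of odd order
-/

set_option autoImplicit false
set_option linter.unusedSectionVars false
set_option linter.style.haveILetI false

namespace Cfsg.Agent.RankOneSplit

open MulAction Cfsg.Agent.RankOne

universe u v

variable {G : Type u} {Ω : Type v} [Group G] [MulAction G Ω]

/-- The odd case of `SplitPerm`. -/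
structure OddSplit (a : Ω) (U : Subgroup G) : Prop where
  base : SplitPerm a U
  odd_stab : ∀ c : Ω, c ≠ a → Odd (Nat.card ↥(stabilizer G a ⊓ stabilizer G c))
  four : ∃ x y : G, x • a = a ∧ y • a = a ∧ IsInvol x ∧ IsInvol y ∧ x ≠ y ∧ Commute x y

theorem mem_normalizer_of_maps [Finite G] {R : Subgroup G} {g : G}
    (h : ∀ x ∈ R, g * x * g⁻¹ ∈ R) : g ∈ Subgroup.normalizer (R : Set G) := by
  have hbij : Function.Bijective (fun x : R => (⟨g * x * g⁻¹, h x x.2⟩ : R)) := by
    refine Finite.injective_iff_bijective.1 fun x y e => ?_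
    have := congrArg Subtype.val e
    exact Subtype.ext (mul_left_cancel (mul_right_cancel this))
  refine Subgroup.mem_normalizer_iff.2 fun x => ⟨h x, fun hx => ?_⟩
  obtain ⟨y, hy⟩ := hbij.2 ⟨_, hx⟩
  have : (y : G) = x := mul_left_cancel (mul_right_cancel (congrArg Subtype.val hy))
  exact this ▸ y.2

/-- In a cyclic group any two elements of prime order generate the same subgroup. -/
theorem mem_zpowers_of_cyclic [Finite G] {P : Subgroup G} (hP : IsCyclic P) {p : ℕ} [Fact p.Prime]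
    {x y : G} (hx : x ∈ P) (hy : y ∈ P) (hx1 : orderOf x = p) (hy1 : y ^ p = 1) :
    y ∈ Subgroup.zpowers x := by
  classical
  haveI := hP
  haveI : Fintype P := Fintype.ofFinite P
  set x' : P := ⟨x, hx⟩
  have hle : ({z : P | z ^ p = 1} : Finset P).card ≤ p :=
    IsCyclic.card_pow_eq_one_le (Fact.out : p.Prime).pos
  let S : Finset P := Finset.univ.filter (fun z => z ∈ Subgroup.zpowers x')
  have hS : S.card = p := by
    have : S.card = Nat.card (Subgroup.zpowers x') := by
      rw [Nat.card_eq_fintype_card, Fintype.card_subtype]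
    rw [this, Nat.card_zpowers, ← hx1, Subgroup.orderOf_mk]
  have hsub : S ⊆ Finset.univ.filter (fun z : P => z ^ p = 1) := fun z hz => by
    simp only [S, Finset.mem_filter, Finset.mem_univ, true_and] at hz ⊢
    obtain ⟨k, rfl⟩ := hz
    rw [← zpow_natCast, zpow_comm, zpow_natCast, ← hx1, show x' ^ orderOf x = 1 by
      rw [← Subgroup.orderOf_mk x hx]; exact pow_orderOf_eq_one x', one_zpow]
  have heq := Finset.eq_of_subset_of_card_le hsub (by rw [hS]; exact hle)
  have hy' : (⟨y, hy⟩ : P) ∈ S := by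
    rw [heq]; simp only [Finset.mem_filter, Finset.mem_univ, true_and]; exact Subtype.ext (by simpa using hy1)
  simp only [S, Finset.mem_filter, Finset.mem_univ, true_and] at hy'
  obtain ⟨k, hk⟩ := hy'
  exact ⟨k, by simpa using congrArg Subtype.val hk⟩

section

variable [Finite G] [FaithfulSMul G Ω] {a : Ω} {U : Subgroup G} (hO : OddSplit a U)
include hO

theorem invol_fix_unique {x : G} (hx : IsInvol x) {c d : Ω} (hc : x • c = c) (hd : x • d = d) :
    c = d := by
  by_contra hne
  obtain ⟨g, rfl⟩ := pretrans hO.base a c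
  have hd' : g⁻¹ • d ≠ a := fun e => hne (by rw [← e, smul_inv_smul])
  have hmem : g⁻¹ * x * g ∈ stabilizer G a ⊓ stabilizer G (g⁻¹ • d) := by
    refine Subgroup.mem_inf.2 ⟨?_, ?_⟩
    · show (g⁻¹ * x * g) • a = a
      rw [mul_smul, mul_smul, hc, inv_smul_smul]
    · show (g⁻¹ * x * g) • (g⁻¹ • d) = g⁻¹ • d
      rw [mul_smul, mul_smul, smul_inv_smul, hd]
  have hdvd := Subgroup.orderOf_dvd_natCard _ hmem
  have hinv : IsInvol (g⁻¹ * x * g) := by simpa using hx.conj g⁻¹
  rw [hinv.orderOf] at hdvd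
  exact Nat.not_even_iff_odd.2 (hO.odd_stab _ hd') (even_iff_two_dvd.2 hdvd)

theorem invol_exists_fixed {x : G} (hx : IsInvol x) : ∃ c : Ω, x • c = c := by
  classical
  haveI := hO.base.finite
  haveI : Fintype Ω := Fintype.ofFinite Ω
  have hodd := hO.base.odd_points
  rw [Nat.card_eq_fintype_card] at hodd
  haveI := Fact.mk Nat.prime_two
  exact Equiv.Perm.exists_fixed_point_of_prime (p := 2) (n := 1) (σ := MulAction.toPermHom G Ω x)
    (by rwa [← even_iff_two_dvd, Nat.not_even_iff_odd])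
    (by rw [pow_one, pow_two, ← map_mul, hx.2, map_one])

theorem invol_atype {x : G} (hx : IsInvol x) {c : Ω} (hc : x • c = c) : AType hO.base x c := by
  obtain ⟨d, hd⟩ : ∃ d : Ω, d ≠ c := by
    obtain ⟨b, hb⟩ := hO.base.nontriv
    by_cases h : b = c
    · exact ⟨a, fun e => hb (h.trans e.symm)⟩
    · exact ⟨b, h⟩
  obtain ⟨y, hy⟩ := exists_atype hO.base d
  have hyi := atype_invol hO.base hy
  have hodd : Odd (orderOf (x * y)) := by
    by_contra h
    obtain ⟨u, hu, hux, huy, -, -⟩ := even_split hx hyi h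
    have h1 : u • c = c := invol_fix_unique hO hx (smul_eq_of_commute hux hc) hc
    exact hd (invol_fix_unique hO hu (atype_commute_fixes hO.base hy huy) h1)
  obtain ⟨g, -, hg, -, -, -⟩ := odd_conj hx hyi hodd
  have h2 : AType hO.base x (g⁻¹ • d) := by
    have := atype_conj hO.base hy g⁻¹
    rwa [← hg, show g⁻¹ * (g * x * g⁻¹) * g⁻¹⁻¹ = x by group] at this
  exact atype_point hO.base h2 hc

theorem invol_mem_A {x : G} (hx : IsInvol x) (hc : x • a = a) : x ∈ hO.base.A :=
  atype_mem hO.base (invol_atype hO hx hc)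

/-- An involution interchanging two given points. -/
theorem exists_swap {c : Ω} (hc : c ≠ a) : ∃ t : G, IsInvol t ∧ t • a = c ∧ t • c = a := by
  obtain ⟨z, hz, hz1⟩ := exists_A hO.base
  obtain ⟨y, hy⟩ := exists_atype hO.base c
  obtain ⟨-, j, -, -, hj, -, hjc, -⟩ := atype_swap hO.base (atype_base hO.base hz hz1) hy hc.symm
  exact ⟨j, hj, hjc, by rw [← hjc, ← mul_smul, hj.2, one_smul]⟩

theorem setup_of_regular {b : Ω} (hb : b ≠ a) (hreg : ∀ x ∈ U, x • b = b → x = 1) {t : G}
    (ht : IsInvol t) (hta : t • a ≠ a) : Cfsg.IsRankOneSetup G Ω a t U where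
  two_transitive := hO.base.two
  mul_self := ht.2
  ne_one := ht.1
  not_mem := hta
  le := hO.base.le
  conj_mem := hO.base.conj_mem
  inf_eq_bot := (Subgroup.eq_bot_iff_forall _).2 fun x hx => by
    obtain ⟨hxU, hxc⟩ := Subgroup.mem_inf.1 hx
    obtain ⟨u, hu, e⟩ := hO.base.trans b (t • a) hb hta
    have h := hreg (u⁻¹ * x * u) (mul_mem (mul_mem (inv_mem hu) hxU) hu) (by
      rw [mul_smul, mul_smul, e, show x • (t • a) = t • a from hxc, ← e, inv_smul_smul])
    calc x = u * (u⁻¹ * x * u) * u⁻¹ := by group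
      _ = 1 := by rw [h]; group
  sup_eq := le_antisymm (sup_le hO.base.le inf_le_left) fun g hg => by
    obtain ⟨x, hx, h1, h2⟩ := exists_stab_factor hO.base (show g • a = a from hg) hta
    have : g = x * (x⁻¹ * g) := by group
    rw [this]
    exact mul_mem (Subgroup.mem_sup_left hx) (Subgroup.mem_sup_right (Subgroup.mem_inf.2 ⟨h1, h2⟩))
  even_card := even_card_U hO.base
  odd_card := hO.odd_stab _ hta

theorem exists_commuting :
    ∃ x y : G, x ≠ 1 ∧ y ≠ 1 ∧ x ≠ y ∧ x * x = 1 ∧ y * y = 1 ∧ x * y = y * x := by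
  obtain ⟨x, y, -, -, hx, hy, hne, hc⟩ := hO.four
  exact ⟨x, y, hx.1, hy.1, hne, hx.2, hy.2, hc.eq⟩

theorem exists_A_pair : ∃ x y : G, x ∈ hO.base.A ∧ y ∈ hO.base.A ∧ x ≠ 1 ∧ y ≠ 1 ∧ x ≠ y := by
  obtain ⟨x, y, hxa, hya, hx, hy, hne, -⟩ := hO.four
  exact ⟨x, y, invol_mem_A hO hx hxa, invol_mem_A hO hy hya, hx.1, hy.1, hne⟩

end

end Cfsg.Agent.RankOneSplit
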