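import Cfsg.Agent.Lib.RankOneSplit.Restrict
import Cfsg.Agent.Lib.FiniteGroup.CyclicPGroup

/-!
# The case where the `p`-part acts without fixed points on the involutions of the second point
-/

set_option autoImplicit false
set_option linter.unusedSectionVars false
set_option linter.style.haveILetI false
set_option linter.unusedVariables false

namespace Cfsg.Agent.RankOneSplit

open MulAction Cfsg.Agent.RankOne

universe u v

variable {G : Type u} {Ω : Type v} [Group G] [MulAction G Ω]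
variable [Finite G] [FaithfulSMul G Ω] {a : Ω} {U : Subgroup G}

/-- The `p`-elements of `U` fixing `b`. -/
noncomputable abbrev pFix (hS : SplitPerm a U) (p : ℕ) [Fact p.Prime] (b : Ω) : Subgroup G :=
  pPart hS.nilp p ⊓ stabilizer G b

variable (hO : OddSplit a U)
include hO

/-- `x` commutes with all involutions fixing `c`. -/
def CentInv (x : G) (c : Ω) : Prop := ∀ w : G, IsInvol w → w • c = c → Commute x w

theorem centInv_a {x : G} (hx : x ∈ U) : CentInv x a := fun w hw hwa =>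
  (A_central hO.base (invol_mem_A hO hw hwa) hx).symm

theorem pFix_conj (p : ℕ) [Fact p.Prime] {b : Ω} {d : G} (hd : d • a = a) (hdb : d • b = b) {x : G}
    (hx : x ∈ pFix hO.base p b) : d * x * d⁻¹ ∈ pFix hO.base p b := by
  obtain ⟨hxp, hxb⟩ := Subgroup.mem_inf.1 hx
  refine Subgroup.mem_inf.2 ⟨pPart_conj hO.base.nilp p (hO.base.conj_mem d hd) hxp, ?_⟩
  show (d * x * d⁻¹) • b = b
  rw [mul_smul, mul_smul, show d⁻¹ • b = b by rw [inv_smul_eq_iff, hdb],
    show x • b = b from hxb, hdb]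

omit hO in
theorem invol_conj_fix {w g : G} {c : Ω} (hw : IsInvol w) (hc : w • c = c) :
    IsInvol (g * w * g⁻¹) ∧ (g * w * g⁻¹) • (g • c) = g • c :=
  ⟨hw.conj g, by rw [mul_smul, mul_smul, inv_smul_smul, hc]⟩

/-- Centralising one involution fixing `b` means centralising all. -/
theorem centInv_of_commute {b : Ω} (hb : b ≠ a) {x : G} (hx : x ∈ U) {w : G} (hw : IsInvol w)
    (hwb : w • b = b) (hc : Commute x w) : CentInv x b := by
  obtain ⟨z, hz, hz1⟩ := exists_A hO.base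
  obtain ⟨g, j, -, -, hj, -, hjb, hcent⟩ := atype_swap hO.base (atype_base hO.base hz hz1)
    (invol_atype hO hw hwb) hb.symm
  have hxj : Commute x j := (hcent x ((A_central hO.base hz hx).symm) hc).2
  have hjb' : j • b = a := by rw [← hjb, ← mul_smul, hj.2, one_smul]
  intro v hv hvb
  obtain ⟨hv', hva⟩ := invol_conj_fix (g := j) hv hvb
  rw [hjb'] at hva
  have h := centInv_a hO hx _ hv' hva
  rw [hj.inv_eq] at h
  have : v = j * (j * v * j) * j := by
    calc v = (j * j) * v * (j * j) := by rw [hj.2, one_mul, mul_one]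
      _ = _ := by group
  rw [this]
  exact (hxj.mul_right h).mul_right hxj

variable (p : ℕ) [hp : Fact p.Prime] {b : Ω} (hb : b ≠ a)
  (hfree : ∀ x ∈ pFix hO.base p b, CentInv x b → x = 1)
include hb hfree

theorem fpf {x : G} (hx : x ∈ pFix hO.base p b) {w : G} (hw : IsInvol w) (hwb : w • b = b)
    (hc : Commute x w) : x = 1 :=
  hfree x hx (centInv_of_commute hO hb (pPart_le _ _ (Subgroup.mem_inf.1 hx).1) hw hwb hc)

theorem pFix_cyclic (hp2 : p ≠ 2) : IsCyclic (pFix hO.base p b) := by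
  obtain ⟨g, hg⟩ := pretrans hO.base a b
  set K : Subgroup G := hO.base.A.map (MulAut.conj g).toMonoidHom
  have hK : ∀ k ∈ K, k ≠ 1 → AType hO.base k b := by
    rintro _ ⟨z, hz, rfl⟩ hk
    exact hg ▸ atype_conj hO.base (atype_base hO.base hz (fun e => hk (by rw [e]; simp))) g
  have hnorm : ∀ x ∈ pFix hO.base p b, ∀ k ∈ K, x * k * x⁻¹ ∈ K := by
    intro x hx k hk
    by_cases hk1 : k = 1
    · rw [hk1, mul_one, mul_inv_cancel]; exact one_mem _
    have h := atype_conj hO.base (hK k hk hk1) x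
    rw [show x • b = b from (Subgroup.mem_inf.1 hx).2] at h
    have h2 := atype_conj hO.base h g⁻¹
    rw [← hg, inv_smul_smul] at h2
    exact ⟨_, atype_mem hO.base h2, by simp only [MulEquiv.coe_toMonoidHom, MulAut.conj_apply]; group⟩
  refine CyclicPGroup.isCyclic_of_fixedPointFree hp2 (K := K)
    ((pPart_isPGroup hO.base.nilp p).to_le inf_le_left)
    (fun x hx => mem_normalizer_of_maps (hnorm x hx)) ?_ ?_ ?_
  · haveI := Fact.mk Nat.prime_two
    have hA2 : IsPGroup 2 K :=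
      ((pPart_isPGroup hO.base.nilp 2).to_le (A_le_T hO.base)).map _
    obtain ⟨i, hi⟩ := IsPGroup.iff_card.1 ((pPart_isPGroup hO.base.nilp p).to_le
      (inf_le_left (b := stabilizer G b)))
    obtain ⟨j, hj⟩ := IsPGroup.iff_card.1 hA2
    rw [hi, hj]
    exact Nat.Coprime.pow _ _ ((Nat.coprime_primes hp.out Nat.prime_two).2 hp2)
  · obtain ⟨z, hz, hz1⟩ := exists_A hO.base
    intro h
    have : g * z * g⁻¹ ∈ K := ⟨z, hz, rfl⟩
    rw [h, Subgroup.mem_bot] at this
    exact hz1 (conj_eq_one_iff.1 this)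
  · intro x hx hx1 k hk hk1 e
    exact hx1 (fpf hO p hb hfree hx (atype_invol hO.base (hK k hk hk1))
      (atype_fixes hO.base (hK k hk hk1)) e)

/-- An element commuting with a non-trivial element of `pFix` fixes `a`. -/
theorem centralizer_fixes {x h : G} (hx : x ∈ pFix hO.base p b) (hx1 : x ≠ 1)
    (hh : h⁻¹ * x * h ∈ Subgroup.zpowers x) : h • a = a := by
  obtain ⟨z, hz, hz1⟩ := exists_A hO.base
  have hxU : x ∈ U := pPart_le _ _ (Subgroup.mem_inf.1 hx).1
  -- every involution centralised by `x` fixes `a`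
  have key : ∀ w : G, IsInvol w → Commute x w → w • a = a := by
    intro w hw hc
    obtain ⟨c, hc'⟩ := invol_exists_fixed hO hw
    by_cases hca : c = a
    · rw [← hca]; exact hc'
    exfalso
    have hxc : x • c = c := invol_fix_unique hO hw (smul_eq_of_commute hc hc') hc'
    obtain ⟨g, hg, rfl⟩ := hO.base.trans b c hb hca
    have hmem : g⁻¹ * x * g ∈ pFix hO.base p b := by
      refine Subgroup.mem_inf.2 ⟨?_, ?_⟩
      · have := pPart_conj hO.base.nilp p (g := g⁻¹)
          (hO.base.conj_mem _ (inv_mem (hO.base.le hg))) (Subgroup.mem_inf.1 hx).1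
        rwa [inv_inv] at this
      · show (g⁻¹ * x * g) • b = b
        rw [mul_smul, mul_smul, hxc, inv_smul_smul]
    have hw' : IsInvol (g⁻¹ * w * g) := by simpa using hw.conj g⁻¹
    have := fpf hO p hb hfree hmem hw' (by rw [mul_smul, mul_smul, hc', inv_smul_smul]) (by
      have e : x * w = w * x := hc
      show g⁻¹ * x * g * (g⁻¹ * w * g) = g⁻¹ * w * g * (g⁻¹ * x * g)
      calc g⁻¹ * x * g * (g⁻¹ * w * g) = g⁻¹ * (x * w) * g := by group
        _ = g⁻¹ * (w * x) * g := by rw [e]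
        _ = _ := by group)
    exact hx1 (by
      calc x = g * (g⁻¹ * x * g) * g⁻¹ := by group
        _ = 1 := by rw [this]; group)
  obtain ⟨k, hk⟩ := hh
  have hcz : Commute (h⁻¹ * x * h) z := by
    rw [← hk]
    exact ((A_central hO.base hz hxU).symm).zpow_left k
  have hcw : Commute x (h * z * h⁻¹) := by
    have e : h⁻¹ * x * h * z = z * (h⁻¹ * x * h) := hcz
    show x * (h * z * h⁻¹) = h * z * h⁻¹ * x
    calc x * (h * z * h⁻¹) = h * (h⁻¹ * x * h * z) * h⁻¹ := by group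
      _ = h * (z * (h⁻¹ * x * h)) * h⁻¹ := by rw [e]
      _ = _ := by group
  have hat := atype_conj hO.base (atype_base hO.base hz hz1) h
  exact (atype_unique hO.base hat (key _ (atype_invol hO.base hat) hcw)).symm

/-- The fixed-point-free case is impossible. -/
theorem fpf_false {x₀ : G} (hx₀ : x₀ ∈ pFix hO.base p b) (hx01 : x₀ ≠ 1) : False := by
  classical
  -- `p` is odd
  have hp2 : p ≠ 2 := by
    rintro rfl
    obtain ⟨k, hk⟩ := ((mem_pPart hO.base.nilp 2).1 (Subgroup.mem_inf.1 hx₀).1).2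
    have h1 := Subgroup.orderOf_dvd_natCard (stabilizer G a ⊓ stabilizer G b)
      (Subgroup.mem_inf.2 ⟨smul_a_of_mem hO.base (pPart_le _ _ (Subgroup.mem_inf.1 hx₀).1),
        (Subgroup.mem_inf.1 hx₀).2⟩)
    exact hx01 (orderOf_eq_one_iff.1 (Nat.eq_one_of_dvd_coprimes
      ((Nat.coprime_two_right.2 (hO.odd_stab b hb)).pow_right k) h1 (orderOf_dvd_of_pow_eq_one hk)))
  -- `x` of order `p`
  obtain ⟨x, hx, hxord⟩ : ∃ x ∈ pFix hO.base p b, orderOf x = p := by
    have hdvd : p ∣ Nat.card (pFix hO.base p b) := by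
      obtain ⟨n, hn⟩ := IsPGroup.iff_card.1 ((pPart_isPGroup hO.base.nilp p).to_le
        (inf_le_left (b := stabilizer G b)))
      rw [hn]
      refine dvd_pow_self p fun hn0 => hx01 ?_
      rw [hn0, pow_zero, Subgroup.card_eq_one] at hn
      exact (Subgroup.eq_bot_iff_forall _).1 hn x₀ hx₀
    obtain ⟨y, hy⟩ := exists_prime_orderOf_dvd_card' (G := pFix hO.base p b) p hdvd
    exact ⟨y, y.2, by rw [Subgroup.orderOf_coe, hy]⟩
  have hx1 : x ≠ 1 := fun e => by rw [e, orderOf_one] at hxord; exact hp.out.ne_one hxord.symm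
  have hxpow : x ^ p = 1 := hxord ▸ pow_orderOf_eq_one x
  obtain ⟨hxp, hxb : x • b = b⟩ := Subgroup.mem_inf.1 hx
  have hxU := pPart_le _ _ hxp
  have hxa := smul_a_of_mem hO.base hxU
  -- the swapper
  obtain ⟨t, ht, hta, htb⟩ := exists_swap hO hb
  have hti := ht.inv_eq
  have hswap : ∀ w : G, (t * w * t) • a = a → w • b = b := fun w hw => by
    calc w • b = t • ((t * w * t) • a) := by
          rw [mul_smul, mul_smul, hta, ← mul_smul t t, ht.2, one_smul]
      _ = b := by rw [hw, hta]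
  set x' := t * x * t with hx'
  have hx'a : x' • a = a := by rw [hx', mul_smul, mul_smul, hta, hxb, htb]
  have hx'b : x' • b = b := by rw [hx', mul_smul, mul_smul, htb, hxa, hta]
  have hx'cent : CentInv x' b := by
    intro w hw hwb
    obtain ⟨hw', hwa⟩ := invol_conj_fix (g := t) hw hwb
    rw [htb] at hwa
    have h := centInv_a hO hxU _ hw' hwa
    rw [hti] at h
    have e : x * (t * w * t) = t * w * t * x := h
    show t * x * t * w = w * (t * x * t)
    calc t * x * t * w = t * x * t * w * (t * t) := by rw [ht.2, mul_one]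
      _ = t * (x * (t * w * t)) * t := by group
      _ = t * (t * w * t * x) * t := by rw [e]
      _ = (t * t) * w * (t * x * t) := by group
      _ = w * (t * x * t) := by rw [ht.2, one_mul]
  have hxx' : Commute x x' := by
    have h1 : x' * x * x'⁻¹ ∈ pFix hO.base p b := pFix_conj hO p hx'a hx'b hx
    have h2 : x * x' * x⁻¹ * x'⁻¹ = x * (x' * x⁻¹ * x'⁻¹) := by group
    have hmem : x * (x' * x⁻¹ * x'⁻¹) ∈ pFix hO.base p b :=
      mul_mem hx (by simpa [mul_assoc] using inv_mem h1)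
    -- the commutator centralises the involutions fixing `b`
    have hc : CentInv (x * (x' * x⁻¹ * x'⁻¹)) b := by
      intro w hw hwb
      rw [← h2]
      have hxw : IsInvol (x⁻¹ * w * x) := by simpa using hw.conj x⁻¹
      have hxwb : (x⁻¹ * w * x) • b = b := by
        rw [mul_smul, mul_smul, hxb, hwb, inv_smul_eq_iff, hxb]
      have e1 : x' * (x⁻¹ * w * x) = x⁻¹ * w * x * x' := (hx'cent _ hxw hxwb).eq
      have e2 : x' * w = w * x' := (hx'cent w hw hwb).eq
      show x * x' * x⁻¹ * x'⁻¹ * w = w * (x * x' * x⁻¹ * x'⁻¹)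
      calc x * x' * x⁻¹ * x'⁻¹ * w = x * x' * x⁻¹ * x'⁻¹ * (w * x') * x'⁻¹ := by group
        _ = x * x' * x⁻¹ * x'⁻¹ * (x' * w) * x'⁻¹ := by rw [e2]
        _ = x * (x' * (x⁻¹ * w * x)) * x⁻¹ * x'⁻¹ := by group
        _ = x * (x⁻¹ * w * x * x') * x⁻¹ * x'⁻¹ := by rw [e1]
        _ = w * (x * x' * x⁻¹ * x'⁻¹) := by group
    have := hfree _ hmem hc
    rw [← h2] at this
    show x * x' = x' * x
    calc x * x' = x * x' * x⁻¹ * x'⁻¹ * (x' * x) := by group
      _ = x' * x := by rw [this, one_mul]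
  have hx'pow : x' ^ p = 1 := by
    rw [hx', show t * x * t = t * x * t⁻¹ by rw [hti], conj_pow, hxpow, mul_one, mul_inv_cancel]
  -- `v = x x'` and the fixed point `c` of `t`
  set v := x * x' with hv
  have hvt : Commute v t := by
    show x * (t * x * t) * t = t * (x * (t * x * t))
    calc x * (t * x * t) * t = x * (t * x) * (t * t) := by group
      _ = (t * t) * (x * t * x) := by rw [ht.2, mul_one, one_mul, mul_assoc]
      _ = t * (x' * x) * (1 : G) * (1 : G) := by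
        rw [hx']; simp only [mul_assoc, ht.2, mul_one]; rw [← mul_assoc t t, ht.2, one_mul]
      _ = t * (x * (t * x * t)) := by rw [← hxx'.eq, mul_one, mul_one, hx']
  obtain ⟨c, htc⟩ := invol_exists_fixed hO ht
  have hca : c ≠ a := fun e => hb (by rw [e, hta] at htc; exact htc)
  have hva : v • a = a := by rw [hv, mul_smul, hx'a, hxa]
  have hvb : v • b = b := by rw [hv, mul_smul, hx'b, hxb]
  have hvc : v • c = c := invol_fix_unique hO ht (smul_eq_of_commute hvt htc) htc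
  have hvpow : v ^ p = 1 := by rw [hv, hxx'.mul_pow, hxpow, hx'pow, one_mul]
  -- `g ∈ U` carrying `b` to `c`, its `p'`-part commuting with `v`
  set P := pPart hO.base.nilp p
  set C := pCompl hO.base.nilp p
  obtain ⟨g₀, hg₀U, hg₀⟩ := hO.base.trans b c hb hca
  obtain ⟨g₁, hg₁, g₂, hg₂, hg₁₂⟩ := parts_cover hO.base.nilp p hg₀U
  have hconjU : ∀ y ∈ U, v * y * v⁻¹ ∈ U := hO.base.conj_mem v hva
  obtain ⟨g₃, hg₃, hg₃v, hg₃b⟩ : ∃ g₃ ∈ C, Commute g₃ v ∧ (g₂⁻¹ * g₃) • b = b := by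
    let S := {y : G // y ∈ C ∧ (g₂⁻¹ * y) • b = b}
    have hstep : ∀ y : G, y ∈ C → (g₂⁻¹ * y) • b = b → (g₂⁻¹ * (v * y * v⁻¹)) • b = b := by
      intro y hy hyb
      have h2 : (g₀⁻¹ * v * g₀) • b = b := by rw [mul_smul, mul_smul, hg₀, hvc, ← hg₀, inv_smul_smul]
      -- `g₀⁻¹ v g₀ v⁻¹` fixes `b`, hence so does its `p'`-part
      have hmem : g₀⁻¹ * (v * g₀ * v⁻¹) ∈ U := mul_mem (inv_mem hg₀U) (hconjU _ hg₀U)
      have hbfix : g₀⁻¹ * (v * g₀ * v⁻¹) ∈ stabilizer G b := by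
        show (g₀⁻¹ * (v * g₀ * v⁻¹)) • b = b
        rw [show g₀⁻¹ * (v * g₀ * v⁻¹) = g₀⁻¹ * v * g₀ * v⁻¹ by group, mul_smul,
          show v⁻¹ • b = b by rw [inv_smul_eq_iff, hvb], h2]
      have hdec : g₀⁻¹ * (v * g₀ * v⁻¹) = (g₁⁻¹ * (v * g₁ * v⁻¹)) * (g₂⁻¹ * (v * g₂ * v⁻¹)) := by
        have hcc := (parts_commute hO.base.nilp p (pPart_conj hO.base.nilp p hconjU hg₁) (inv_mem hg₂)).eq
        rw [hg₁₂]
        calc (g₁ * g₂)⁻¹ * (v * (g₁ * g₂) * v⁻¹)
            = g₂⁻¹ * (g₁⁻¹ * (v * g₁ * v⁻¹)) * (v * g₂ * v⁻¹) := by group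
          _ = (g₁⁻¹ * (v * g₁ * v⁻¹)) * g₂⁻¹ * (v * g₂ * v⁻¹) := by
              rw [(parts_commute hO.base.nilp p
                (mul_mem (inv_mem hg₁) (pPart_conj hO.base.nilp p hconjU hg₁)) (inv_mem hg₂)).eq]
          _ = _ := by group
      have h3 := (parts_of_mem hO.base.nilp p
        (mul_mem (inv_mem hg₁) (pPart_conj hO.base.nilp p hconjU hg₁))
        (mul_mem (inv_mem hg₂) (pCompl_conj hO.base.nilp p hconjU hg₂)) hdec hbfix).2
      rw [show g₂⁻¹ * (v * y * v⁻¹) = g₂⁻¹ * (v * g₂ * v⁻¹) * (v * (g₂⁻¹ * y) * v⁻¹) by group, mul_smul,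
        show (v * (g₂⁻¹ * y) * v⁻¹) • b = b by
          rw [mul_smul, mul_smul, show v⁻¹ • b = b by rw [inv_smul_eq_iff, hvb], hyb, hvb]]
      exact h3
    let σ : S → S := fun y =>
      ⟨v * y * v⁻¹, pCompl_conj hO.base.nilp p hconjU y.2.1, hstep y y.2.1 y.2.2⟩
    have hσi : Function.Injective σ := fun y y' e =>
      Subtype.ext (mul_left_cancel (mul_right_cancel (congrArg Subtype.val e)))
    let τ : Equiv.Perm S := Equiv.ofBijective σ (Finite.injective_iff_bijective.1 hσi)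
    have hτpow : ∀ (m : ℕ) (y : S), (((τ ^ m) y : S) : G) = v ^ m * y * (v ^ m)⁻¹ := by
      intro m
      induction m with
      | zero => intro y; simp
      | succ m ih =>
        intro y
        rw [pow_succ', Equiv.Perm.mul_apply]
        show v * (((τ ^ m) y : S) : G) * v⁻¹ = _
        rw [ih, pow_succ']; group
    have hτ : τ ^ p ^ 1 = 1 := by
      refine Equiv.ext fun y => Subtype.ext ?_
      rw [pow_one, hτpow, hvpow]; simp
    haveI : Fintype S := Fintype.ofFinite S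
    have hcard : ¬ p ∣ Fintype.card S := by
      have e : S ≃ ↥(C ⊓ stabilizer G b) :=
        { toFun := fun y => ⟨g₂⁻¹ * y, Subgroup.mem_inf.2 ⟨mul_mem (inv_mem hg₂) y.2.1, y.2.2⟩⟩
          invFun := fun z => ⟨g₂ * z, mul_mem hg₂ (Subgroup.mem_inf.1 z.2).1, by
            rw [inv_mul_cancel_left]; exact (Subgroup.mem_inf.1 z.2).2⟩
          left_inv := fun y => Subtype.ext (mul_inv_cancel_left _ _)
          right_inv := fun z => Subtype.ext (inv_mul_cancel_left _ _) }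
      rw [← Nat.card_eq_fintype_card, Nat.card_congr e]
      intro hd
      obtain ⟨y, hy⟩ := exists_prime_orderOf_dvd_card' p hd
      have := ((mem_pCompl hO.base.nilp p).1 (Subgroup.mem_inf.1 y.2).1).2
      rw [Subgroup.orderOf_coe, hy, Nat.coprime_self] at this
      exact hp.out.ne_one this
    obtain ⟨y, hy⟩ := Equiv.Perm.exists_fixed_point_of_prime hcard hτ
    refine ⟨y, y.2.1, ?_, y.2.2⟩
    have h := congrArg Subtype.val hy
    exact (mul_inv_eq_iff_eq_mul.1 h).symm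
  have hgU : g₁ * g₃ ∈ U := mul_mem (pPart_le _ _ hg₁) (pCompl_le _ _ hg₃)
  set g := g₁ * g₃ with hg
  have hgb : g • b = c := by
    rw [show g = g₁ * g₂ * (g₂⁻¹ * g₃) by rw [hg]; group, mul_smul, hg₃b, ← hg₁₂, hg₀]
  -- `g⁻¹ v g = v k` with `k ∈ pFix`
  set k := v⁻¹ * g₁⁻¹ * v * g₁ with hk
  have hkP : k ∈ P := by
    have h := pPart_conj hO.base.nilp p (g := v⁻¹)
      (hO.base.conj_mem v⁻¹ (inv_smul_eq_iff.2 hva.symm)) (inv_mem hg₁)
    rw [inv_inv] at h
    exact mul_mem h hg₁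
  have hconj : g⁻¹ * v * g = v * k := by
    have e1 : Commute g₃ k := (parts_commute hO.base.nilp p hkP hg₃).symm
    calc g⁻¹ * v * g = g₃⁻¹ * (v * k) * g₃ := by rw [hg, hk]; group
      _ = g₃⁻¹ * ((v * k) * g₃) := by group
      _ = g₃⁻¹ * (g₃ * (v * k)) := by rw [((hg₃v.mul_right e1)).eq]
      _ = v * k := by group
  have hkF : k ∈ pFix hO.base p b := by
    refine Subgroup.mem_inf.2 ⟨hkP, ?_⟩
    show k • b = b
    have h : (v * k) • b = b := by rw [← hconj, mul_smul, mul_smul, hgb, hvc, ← hgb, inv_smul_smul]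
    rwa [mul_smul, ← eq_inv_smul_iff, show v⁻¹ • b = b by rw [inv_smul_eq_iff, hvb]] at h
  have hxk : x * k = 1 := by
    have hwi : IsInvol (g⁻¹ * t * g) := by simpa using ht.conj g⁻¹
    have hwb : (g⁻¹ * t * g) • b = b := by rw [mul_smul, mul_smul, hgb, htc, ← hgb, inv_smul_smul]
    refine fpf hO p hb hfree (mul_mem hx hkF) hwi hwb ?_
    have h1 : Commute (v * k) (g⁻¹ * t * g) := by
      rw [← hconj]
      have e : v * t = t * v := hvt
      show g⁻¹ * v * g * (g⁻¹ * t * g) = g⁻¹ * t * g * (g⁻¹ * v * g)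
      calc g⁻¹ * v * g * (g⁻¹ * t * g) = g⁻¹ * (v * t) * g := by group
        _ = g⁻¹ * (t * v) * g := by rw [e]
        _ = _ := by group
    rw [show x * k = x'⁻¹ * (v * k) by rw [hv, hxx'.eq]; group]
    exact (hx'cent _ hwi hwb).inv_left.mul_left h1
  have hvg : g⁻¹ * v * g = x' := by
    rw [hconj, hv, hxx'.eq, mul_assoc, hxk, mul_one]
  -- `x` fixes `c`
  have hxc : x • c = c := by
    have hcx' : Commute (g⁻¹ * x * g) x' := by
      rw [← hvg]
      have e : x * v = v * x := ((Commute.refl x).mul_right hxx').eq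
      show g⁻¹ * x * g * (g⁻¹ * v * g) = g⁻¹ * v * g * (g⁻¹ * x * g)
      calc g⁻¹ * x * g * (g⁻¹ * v * g) = g⁻¹ * (x * v) * g := by group
        _ = g⁻¹ * (v * x) * g := by rw [e]
        _ = _ := by group
    set y := g⁻¹ * x * g
    have hyc : Commute (t * y * t) x := by
      have e : y * (t * x * t) = t * x * t * y := hcx'
      show t * y * t * x = x * (t * y * t)
      calc t * y * t * x = t * (y * (t * x * t)) * t := by
            simp only [mul_assoc, ht.2, mul_one]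
        _ = t * (t * x * t * y) * t := by rw [e]
        _ = (t * t) * x * (t * y * t) := by group
        _ = x * (t * y * t) := by rw [ht.2, one_mul]
    have hy' : (t * y * t) • a = a := by
      refine centralizer_fixes hO p hb hfree hx hx1 ?_
      rw [mul_assoc, ← hyc.eq, ← mul_assoc, inv_mul_cancel, one_mul]
      exact Subgroup.mem_zpowers x
    have hyb : y • b = b := hswap y hy'
    have h := congrArg (fun d => g • d) hyb
    simp only [y, mul_smul, smul_inv_smul, hgb] at h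
    exact h
  have hgx : g⁻¹ * x * g ∈ pFix hO.base p b := by
    refine Subgroup.mem_inf.2 ⟨?_, ?_⟩
    · have := pPart_conj hO.base.nilp p (g := g⁻¹)
        (hO.base.conj_mem _ (inv_mem (hO.base.le hgU))) hxp
      rwa [inv_inv] at this
    · show (g⁻¹ * x * g) • b = b
      rw [mul_smul, mul_smul, hgb, hxc, ← hgb, inv_smul_smul]
  have hgxpow : (g⁻¹ * x * g) ^ p = 1 := by
    rw [show g⁻¹ * x * g = g⁻¹ * x * g⁻¹⁻¹ by rw [inv_inv], conj_pow, hxpow, mul_one, mul_inv_cancel]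
  have hzp := mem_zpowers_of_cyclic (pFix_cyclic hO p hb hfree hp2) hx hgx hxord hgxpow
  -- `g` centralises `x`
  have hcomm : g⁻¹ * x * g = x := by
    have hg3x : Commute x g₃ := parts_commute hO.base.nilp p hxp hg₃
    have he1 : g₁⁻¹ * x * g₁ ∈ P := mul_mem (mul_mem (inv_mem hg₁) hxp) hg₁
    have he : g⁻¹ * x * g = g₁⁻¹ * x * g₁ := by
      rw [hg]
      calc (g₁ * g₃)⁻¹ * x * (g₁ * g₃) = g₃⁻¹ * ((g₁⁻¹ * x * g₁) * g₃) := by group
        _ = g₃⁻¹ * (g₃ * (g₁⁻¹ * x * g₁)) := by rw [(parts_commute hO.base.nilp p he1 hg₃).eq]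
        _ = g₁⁻¹ * x * g₁ := by group
    rw [he] at hzp ⊢
    obtain ⟨i, hi⟩ := hzp
    have hiter : ∀ m : ℕ, (g₁ ^ m)⁻¹ * x * g₁ ^ m = x ^ (i ^ m) := by
      intro m
      induction m with
      | zero => simp
      | succ m ih =>
        rw [pow_succ', show (g₁ * g₁ ^ m)⁻¹ * x * (g₁ * g₁ ^ m) =
          (g₁ ^ m)⁻¹ * (g₁⁻¹ * x * g₁) * g₁ ^ m by group, ← hi,
          show (g₁ ^ m)⁻¹ * x ^ i * g₁ ^ m = ((g₁ ^ m)⁻¹ * x * g₁ ^ m) ^ i by
            rw [show ((g₁ ^ m)⁻¹ * x * g₁ ^ m) = (g₁ ^ m)⁻¹ * x * ((g₁ ^ m)⁻¹)⁻¹ by rw [inv_inv],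
              conj_zpow, inv_inv],
          ih, ← zpow_mul, pow_succ]
    obtain ⟨-, l, hl⟩ := (mem_pPart hO.base.nilp p).1 hg₁
    have h := hiter (p ^ l)
    rw [hl, inv_one, one_mul, mul_one] at h
    -- reduce modulo `p`
    have h2 : ((p : ℤ)) ∣ i ^ (p ^ l) - 1 := by
      have h7 : ((orderOf x : ℤ)) ∣ i ^ (p ^ l) - 1 := by
        refine orderOf_dvd_iff_zpow_eq_one.2 ?_
        rw [zpow_sub, zpow_one, ← h, mul_inv_cancel]
      rwa [hxord] at h7
    have h3 : ((i : ZMod p)) = 1 := by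
      have h4 := (ZMod.intCast_zmod_eq_zero_iff_dvd (i ^ (p ^ l) - 1) p).2 h2
      rw [Int.cast_sub, Int.cast_pow, Int.cast_one, ZMod.pow_card_pow, sub_eq_zero] at h4
      exact h4
    have h5 : ((p : ℤ)) ∣ i - 1 := by
      rw [← ZMod.intCast_zmod_eq_zero_iff_dvd, Int.cast_sub, Int.cast_one, h3, sub_self]
    show g₁⁻¹ * x * g₁ = x
    rw [← hi]
    show x ^ i = x
    have h6 : x ^ (i - 1) = 1 := orderOf_dvd_iff_zpow_eq_one.1 (hxord ▸ h5)
    rw [zpow_sub, zpow_one, mul_inv_eq_one] at h6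
    exact h6
  have hgx' : g⁻¹ * x' * g = x⁻¹ * x' := by
    have hxv : x' = x⁻¹ * v := by rw [hv, inv_mul_cancel_left]
    calc g⁻¹ * x' * g = g⁻¹ * (x⁻¹ * v) * g := by rw [← hxv]
      _ = (g⁻¹ * x * g)⁻¹ * (g⁻¹ * v * g) := by group
      _ = x⁻¹ * x' := by rw [hcomm, hvg]
  -- conjugation by `t g t`
  have hh1 : (t * g * t) * x' * (t * g * t)⁻¹ = x' := by
    have e : g * x * g⁻¹ = x := by
      calc g * x * g⁻¹ = g * (g⁻¹ * x * g) * g⁻¹ := by rw [hcomm]
        _ = x := by group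
    rw [hx', mul_inv_rev, mul_inv_rev, hti]
    calc t * g * t * (t * x * t) * (t * (g⁻¹ * t)) = t * g * ((t * t) * x * (t * t)) * g⁻¹ * t := by group
      _ = t * (g * x * g⁻¹) * t := by rw [ht.2, one_mul, mul_one]; group
      _ = t * x * t := by rw [e]
  have hh2 : (t * g * t) * x * (t * g * t)⁻¹ = x' * x := by
    have e : g * x' * g⁻¹ = x * x' := by
      calc g * x' * g⁻¹ = g * (x * (x⁻¹ * x')) * g⁻¹ := by group
        _ = g * x * (g⁻¹ * x' * g) * g⁻¹ := by rw [hgx']; group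
        _ = (g * (g⁻¹ * x * g) * g⁻¹) * (g * (g⁻¹ * x' * g) * g⁻¹) := by rw [hcomm]; group
        _ = x * x' := by group
    have ex : t * x * t = x' := hx'.symm
    have ex' : t * x' * t = x := by
      rw [hx']; simp only [mul_assoc, ht.2, mul_one]; rw [← mul_assoc, ht.2, one_mul]
    rw [mul_inv_rev, mul_inv_rev, hti]
    calc t * g * t * x * (t * (g⁻¹ * t)) = t * (g * (t * x * t) * g⁻¹) * t := by group
      _ = t * (x * x') * t := by rw [ex, e]
      _ = (t * x * t) * (t * x' * t) := by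
          simp only [mul_assoc]; rw [← mul_assoc t t, ht.2, one_mul]
      _ = x' * x := by rw [ex, ex']
  set h := t * g * t
  set m := g * h⁻¹ * g with hm
  have hm1 : m⁻¹ * x * m = x' := by
    calc m⁻¹ * x * m = g⁻¹ * (h * (g⁻¹ * x * g) * h⁻¹) * g := by rw [hm]; group
      _ = g⁻¹ * (x' * x) * g := by rw [hcomm, hh2]
      _ = (g⁻¹ * x' * g) * (g⁻¹ * x * g) := by group
      _ = x⁻¹ * (x' * x) := by rw [hgx', hcomm, mul_assoc]
      _ = x' := by rw [← hxx'.eq, inv_mul_cancel_left]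
  have hm2 : m⁻¹ * x' * m = x⁻¹ := by
    calc m⁻¹ * x' * m = g⁻¹ * (h * (g⁻¹ * x' * g) * h⁻¹) * g := by rw [hm]; group
      _ = g⁻¹ * ((h * x * h⁻¹)⁻¹ * (h * x' * h⁻¹)) * g := by rw [hgx']; group
      _ = g⁻¹ * (x⁻¹ * (x'⁻¹ * x')) * g := by rw [hh2, hh1]; group
      _ = (g⁻¹ * x * g)⁻¹ := by group
      _ = x⁻¹ := by rw [hcomm]
  set n := m * m with hn
  have hn1 : n⁻¹ * x * n = x⁻¹ := by
    calc n⁻¹ * x * n = m⁻¹ * (m⁻¹ * x * m) * m := by rw [hn]; group
      _ = x⁻¹ := by rw [hm1, hm2]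
  have hn2 : n⁻¹ * x' * n = x'⁻¹ := by
    calc n⁻¹ * x' * n = m⁻¹ * (m⁻¹ * x' * m) * m := by rw [hn]; group
      _ = m⁻¹ * x⁻¹ * m := by rw [hm2]
      _ = (m⁻¹ * x * m)⁻¹ := by group
      _ = x'⁻¹ := by rw [hm1]
  have hna : n • a = a := centralizer_fixes hO p hb hfree hx hx1
    (by rw [hn1]; exact inv_mem (Subgroup.mem_zpowers x))
  have hnb : n • b = b := by
    have h1 : (t * n * t) • a = a := by
      refine centralizer_fixes hO p hb hfree hx hx1 ?_
      rw [mul_inv_rev, mul_inv_rev, hti,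
        show t * (n⁻¹ * t) * x * (t * n * t) = t * (n⁻¹ * (t * x * t) * n) * t by group, ← hx', hn2, hx']
      simp only [mul_inv_rev, hti, mul_assoc, ht.2, mul_one]
      rw [← mul_assoc, ht.2, one_mul]
      exact inv_mem (Subgroup.mem_zpowers x)
    exact hswap n h1
  have hnodd : Odd (orderOf n) := (hO.odd_stab b hb).of_dvd_nat
    (Subgroup.orderOf_dvd_natCard _ (Subgroup.mem_inf.2 ⟨hna, hnb⟩))
  have hiter : ∀ j : ℕ, (n ^ (2 * j + 1))⁻¹ * x * n ^ (2 * j + 1) = x⁻¹ := by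
    intro j
    induction j with
    | zero => simpa using hn1
    | succ j ih =>
      rw [show 2 * (j + 1) + 1 = (2 * j + 1) + 1 + 1 by ring, pow_succ, pow_succ]
      calc (n ^ (2 * j + 1) * n * n)⁻¹ * x * (n ^ (2 * j + 1) * n * n)
          = n⁻¹ * (n⁻¹ * ((n ^ (2 * j + 1))⁻¹ * x * n ^ (2 * j + 1)) * n) * n := by group
        _ = n⁻¹ * (n⁻¹ * x * n)⁻¹ * n := by rw [ih]; group
        _ = x⁻¹ := by rw [hn1, inv_inv, hn1]
  obtain ⟨j, hj⟩ := hnodd
  have h := hiter j
  rw [← hj, pow_orderOf_eq_one, inv_one, one_mul, mul_one] at h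
  have h2 : x ^ 2 = 1 := by rw [pow_two]; nth_rewrite 1 [h]; exact inv_mul_cancel x
  exact hp2 (((Nat.prime_dvd_prime_iff_eq hp.out Nat.prime_two).1 (hxord ▸ orderOf_dvd_of_pow_eq_one h2)))

end Cfsg.Agent.RankOneSplit
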