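import Cfsg.Agent.Lib.RankOneSplit.OddBase

/-!
# Restriction to an invariant set of points
-/

set_option autoImplicit false
set_option linter.unusedSectionVars false
set_option linter.style.haveILetI false
set_option linter.unusedVariables false

namespace Cfsg.Agent.RankOneSplit

open MulAction Cfsg.Agent.RankOne

universe u v

variable {G : Type u} {Ω : Type v} [Group G] [MulAction G Ω]

/-- `N` maps the set `E` into itself. -/
def Invariant (N : Subgroup G) (E : Set Ω) : Prop := ∀ g ∈ N, ∀ c ∈ E, g • c ∈ E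

/-- The action on an invariant set. -/
def restrictHom {N : Subgroup G} {E : Set Ω} (h : Invariant N E) : N →* Equiv.Perm E where
  toFun g :=
    { toFun := fun c => ⟨(g : G) • (c : Ω), h g g.2 c c.2⟩
      invFun := fun c => ⟨(g : G)⁻¹ • (c : Ω), h _ (inv_mem g.2) c c.2⟩
      left_inv := fun c => Subtype.ext (inv_smul_smul _ _)
      right_inv := fun c => Subtype.ext (smul_inv_smul _ _) }
  map_one' := Equiv.ext fun c => Subtype.ext (one_smul G (c : Ω))
  map_mul' g k := Equiv.ext fun c => Subtype.ext (mul_smul (g : G) k (c : Ω))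

/-- The group induced on an invariant set. -/
abbrev restrictGroup {N : Subgroup G} {E : Set Ω} (h : Invariant N E) : Subgroup (Equiv.Perm E) :=
  (restrictHom h).range

/-- The induced element. -/
abbrev restrictElt {N : Subgroup G} {E : Set Ω} (h : Invariant N E) : N →* restrictGroup h :=
  (restrictHom h).rangeRestrict

theorem restrictElt_smul {N : Subgroup G} {E : Set Ω} (h : Invariant N E) (g : N) (c : E) :
    ((restrictElt h g • c : E) : Ω) = (g : G) • (c : Ω) := rfl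

/-- The image of `U` in the induced group. -/
abbrev restrictU {N : Subgroup G} {E : Set Ω} (h : Invariant N E) (U : Subgroup G) :
    Subgroup (restrictGroup h) :=
  (U.subgroupOf N).map (restrictElt h)

theorem mem_restrictU {N : Subgroup G} {E : Set Ω} (h : Invariant N E) (U : Subgroup G)
    {x : restrictGroup h} : x ∈ restrictU h U ↔ ∃ g : N, (g : G) ∈ U ∧ restrictElt h g = x :=
  Subgroup.mem_map

/-- The data making the induced group doubly transitive. -/
structure RestrictData (a : Ω) (U N : Subgroup G) (E : Set Ω) : Prop where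
  inv : Invariant N E
  mem : a ∈ E
  other : ∃ b ∈ E, b ≠ a
  swap : ∀ c ∈ E, ∃ g ∈ N, g • a = c
  uTrans : ∀ c ∈ E, ∀ d ∈ E, c ≠ a → d ≠ a → ∃ x ∈ U, x ∈ N ∧ x • c = d

section

variable [Finite G] [FaithfulSMul G Ω] {a : Ω} {U N : Subgroup G} {E : Set Ω}

theorem restrict_nilp (hU : Group.IsNilpotent U) (h : Invariant N E) :
    Group.IsNilpotent (restrictU h U) := by
  haveI := hU
  let f : U.subgroupOf N →* U :=
    { toFun := fun x => ⟨((x : N) : G), x.2⟩
      map_one' := rfl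
      map_mul' := fun _ _ => rfl }
  haveI : Group.IsNilpotent (U.subgroupOf N) := by
    refine Subgroup.isNilpotent_of_ker_le_center f ?_
    rw [(MonoidHom.ker_eq_bot_iff f).mpr fun x y e => Subtype.ext (Subtype.ext
      (congrArg (fun z : U => (z : G)) e))]
    exact bot_le
  exact Group.nilpotent_of_surjective ((restrictElt h).subgroupMap (U.subgroupOf N))
    ((restrictElt h).subgroupMap_surjective (U.subgroupOf N))

/-- The induced group satisfies the hypotheses again. -/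
theorem restrict_odd (hb : SplitPerm a U) (hd : RestrictData a U N E) (hodd : Odd (Nat.card E))
    (hstab : ∀ c : E, (c : Ω) ≠ a → Odd (Nat.card
      ↥((stabilizer G a ⊓ stabilizer G (c : Ω) ⊓ N).subgroupOf N |>.map (restrictElt hd.inv))))
    (hfour : ∃ x y : G, x ∈ N ∧ y ∈ N ∧ x ∈ hb.A ∧ y ∈ hb.A ∧ x ≠ 1 ∧ y ≠ 1 ∧ x ≠ y) :
    OddSplit (G := restrictGroup hd.inv) (⟨a, hd.mem⟩ : E) (restrictU hd.inv U) := by
  haveI := hb.finite
  haveI : Finite (Equiv.Perm E) := Finite.of_injective (fun σ : Equiv.Perm E => (σ : E → E))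
    (fun σ τ h => Equiv.ext (congrFun h))
  set X := restrictGroup hd.inv
  set ρ := restrictElt hd.inv
  have hsurj : ∀ x : X, ∃ g : N, ρ g = x := (restrictHom hd.inv).rangeRestrict_surjective
  have hne : ∀ {c : E}, c ≠ ⟨a, hd.mem⟩ → (c : Ω) ≠ a := fun hc e => hc (Subtype.ext e)
  -- stabiliser factorisation
  have hfac : ∀ x : X, x • (⟨a, hd.mem⟩ : E) = ⟨a, hd.mem⟩ → ∀ c : E, c ≠ ⟨a, hd.mem⟩ →
      ∃ u : N, (u : G) ∈ U ∧ ∃ d : N, (d : G) ∈ stabilizer G a ⊓ stabilizer G (c : Ω) ∧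
        x = ρ u * ρ d := by
    intro x hx c hc
    obtain ⟨g, rfl⟩ := hsurj x
    have hga : (g : G) • a = a := congrArg Subtype.val hx
    have hgc : (g : G) • (c : Ω) ≠ a := fun e => hne hc (MulAction.injective (g : G) (e.trans hga.symm))
    obtain ⟨u, huU, huN, hu⟩ := hd.uTrans c c.2 _ (hd.inv g g.2 c c.2) (hne hc) hgc
    refine ⟨⟨u, huN⟩, huU, ⟨u, huN⟩⁻¹ * g, ?_, by rw [map_mul, map_inv, mul_inv_cancel_left]⟩
    refine Subgroup.mem_inf.2 ⟨?_, ?_⟩
    · show ((u : G)⁻¹ * g) • a = a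
      rw [mul_smul, hga, inv_smul_eq_iff, smul_a_of_mem hb huU]
    · show ((u : G)⁻¹ * g) • (c : Ω) = c
      rw [mul_smul, ← hu, inv_smul_smul]
  have hle : restrictU hd.inv U ≤ stabilizer X (⟨a, hd.mem⟩ : E) := by
    intro x hx
    obtain ⟨g, hg, rfl⟩ := (mem_restrictU hd.inv U).1 hx
    exact Subtype.ext (smul_a_of_mem hb hg)
  have hconj : ∀ h ∈ stabilizer X (⟨a, hd.mem⟩ : E), ∀ x ∈ restrictU hd.inv U,
      h * x * h⁻¹ ∈ restrictU hd.inv U := by
    intro h hh x hx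
    obtain ⟨k, rfl⟩ := hsurj h
    obtain ⟨g, hg, rfl⟩ := (mem_restrictU hd.inv U).1 hx
    refine (mem_restrictU hd.inv U).2 ⟨k * g * k⁻¹, ?_, by simp only [map_mul, map_inv]; rfl⟩
    exact hb.conj_mem (k : G) (congrArg Subtype.val hh) (g : G) hg
  have hstabsub : ∀ c : E, c ≠ ⟨a, hd.mem⟩ →
      stabilizer X (⟨a, hd.mem⟩ : E) ⊓ stabilizer X c ≤
        ((stabilizer G a ⊓ stabilizer G (c : Ω) ⊓ N).subgroupOf N).map ρ := by
    intro c _ x hx
    obtain ⟨hxa, hxc⟩ := Subgroup.mem_inf.1 hx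
    obtain ⟨g, rfl⟩ := hsurj x
    exact ⟨g, ⟨⟨congrArg Subtype.val hxa, congrArg Subtype.val hxc⟩, g.2⟩, rfl⟩
  obtain ⟨b, hbE, hba⟩ := hd.other
  refine ⟨{ two := ?_, le := hle, conj_mem := hconj, trans := ?_, nilp := restrict_nilp hb.nilp hd.inv,
            two_mem := ?_, finite := inferInstance, odd_points := hodd,
            nontriv := ⟨⟨b, hbE⟩, fun e => hba (congrArg Subtype.val e)⟩ }, ?_, ?_⟩
  · have key : ∀ c d : E, c ≠ d → ∃ x : X, x • (⟨a, hd.mem⟩ : E) = c ∧ x • (⟨b, hbE⟩ : E) = d := by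
      intro c d hcd
      obtain ⟨g, hgN, hg⟩ := hd.swap c c.2
      have hd' : g⁻¹ • (d : Ω) ≠ a := fun e => hcd (Subtype.ext (by
        rw [← hg, ← e, smul_inv_smul]))
      obtain ⟨u, huU, huN, hu⟩ := hd.uTrans b hbE _ (hd.inv _ (inv_mem hgN) d d.2) hba hd'
      refine ⟨ρ (⟨g, hgN⟩ * ⟨u, huN⟩), Subtype.ext ?_, Subtype.ext ?_⟩
      · show (g * u) • a = (c : Ω)
        rw [mul_smul, smul_a_of_mem hb huU, hg]
      · show (g * u) • b = (d : Ω)
        rw [mul_smul, hu, smul_inv_smul]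
    rw [MulAction.is_two_pretransitive_iff]
    intro c d c' d' hcd hcd'
    obtain ⟨x, hx1, hx2⟩ := key c d hcd
    obtain ⟨y, hy1, hy2⟩ := key c' d' hcd'
    exact ⟨y * x⁻¹, by rw [← hx1, mul_smul, inv_smul_smul, hy1], by rw [← hx2, mul_smul, inv_smul_smul, hy2]⟩
  · intro c d hc hc'
    obtain ⟨u, huU, huN, hu⟩ := hd.uTrans c c.2 d d.2 (hne hc) (hne hc')
    exact ⟨ρ ⟨u, huN⟩, (mem_restrictU hd.inv U).2 ⟨_, huU, rfl⟩, Subtype.ext hu⟩
  · intro x hx h2
    have hbne : (⟨b, hbE⟩ : E) ≠ ⟨a, hd.mem⟩ := fun e => hba (congrArg Subtype.val e)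
    refine two_mem_of_cover (H := stabilizer X (⟨a, hd.mem⟩ : E) ⊓ stabilizer X (⟨b, hbE⟩ : E))
      hconj inf_le_left ?_ ?_ hx h2
    · exact (hstab ⟨b, hbE⟩ hba).of_dvd_nat (Subgroup.card_dvd_of_le (hstabsub _ hbne))
    · intro g hg
      obtain ⟨u, huU, d, hd', rfl⟩ := hfac g hg _ hbne
      exact ⟨ρ u, (mem_restrictU hd.inv U).2 ⟨u, huU, rfl⟩, ρ d,
        Subgroup.mem_inf.2 ⟨Subtype.ext (Subgroup.mem_inf.1 hd').1,
          Subtype.ext (Subgroup.mem_inf.1 hd').2⟩, rfl⟩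
  · intro c hc
    exact (hstab c (hne hc)).of_dvd_nat (Subgroup.card_dvd_of_le (hstabsub c hc))
  · obtain ⟨x, y, hxN, hyN, hx, hy, hx1, hy1, hxy⟩ := hfour
    have hinj : ∀ {g : G} (hgN : g ∈ N), g ∈ hb.A → ρ ⟨g, hgN⟩ = 1 → g = 1 := by
      intro g hgN hg e
      by_contra hg1
      exact hba (A_fix hb hg hg1 (congrArg (fun z : X => (((z • (⟨b, hbE⟩ : E)) : E) : Ω)) e |>.trans
        (by rw [one_smul])))
    refine ⟨ρ ⟨x, hxN⟩, ρ ⟨y, hyN⟩, Subtype.ext (smul_a_of_mem hb (A_le hb hx)),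
      Subtype.ext (smul_a_of_mem hb (A_le hb hy)), ⟨fun e => hx1 (hinj hxN hx e), ?_⟩,
      ⟨fun e => hy1 (hinj hyN hy e), ?_⟩, ?_, ?_⟩
    · rw [← map_mul, show (⟨x, hxN⟩ : N) * ⟨x, hxN⟩ = 1 from Subtype.ext hx.2.1, map_one]
    · rw [← map_mul, show (⟨y, hyN⟩ : N) * ⟨y, hyN⟩ = 1 from Subtype.ext hy.2.1, map_one]
    · intro e
      have h1 : ρ ⟨x * y, mul_mem hxN hyN⟩ = 1 := by
        rw [show (⟨x * y, mul_mem hxN hyN⟩ : N) = ⟨x, hxN⟩ * ⟨y, hyN⟩ from rfl, map_mul, e, ← map_mul,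
          show (⟨y, hyN⟩ : N) * ⟨y, hyN⟩ = 1 from Subtype.ext hy.2.1, map_one]
      have h2 := hinj (mul_mem hxN hyN) (mul_mem hx hy) h1
      exact hxy (by
        calc x = x * y * y := by rw [mul_assoc, hy.2.1, mul_one]
          _ = y := by rw [h2, one_mul])
    · have : Commute (⟨x, hxN⟩ : N) ⟨y, hyN⟩ := Subtype.ext (A_central hb hx (A_le hb hy)).eq
      exact this.map ρ

/-- An invariant set containing `a` on which a non-trivial element of `A` acts has odd cardinality. -/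
theorem odd_card_of_A (hb : SplitPerm a U) (hinv : Invariant N E) (ha : a ∈ E) {z : G} (hz : z ∈ hb.A)
    (hz1 : z ≠ 1) (hzN : z ∈ N) : Odd (Nat.card E) := by
  classical
  haveI := hb.finite
  haveI : Fintype E := Fintype.ofFinite E
  haveI := Fact.mk Nat.prime_two
  set σ : Equiv.Perm E := restrictHom hinv ⟨z, hzN⟩
  have hσ : σ ^ 2 ^ 1 = 1 := by
    rw [pow_one, pow_two]
    show restrictHom hinv ⟨z, hzN⟩ * restrictHom hinv ⟨z, hzN⟩ = 1
    rw [← map_mul, show (⟨z, hzN⟩ : N) * ⟨z, hzN⟩ = 1 from Subtype.ext hz.2.1, map_one]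
  have h := Equiv.Perm.card_compl_support_modEq hσ
  have h1 : σ.supportᶜ = {(⟨a, ha⟩ : E)} := by
    ext c
    simp only [Finset.mem_compl, Equiv.Perm.mem_support, ne_eq, not_not, Finset.mem_singleton]
    constructor
    · exact fun e => Subtype.ext (A_fix hb hz hz1 (congrArg Subtype.val e))
    · rintro rfl
      exact Subtype.ext (smul_a_of_mem hb (A_le hb hz))
  rw [h1, Finset.card_singleton, ← Nat.card_eq_fintype_card] at h
  exact Nat.odd_iff.2 h.symm

end

end Cfsg.Agent.RankOneSplit
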