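import Cfsg.Agent.Lib.RankOneSplit.EvenLayers
import Cfsg.Agent.Lib.RankOne.FromSE
import Cfsg.Agent.S0215
import Cfsg.Agent.S0111

/-!
# A simple group in the split set-up is a rank-one set-up
-/

set_option autoImplicit false
set_option linter.unusedSectionVars false
set_option linter.style.haveILetI false
set_option linter.unusedVariables false

namespace Cfsg.Agent.RankOneSplit

open MulAction Cfsg.Agent.RankOne

universe u

variable {G Ω : Type u} [Group G] [MulAction G Ω] [Finite G] [FaithfulSMul G Ω] [IsSimpleGroup G]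
variable {a : Ω} {U : Subgroup G} (hS : SplitPerm a U)
include hS

/-- `T` is a Sylow `2`-subgroup of `G`. -/
theorem sylow_T : ∃ P : Sylow 2 G, (P : Subgroup G) = hS.T := by
  haveI := hS.finite
  haveI := Fact.mk Nat.prime_two
  obtain ⟨P, hP⟩ := (pPart_isPGroup hS.nilp 2).exists_le_sylow
  refine ⟨P, le_antisymm (fun x hx => ?_) hP⟩
  -- `P` fixes a point, which must be `a`
  haveI : Fintype Ω := Fintype.ofFinite Ω
  have hmod := P.isPGroup'.card_modEq_card_fixedPoints Ω
  have hne : (MulAction.fixedPoints (P : Subgroup G) Ω).Nonempty := by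
    by_contra h
    rw [Set.not_nonempty_iff_eq_empty] at h
    have h1 : Nat.card Ω % 2 = 1 := Nat.odd_iff.1 hS.odd_points
    rw [Nat.ModEq, h] at hmod
    simp at hmod
    rw [Nat.card_eq_fintype_card] at h1
    omega
  obtain ⟨c, hc⟩ := hne
  obtain ⟨z, hz, hz1⟩ := exists_A hS
  have hca : c = a := A_fix hS hz hz1 (hc ⟨z, hP (A_le_T hS hz)⟩)
  obtain ⟨k, hk⟩ := P.isPGroup' ⟨x, hx⟩
  exact two_mem_T hS (hca ▸ hc ⟨x, hx⟩) ⟨k, by simpa using congrArg Subtype.val hk⟩

theorem not_card_two_of_simple : Nat.card G ≠ 2 := fun h => by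
  haveI := hS.finite
  haveI := pretrans hS
  have h3 := three_le_points hS
  have hle : Nat.card Ω ≤ Nat.card G :=
    Nat.card_le_card_of_surjective (fun g : G => g • a) (fun c => pretrans hS a c)
  omega

/-- `|A| ≥ 4`. -/
theorem four_le_A : 4 ≤ Nat.card hS.A := by
  classical
  haveI := hS.finite
  haveI := Fact.mk Nat.prime_two
  by_contra hlt
  obtain ⟨z, hz, hz1⟩ := exists_A hS
  obtain ⟨n, hn⟩ := IsPGroup.iff_card.1 ((pPart_isPGroup hS.nilp 2).to_le (A_le_T hS))
  have hn1 : n = 1 := by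
    rcases n with _ | _ | n
    · exfalso
      rw [pow_zero, Subgroup.card_eq_one] at hn
      exact hz1 ((Subgroup.eq_bot_iff_forall _).1 hn z hz)
    · rfl
    · exfalso
      apply hlt
      rw [hn]
      calc 4 = 2 ^ 2 := by norm_num
        _ ≤ _ := Nat.pow_le_pow_right (by norm_num) (by omega)
  have hA : ∀ w ∈ hS.A, w = 1 ∨ w = z := by
    intro w hw
    by_contra h
    push Not at h
    haveI : Fintype hS.A := Fintype.ofFinite _
    have h3 : ({1, ⟨z, hz⟩, ⟨w, hw⟩} : Finset hS.A).card ≤ Fintype.card hS.A := Finset.card_le_univ _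
    rw [Finset.card_insert_of_notMem (by simp; exact ⟨fun e => hz1 (congrArg Subtype.val e.symm), fun e => h.1 (congrArg Subtype.val e.symm)⟩),
      Finset.card_insert_of_notMem (by simp; exact fun e => h.2 e.symm), Finset.card_singleton,
      ← Nat.card_eq_fintype_card, hn, hn1] at h3
    norm_num at h3
  obtain ⟨P, hP⟩ := sylow_T hS
  have hat := atype_base hS hz hz1
  obtain ⟨N, hN, hNodd, hcomm⟩ := S0215.result P z (atype_invol hS hat).orderOf
    (show z ∈ (P : Subgroup G) from hP.symm ▸ A_le_T hS hz) fun g hg => by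
      have hgT : g * z * g⁻¹ ∈ hS.T := hP ▸ (show g * z * g⁻¹ ∈ (P : Subgroup G) from hg)
      have h1 := atype_point hS (atype_conj hS hat g) (smul_a_of_mem hS (pPart_le _ _ hgT))
      exact (hA _ (atype_mem hS h1)).resolve_left h1.1
  rcases hN.eq_bot_or_eq_top with hb | ht
  · obtain ⟨b, hb'⟩ := hS.nontriv
    obtain ⟨g, hg⟩ := pretrans hS a b
    have hc : z * g * z⁻¹ * g⁻¹ = 1 := Subgroup.mem_bot.1 (hb ▸ hcomm g)
    have hcom : Commute g z := by
      show g * z = z * g
      calc g * z = (z * g * z⁻¹ * g⁻¹) * g * z := by rw [hc, one_mul]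
        _ = z * g := by group
    exact hb' (A_fix hS hz hz1 (hg ▸ smul_eq_of_commute hcom (smul_a_of_mem hS (A_le hS hz))))
  · subst ht
    rw [Subgroup.card_top] at hNodd
    have h2 := orderOf_dvd_natCard z
    rw [(atype_invol hS hat).orderOf] at h2
    exact Nat.not_even_iff_odd.2 hNodd (even_iff_two_dvd.2 h2)

/-- No involution of `U` fixes a second point. -/
theorem no_invol_fix {b : Ω} (hb : b ≠ a) {H : Subgroup G} (hHle : H ≤ stabilizer G a ⊓ stabilizer G b)
    (hHodd : Odd (Nat.card H))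
    (hcov : ∀ d ∈ stabilizer G a ⊓ stabilizer G b, ∃ τ ∈ U, τ • b = b ∧ ∃ k ∈ H, d = τ * k) {y : G}
    (hy : y ∈ tFix hS b) (hyi : IsInvol y) : False := by
  have h4 := four_le_A hS
  have C : EvenCtx a b U H :=
    { base := hS
      four := h4
      hb := hb
      two := isPGroup_of_fix hS b h4 hb hy hyi
      ne_bot := ⟨y, pPart_le _ _ (Subgroup.mem_inf.1 hy).1, (Subgroup.mem_inf.1 hy).2, hyi.1⟩
      H_le := hHle
      H_odd := hHodd
      cover := hcov }
  obtain ⟨y, M, hy, hMU, hrel, hM⟩ := exists_transfer_subgroup C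
  obtain ⟨P, hP⟩ := sylow_T hS
  have hTU : hS.T = U := le_antisymm (pPart_le _ _) fun x hx => mem_T C hx
  have hPU : (P : Subgroup G) = U := hP.trans hTU
  have hyU : y ∈ U := T0_le C hy.mem
  rcases S0111.result P M (hPU ▸ hMU) (hPU ▸ hrel) y hy.invol.orderOf (hPU ▸ hyU)
      (fun h => hM 1 (by simpa using hyU) (by simpa using h)) with ⟨L, hL, hLi, -⟩ | ⟨g, hg⟩
  · rcases hL.eq_bot_or_eq_top with hb' | ht
    · rw [hb', Subgroup.index_bot] at hLi
      exact not_card_two_of_simple hS hLi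
    · rw [ht, Subgroup.index_top] at hLi
      norm_num at hLi
  · exact hM g (hMU hg) hg

/-- The set-up of the classification. -/
theorem exists_rankOneSetup {b : Ω} (hb : b ≠ a) {H : Subgroup G}
    (hHle : H ≤ stabilizer G a ⊓ stabilizer G b) (hHodd : Odd (Nat.card H))
    (hcov : ∀ d ∈ stabilizer G a ⊓ stabilizer G b, ∃ τ ∈ U, τ • b = b ∧ ∃ k ∈ H, d = τ * k) :
    ∃ t : G, Cfsg.IsRankOneSetup G Ω a t U ∧
      ∃ x y : G, x ≠ 1 ∧ y ≠ 1 ∧ x ≠ y ∧ x * x = 1 ∧ y * y = 1 ∧ x * y = y * x := by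
  classical
  haveI := hS.finite
  haveI := Fact.mk Nat.prime_two
  have hodd : ∀ c : Ω, c ≠ a → Odd (Nat.card ↥(stabilizer G a ⊓ stabilizer G c)) := by
    intro c hc
    rw [← Nat.not_even_iff_odd, even_iff_two_dvd]
    intro h2
    obtain ⟨x, hx⟩ := exists_prime_orderOf_dvd_card' (G := ↥(stabilizer G a ⊓ stabilizer G c)) 2 h2
    rw [← Subgroup.orderOf_coe] at hx
    obtain ⟨hxa, hxc⟩ := Subgroup.mem_inf.1 x.2
    have hxi : IsInvol (x : G) := ⟨fun e => by rw [e, orderOf_one] at hx; norm_num at hx, by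
      have := pow_orderOf_eq_one (x : G)
      rwa [hx, pow_two] at this⟩
    obtain ⟨u, hu, rfl⟩ := hS.trans b c hb hc
    have hy : IsInvol (u⁻¹ * x * u) := by simpa using hxi.conj u⁻¹
    refine no_invol_fix hS hb hHle hHodd hcov (Subgroup.mem_inf.2 ⟨invol_mem_T hS hy ?_, ?_⟩) hy
    · rw [mul_smul, mul_smul, smul_a_of_mem hS hu, show (x : G) • a = a from hxa, inv_smul_eq_iff,
        smul_a_of_mem hS hu]
    · show (u⁻¹ * (x : G) * u) • b = b
      rw [mul_smul, mul_smul, show (x : G) • (u • b) = u • b from hxc, inv_smul_smul]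
  have h4 := four_le_A hS
  haveI : Fintype hS.A := Fintype.ofFinite _
  obtain ⟨x, hx, y, hy, hxy⟩ : ∃ x ∈ (Finset.univ.erase (1 : hS.A)),
      ∃ y ∈ (Finset.univ.erase (1 : hS.A)), x ≠ y := by
    refine Finset.one_lt_card.1 ?_
    rw [Finset.card_erase_of_mem (Finset.mem_univ _), Finset.card_univ, ← Nat.card_eq_fintype_card]
    omega
  have hi : ∀ w ∈ Finset.univ.erase (1 : hS.A), IsInvol (w : G) := fun w hw =>
    ⟨fun e => (Finset.mem_erase.1 hw).1 (Subtype.ext e), w.2.2.1⟩
  have hO : OddSplit a U :=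
    { base := hS
      odd_stab := hodd
      four := ⟨x, y, smul_a_of_mem hS (A_le hS x.2), smul_a_of_mem hS (A_le hS y.2), hi x hx, hi y hy,
        fun e => hxy (Subtype.ext e), A_central hS x.2 (A_le hS y.2)⟩ }
  obtain ⟨t, ht, hta, -⟩ := exists_swap hO hb
  exact ⟨t, setup_of_regular hO hb (fun z hz hzb => regular hO hb hz hzb) ht (hta ▸ hb),
    exists_commuting hO⟩

end Cfsg.Agent.RankOneSplit
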